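import Cfsg.Agent.H49.Tetrad.Basic
import Cfsg.Agent.H93.U4Points
import Cfsg.Agent.H93.Parity

/-!
Groups of type M(24): the tetrads orthogonal to a given one form the orthogonality graph of the forty
five points of a four dimensional unitary space.
-/

set_option autoImplicit false

namespace Cfsg.Agent.H49.Tetrad

open Cfsg.Agent.H93 Cfsg.Agent.H61.M24 Cfsg.Agent.H64.M24Triple
open Cfsg.Agent.Unitary (perp Nondeg nondeg_pair nondeg_perp exists_partner finrank_pair
  finrank_perp_add nondeg_top perp_span mem_perp_span)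

variable {G : Type*} [Group G] {D : Set G} {z : G}

/-- tetrads -/
abbrev Tet (D : Set G) (z : G) : Type _ := {T : Set G // IsTetrad D z T}

/-- distinct elementwise commuting tetrads -/
def TAdj (S S' : Tet D z) : Prop := S ≠ S' ∧ ∀ x ∈ S.1, ∀ y ∈ S'.1, Commute x y

theorem TAdj.symm {S S' : Tet D z} (h : TAdj S S') : TAdj S' S :=
  ⟨h.1.symm, fun x hx y hy => (h.2 y hy x hx).symm⟩

theorem tadj_of_mem (htt : TT D) (hind : Indep D 7) {S S' : Tet D z} {x y : G} (hx : x ∈ S.1)
    (hy : y ∈ S'.1) (hne : x ∉ S'.1) (hc : Commute x y) : TAdj S S' :=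
  ⟨fun e => hne (e ▸ hx), fun _ hu _ hv => S.2.commute_cross htt S'.2 hx hy hc hu hv⟩

/-- an element of the group generated by three members, as a short product -/
theorem mem_closure_three (htt : TT D) {a b c x : G} (ha : a ∈ D) (hb : b ∈ D) (hc : c ∈ D)
    (ab : Commute a b) (ac : Commute a c) (bc : Commute b c)
    (hx : x ∈ Subgroup.closure ({a, b, c} : Set G)) :
    x ∈ [1, a, b, c, a * b, a * c, b * c, a * b * c] := by
  have sa := htt.sq a ha
  have sb := htt.sq b hb
  have sc := htt.sq c hc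
  have ca : ∀ r, a * (a * r) = r := htt.cancel ha
  have cb : ∀ r, b * (b * r) = r := htt.cancel hb
  have cc : ∀ r, c * (c * r) = r := htt.cancel hc
  have ba : b * a = a * b := ab.symm.eq
  have ca' : c * a = a * c := ac.symm.eq
  have cb' : c * b = b * c := bc.symm.eq
  have ba2 : ∀ r, b * (a * r) = a * (b * r) := fun r => by rw [← mul_assoc, ba, mul_assoc]
  have ca2 : ∀ r, c * (a * r) = a * (c * r) := fun r => by rw [← mul_assoc, ca', mul_assoc]
  have cb2 : ∀ r, c * (b * r) = b * (c * r) := fun r => by rw [← mul_assoc, cb', mul_assoc]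
  have step : ∀ s ∈ ({a, b, c} : Set G), ∀ y ∈ [1, a, b, c, a * b, a * c, b * c, a * b * c],
      s * y ∈ [1, a, b, c, a * b, a * c, b * c, a * b * c] := by
    intro s hs y hy
    simp only [Set.mem_insert_iff, Set.mem_singleton_iff] at hs
    simp only [List.mem_cons, List.not_mem_nil, or_false] at hy ⊢
    rcases hs with rfl | rfl | rfl <;> rcases hy with rfl | rfl | rfl | rfl | rfl | rfl | rfl | rfl <;>
      simp only [mul_one, mul_assoc, sa, sb, sc, ca, cb, cc, ba, ca', cb', ba2, ca2, cb2, true_or,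
        or_true]
  induction hx using Subgroup.closure_induction_left with
  | one => simp
  | mul_left s hs y _ ih => exact step s hs y ih
  | inv_mul_cancel s hs y _ ih =>
    rw [htt.inv_eq (by rcases hs with rfl | rfl | rfl <;> assumption)]
    exact step s hs y ih

variable {K : Type*} [Field K] [Fintype K] {hK : Fintype.card K = 4} {a b c d : G}

/-- five commuting common neighbours of a triple whose image is trivial have its product -/
theorem five_abc (htt : TT D) (hind : Indep D 7) (q : Quad D z a b c d) (tri : Tri D a b c K hK)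
    {l : List G} (hlen : l.length = 5) (hnd5 : l.Nodup) (h5 : ∀ y ∈ l, y ∈ T3 D a b c)
    (com5 : ∀ x ∈ l, ∀ y ∈ l, Commute x y)
    (hker : l.prod ∈ Subgroup.closure ({a, b, c} : Set G)) : l.prod = a * b * c := by
  have ha := q.mem a (by simp)
  have hb' := q.mem b (by simp)
  have hc := q.mem c (by simp)
  have ab := q.com a (by simp) b (by simp)
  have ac := q.com a (by simp) c (by simp)
  have bc := q.com b (by simp) c (by simp)
  have hnd4 := q.nd
  simp only [List.nodup_cons, List.mem_cons, List.not_mem_nil, or_false, not_or] at hnd4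
  have short : ∀ s : List G, s.Nodup → s.length ≤ 2 → (∀ y ∈ s, y = a ∨ y = b ∨ y = c) →
      l.prod ≠ s.prod := by
    intro s hs hs2 hsub e
    have hsD : ∀ y ∈ s, y ∈ D := fun y hy => by
      rcases hsub y hy with rfl | rfl | rfl <;> assumption
    have hsc : ∀ x ∈ s, ∀ y ∈ s, Commute x y := fun x hx y hy => by
      rcases hsub x hx with rfl | rfl | rfl <;> rcases hsub y hy with rfl | rfl | rfl
      exacts [Commute.refl _, ab, ac, ab.symm, Commute.refl _, bc, ac.symm, bc.symm, Commute.refl _]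
    have hcross : ∀ x ∈ l, ∀ y ∈ s, Commute x y ∧ x ≠ y := fun x hx y hy => by
      rcases hsub y hy with rfl | rfl | rfl
      exacts [⟨(h5 x hx).1.1.2.2.symm, (h5 x hx).1.1.2.1⟩,
        ⟨(h5 x hx).1.2.2.2.symm, (h5 x hx).1.2.2.1⟩, ⟨(h5 x hx).2.2.2.symm, (h5 x hx).2.2.1⟩]
    refine hind (l ++ s)
      (List.nodup_append.mpr ⟨hnd5, hs, fun x hx y hy => (hcross x hx y hy).2⟩)
      (fun k => by rw [List.append_eq_nil_iff] at k; simp [k.1] at hlen)
      (by rw [List.length_append]; omega)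
      (fun x hx => (List.mem_append.mp hx).elim (fun u => (h5 x u).1.1.1) (hsD x))
      (fun x hx y hy => ?_) ?_
    · rcases List.mem_append.mp hx with u | u <;> rcases List.mem_append.mp hy with u' | u'
      exacts [com5 x u y u', (hcross x u y u').1, (hcross y u' x u).1.symm, hsc x u y u']
    · rw [List.prod_append, e, prod_sq_one htt s hsD hsc]
  have := mem_closure_three htt ha hb' hc ab ac bc hker
  simp only [List.mem_cons, List.not_mem_nil, or_false] at this
  rcases this with e | e | e | e | e | e | e | e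
  · exact (short [] (by simp) (by simp) (by simp) (by simpa using e)).elim
  · exact (short [a] (by simp) (by simp) (by simp) (by simpa using e)).elim
  · exact (short [b] (by simp) (by simp) (by simp) (by simpa using e)).elim
  · exact (short [c] (by simp) (by simp) (by simp) (by simpa using e)).elim
  · exact (short [a, b] (by simp [hnd4.1.1]) (by simp) (by simp) (by simpa using e)).elim
  · exact (short [a, c] (by simp [hnd4.1.2.1]) (by simp) (by simp) (by simpa using e)).elim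
  · exact (short [b, c] (by simp [hnd4.2.1.1]) (by simp) (by simp) (by simpa using e)).elim
  · exact e

/-- four members of a line through the fourth member form a tetrad -/
theorem line_quad (htt : TT D) (hind : Indep D 7) (q : Quad D z a b c d) (tri : Tri D a b c K hK)
    {Z v : Vec K} (hZ : IsPt Z) (hv : IsPt v) (hvZ : hb v Z = 0) (hs : ¬ SamePt v Z)
    (eZ : tri.sp.pt Z = d) {w : K} (hw : w ^ 2 + w + 1 = 0) :
    Quad D z (tri.sp.pt v) (tri.sp.pt (v + Z)) (tri.sp.pt (v + w • Z))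
      (tri.sp.pt (v + w ^ 2 • Z)) := by
  classical
  have e2 := two_zero hK
  have hw0 : w ≠ 0 := fun e => by rw [e] at hw; norm_num at hw
  have hw1 : w ≠ 1 := fun e => by
    rw [e] at hw; exact one_ne_zero (show (1 : K) = 0 by linear_combination hw - e2)
  have hp1 : IsPt (v + Z) := by simpa using isPt_line hK hv hZ hvZ hs 1
  have hp2 := isPt_line hK hv hZ hvZ hs w
  have hp3 := isPt_line hK hv hZ hvZ hs (w ^ 2)
  have hZv := (hb_eq_zero_comm hK).mp hvZ
  set f := tri.sp.pt v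
  set g := tri.sp.pt (v + Z)
  set k := tri.sp.pt (v + w • Z)
  set i := tri.sp.pt (v + w ^ 2 • Z)
  have mf : f ∈ T3 D a b c := tri.sp.mem hv
  have mg : g ∈ T3 D a b c := tri.sp.mem hp1
  have mk : k ∈ T3 D a b c := tri.sp.mem hp2
  have mi : i ∈ T3 D a b c := tri.sp.mem hp3
  have md : d ∈ T3 D a b c := eZ ▸ tri.sp.mem hZ
  -- the linear span
  have hli := indep_pair hv.1 hs
  have hpt : ∀ {x y : Vec K}, IsPt x → IsPt y → ∀ s t s' t' : K, x = s • v + t • Z →
      y = s' • v + t' • Z → (∀ r : K, ¬ (s' = r * s ∧ t' = r * t)) →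
      tri.sp.pt x ≠ tri.sp.pt y := by
    intro x y hx hy s t s' t' ex ey hno e
    obtain ⟨r, hr⟩ := (tri.sp.same hx hy).mp e
    rw [ex, ey, smul_add, smul_smul, smul_smul] at hr
    exact hno r (hli.eq_of_pair hr)
  have hwsq1 : w ^ 2 ≠ 1 := fun e => hw1 (sq_eq_one hK e)
  have hwsqw : w ≠ w ^ 2 := fun e => hw1 (mul_left_cancel₀ hw0 (by rw [mul_one]; linear_combination -e))
  have eV : v = (1 : K) • v + (0 : K) • Z := by simp
  have eZ' : Z = (0 : K) • v + (1 : K) • Z := by simp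
  have e1' : v + Z = (1 : K) • v + (1 : K) • Z := by simp
  have et : ∀ t : K, v + t • Z = (1 : K) • v + t • Z := fun t => by simp
  have hnd : [f, g, k, i].Nodup := by
    simp only [List.nodup_cons, List.mem_cons, List.not_mem_nil, or_false, not_or, List.nodup_nil,
      and_true, not_false_eq_true]
    refine ⟨⟨hpt hv hp1 _ _ _ _ eV e1' ?_, hpt hv hp2 _ _ _ _ eV (et _) ?_,
        hpt hv hp3 _ _ _ _ eV (et _) ?_⟩,
      ⟨hpt hp1 hp2 _ _ _ _ e1' (et _) ?_, hpt hp1 hp3 _ _ _ _ e1' (et _) ?_⟩,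
      hpt hp2 hp3 _ _ _ _ (et _) (et _) ?_⟩ <;> rintro r ⟨h1, h2⟩
    · rw [mul_zero] at h2; exact one_ne_zero h2
    · rw [mul_zero] at h2; exact hw0 h2
    · rw [mul_zero] at h2; exact pow_ne_zero 2 hw0 h2
    · rw [mul_one] at h1 h2; exact hw1 (h2.trans h1.symm)
    · rw [mul_one] at h1 h2; exact hwsq1 (h2.trans h1.symm)
    · rw [mul_one] at h1; rw [← h1, one_mul] at h2; exact hwsqw h2.symm
  have hdn : ∀ y ∈ [f, g, k, i], d ≠ y := by
    intro y hy
    rw [← eZ]
    simp only [List.mem_cons, List.not_mem_nil, or_false] at hy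
    rcases hy with rfl | rfl | rfl | rfl
    · exact hpt hZ hv _ _ _ _ eZ' eV fun r q => one_ne_zero (q.1.trans (mul_zero r))
    · exact hpt hZ hp1 _ _ _ _ eZ' e1' fun r q => one_ne_zero (q.1.trans (mul_zero r))
    · exact hpt hZ hp2 _ _ _ _ eZ' (et _) fun r q => one_ne_zero (q.1.trans (mul_zero r))
    · exact hpt hZ hp3 _ _ _ _ eZ' (et _) fun r q => one_ne_zero (q.1.trans (mul_zero r))
  have orth : ∀ s t s' t' : K, hb (s • v + t • Z) (s' • v + t' • Z) = 0 := fun s t s' t' => by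
    simp [hb_add_left, hb_add_right hK, hb_smul_left, hb_smul_right, hv.2, hZ.2, hvZ, hZv]
  have sp5 : ∀ y ∈ [f, d, g, k, i],
      ∃ x, IsPt x ∧ tri.sp.pt x = y ∧ ∃ s t : K, x = s • v + t • Z := by
    intro y hy
    simp only [List.mem_cons, List.not_mem_nil, or_false] at hy
    rcases hy with rfl | rfl | rfl | rfl | rfl
    exacts [⟨v, hv, rfl, _, _, eV⟩, ⟨Z, hZ, eZ, _, _, eZ'⟩, ⟨_, hp1, rfl, _, _, e1'⟩,
      ⟨_, hp2, rfl, _, _, et _⟩, ⟨_, hp3, rfl, _, _, et _⟩]
  have com5 : ∀ x ∈ [f, d, g, k, i], ∀ y ∈ [f, d, g, k, i], Commute x y := by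
    intro x hx y hy
    obtain ⟨x', hx', rfl, s, t, rfl⟩ := sp5 x hx
    obtain ⟨y', hy', rfl, s', t', rfl⟩ := sp5 y hy
    exact (tri.sp.comm hx' hy').mpr (orth _ _ _ _)
  have hnd5 : [f, d, g, k, i].Nodup := by
    refine List.nodup_cons.mpr ⟨fun hf => ?_, List.nodup_cons.mpr
      ⟨fun hd' => hdn d (List.mem_cons_of_mem _ hd') rfl, (List.nodup_cons.mp hnd).2⟩⟩
    rcases List.mem_cons.mp hf with e | e
    · exact hdn f (by simp) e.symm
    · exact (List.nodup_cons.mp hnd).1 e
  have h5 : ∀ y ∈ [f, d, g, k, i], y ∈ T3 D a b c := by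
    intro y hy
    simp only [List.mem_cons, List.not_mem_nil, or_false] at hy
    rcases hy with rfl | rfl | rfl | rfl | rfl <;> assumption
  -- the product lies in the kernel
  have hker : f * d * g * k * i ∈ Subgroup.closure ({a, b, c} : Set G) := by
    have := (tri.ker (⟨f, T3_mem_C3 mf⟩ * ⟨d, T3_mem_C3 md⟩ * ⟨g, T3_mem_C3 mg⟩ *
      ⟨k, T3_mem_C3 mk⟩ * ⟨i, T3_mem_C3 mi⟩)).mp ?_
    · simpa using this
    rw [map_mul, map_mul, map_mul, map_mul, tri.eq hv,
      show (⟨d, T3_mem_C3 md⟩ : ↥(C3 a b c)) = ⟨tri.sp.pt Z, T3_mem_C3 (tri.sp.mem hZ)⟩ from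
        Subtype.ext eZ.symm, tri.eq hZ, tri.eq hp1, tri.eq hp2, tri.eq hp3]
    exact ptv_line hK hv.2 hZ.2 hvZ hw
  have hd := q.mem d (by simp)
  have e5 : [f, d, g, k, i].prod = f * d * g * k * i := by simp [mul_assoc]
  have habc : f * d * g * k * i = a * b * c :=
    e5.symm.trans (five_abc htt hind q tri rfl hnd5 h5 com5 (e5.symm ▸ hker))
  refine ⟨hnd, fun y hy => (h5 y (by simp at hy ⊢; tauto)).1.1.1, fun x hx y hy =>
    com5 x (by simp at hx ⊢; tauto) y (by simp at hy ⊢; tauto), ?_⟩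
  have cfd : Commute f d := com5 f (by simp) d (by simp)
  have cdabc : Commute d (a * b * c) := by
    exact ((q.com d (by simp) a (by simp)).mul_right (q.com d (by simp) b (by simp))).mul_right
      (q.com d (by simp) c (by simp))
  have hz : z = a * b * c * d := by rw [← q.prod]; simp [mul_assoc]
  simp only [List.prod_cons, List.prod_nil, mul_one]
  calc f * (g * (k * i)) = (f * (d * d)) * g * k * i := by rw [htt.sq d hd, mul_one]; group
    _ = d * (f * d * g * k * i) := by rw [show f * (d * d) = d * (f * d) by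
          rw [← mul_assoc, ← mul_assoc, cfd.eq]]; group
    _ = z := by rw [habc, cdabc.eq, hz]

/-- five pairwise adjacent points: a sixth adjacent to two of them is one of the other three -/
theorem five_clique (i j k1 k2 k3 k : Fin 45) (hnd : [i, j, k1, k2, k3].Nodup)
    (h : ∀ x ∈ [i, j, k1, k2, k3], ∀ y ∈ [i, j, k1, k2, k3], x ≠ y → qAdj x y = true)
    (hi : qAdj i k = true) (hj : qAdj j k = true) : k ∈ [k1, k2, k3] := by
  simp only [List.nodup_cons, List.mem_cons, List.not_mem_nil, or_false, not_or, List.nodup_nil,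
    and_true, not_false_eq_true] at hnd
  obtain ⟨⟨hij, h1, h2, h3⟩, ⟨j1, j2, j3⟩, ⟨k12, k13⟩, k23⟩ := hnd
  set S := Finset.univ.filter fun m => qAdj i m = true ∧ qAdj j m = true with hS
  have hc : S.card = 3 := qAdj_common i j (h i (by simp) j (by simp) hij)
  have hsub : ({k1, k2, k3} : Finset (Fin 45)) ⊆ S := by
    intro m hm
    simp only [Finset.mem_insert, Finset.mem_singleton] at hm
    rw [hS, Finset.mem_filter]
    rcases hm with rfl | rfl | rfl
    exacts [⟨Finset.mem_univ _, h i (by simp) _ (by simp) h1, h j (by simp) _ (by simp) j1⟩,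
      ⟨Finset.mem_univ _, h i (by simp) _ (by simp) h2, h j (by simp) _ (by simp) j2⟩,
      ⟨Finset.mem_univ _, h i (by simp) _ (by simp) h3, h j (by simp) _ (by simp) j3⟩]
  have e := Finset.eq_of_subset_of_card_le hsub
    (by rw [hc, Finset.card_insert_of_notMem (by simp [k12, k13]), Finset.card_pair k23])
  have hk : k ∈ ({k1, k2, k3} : Finset (Fin 45)) := by
    rw [e, hS, Finset.mem_filter]; exact ⟨Finset.mem_univ _, hi, hj⟩
  simpa using hk

/-- the five members of a line are distinct -/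
theorem line_nodup (tri : Tri D a b c K hK) {u v : Vec K} (hu : IsPt u) (hv : IsPt v)
    (huv : hb u v = 0) (hs : ¬ SamePt u v) {w : K} (hw0 : w ≠ 0) (hw1 : w ≠ 1)
    (hw : w ^ 2 + w + 1 = 0) :
    [tri.sp.pt u, tri.sp.pt v, tri.sp.pt (u + v), tri.sp.pt (u + w • v),
      tri.sp.pt (u + w ^ 2 • v)].Nodup := by
  have hli := indep_pair hu.1 hs
  have hpt : ∀ {x y : Vec K}, IsPt x → IsPt y → ∀ s t s' t' : K, x = s • u + t • v →
      y = s' • u + t' • v → (∀ r : K, ¬ (s' = r * s ∧ t' = r * t)) →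
      tri.sp.pt x ≠ tri.sp.pt y := by
    intro x y hx hy s t s' t' ex ey hno e
    obtain ⟨r, hr⟩ := (tri.sp.same hx hy).mp e
    rw [ex, ey, smul_add, smul_smul, smul_smul] at hr
    exact hno r (hli.eq_of_pair hr)
  have p2 : IsPt (u + v) := by simpa using isPt_line hK hu hv huv hs 1
  have p3 := isPt_line hK hu hv huv hs w
  have p4 := isPt_line hK hu hv huv hs (w ^ 2)
  have hwsq1 : w ^ 2 ≠ 1 := fun e => hw1 (sq_eq_one hK e)
  have hwsqw : w ≠ w ^ 2 := fun e => hw1 (mul_left_cancel₀ hw0 (by rw [mul_one]; linear_combination -e))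
  have eU : u = (1 : K) • u + (0 : K) • v := by simp
  have eV : v = (0 : K) • u + (1 : K) • v := by simp
  have e1' : u + v = (1 : K) • u + (1 : K) • v := by simp
  have et : ∀ t : K, u + t • v = (1 : K) • u + t • v := fun t => by simp
  simp only [List.nodup_cons, List.mem_cons, List.not_mem_nil, or_false, not_or, List.nodup_nil,
    and_true, not_false_eq_true]
  refine ⟨⟨hpt hu hv _ _ _ _ eU eV ?_, hpt hu p2 _ _ _ _ eU e1' ?_, hpt hu p3 _ _ _ _ eU (et _) ?_,
      hpt hu p4 _ _ _ _ eU (et _) ?_⟩,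
    ⟨hpt hv p2 _ _ _ _ eV e1' ?_, hpt hv p3 _ _ _ _ eV (et _) ?_, hpt hv p4 _ _ _ _ eV (et _) ?_⟩,
    ⟨hpt p2 p3 _ _ _ _ e1' (et _) ?_, hpt p2 p4 _ _ _ _ e1' (et _) ?_⟩,
    hpt p3 p4 _ _ _ _ (et _) (et _) ?_⟩ <;> rintro r ⟨h1, h2⟩
  · rw [mul_zero] at h2; exact one_ne_zero h2
  · rw [mul_zero] at h2; exact one_ne_zero h2
  · rw [mul_zero] at h2; exact hw0 h2
  · rw [mul_zero] at h2; exact pow_ne_zero 2 hw0 h2
  · rw [mul_zero] at h1; exact one_ne_zero h1
  · rw [mul_zero] at h1; exact one_ne_zero h1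
  · rw [mul_zero] at h1; exact one_ne_zero h1
  · rw [mul_one] at h1 h2; exact hw1 (h2.trans h1.symm)
  · rw [mul_one] at h1 h2; exact hwsq1 (h2.trans h1.symm)
  · rw [mul_one] at h1; rw [← h1, one_mul] at h2; exact hwsqw h2.symm

/-- the orthogonal tetrads are the forty five points -/
theorem exists_local [Finite G] (h : Geo24 D) (T : Tet D z) :
    ∃ e : Fin 45 → Tet D z, Function.Injective e ∧ (∀ i, TAdj T (e i)) ∧
      (∀ S, TAdj T S → ∃ i, e i = S) ∧ (∀ i j, TAdj (e i) (e j) ↔ qAdj i j = true) ∧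
      ∃ (f : Fin 45 → G) (a b c : G), (∀ i, f i ∈ (e i).1) ∧ a ∈ T.1 ∧ b ∈ T.1 ∧ c ∈ T.1 ∧
        ∀ l : List (Fin 45), l.length = 5 → l.Nodup →
          (∀ i ∈ l, ∀ j ∈ l, i ≠ j → qAdj i j = true) → (l.map f).prod = a * b * c := by
  classical
  have htt := h.data.core.tt
  have hind := h.data.ind
  obtain ⟨a, b, c, d, q, hT⟩ := T.2
  have hnd := q.nd
  simp only [List.nodup_cons, List.mem_cons, List.not_mem_nil, or_false, not_or] at hnd
  have mk : ∀ {x y : G}, x ∈ [a, b, c, d] → y ∈ [a, b, c, d] → x ≠ y → y ∈ nb D x :=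
    fun hx hy hne => ⟨q.mem _ hy, hne.symm, q.com _ hx _ hy⟩
  have ht : IsTriple D a b c := ⟨q.mem a (by simp), mk (by simp) (by simp) hnd.1.1,
    mk (by simp) (by simp) hnd.1.2.1, mk (by simp) (by simp) hnd.2.1.1⟩
  have hd3 : d ∈ T3 D a b c := ⟨⟨mk (by simp) (by simp) hnd.1.2.2, mk (by simp) (by simp) hnd.2.1.2⟩,
    mk (by simp) (by simp) hnd.2.2.1⟩
  obtain ⟨K, iK, iKF, hK, ⟨tri⟩⟩ := (hyp h).exists_tri ht
  obtain ⟨Z, hZ, eZ⟩ := tri.sp.surj d hd3
  obtain ⟨w, hw0, hw1, hw⟩ := exists_omega hK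
  have hF' := card_eq_sq hK
  obtain ⟨P, -, hP, hPZ⟩ := exists_partner hF' (nondeg_top hF') Submodule.mem_top hZ.1 hZ.2
  have hP' : hb P P = 0 := hP
  have hPZ' : hb P Z = 1 := hPZ
  have hZP : hb Z P = 1 := hb_one_comm hK hPZ'
  set W := perp 2 ((Submodule.span K ({Z, P} : Set (Vec K))) : Set (Vec K)) with hW
  have hne : Cfsg.hermForm 6 K 2 Z P ≠ 0 := by
    rw [show Cfsg.hermForm 6 K 2 Z P = 1 from hZP]; exact one_ne_zero
  have hnd2 : Nondeg 2 (Submodule.span K ({Z, P} : Set (Vec K))) := nondeg_pair hF' hZ.2 hP' hne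
  have hsZP : ¬ SamePt Z P := fun ⟨s, hs⟩ => by
    rw [hs, hb_smul_left, hZ.2, mul_zero] at hPZ'; exact zero_ne_one hPZ'
  have hW4 : Module.finrank K W = 4 := by
    have h1 := finrank_perp_add hF' hnd2
    rw [finrank_pair (indep_pair hZ.1 hsZP)] at h1
    have h1' : 2 + Module.finrank K ↥W = 6 := h1
    omega
  obtain ⟨Q, hQ, hQinj, hQcov, hQadj⟩ := forty_five hK (nondeg_perp hF' hnd2) hW4
  have memW : ∀ {x : Vec K}, x ∈ W ↔ hb x Z = 0 ∧ hb x P = 0 := fun {x} => by
    rw [hW, perp_span hF', mem_pair_perp hK]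
  have hQZ : ∀ i, hb (Q i) Z = 0 := fun i => (memW.mp (hQ i).2).1
  have hQP : ∀ i, hb (Q i) P = 0 := fun i => (memW.mp (hQ i).2).2
  have hns : ∀ i, ¬ SamePt (Q i) Z := fun i ⟨s, hs⟩ => by
    have := hQP i
    rw [hs, hb_smul_left, this, mul_zero] at hZP
    exact zero_ne_one hZP
  have line := fun i => line_quad htt hind q tri hZ (hQ i).1 (hQZ i) (hns i) eZ hw
  let e : Fin 45 → Tet D z := fun i => ⟨_, (line i).tetrad⟩
  have hhead : ∀ i, tri.sp.pt (Q i) ∈ (e i).1 := fun i => List.mem_cons_self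
  have hmem : ∀ i y, y ∈ (e i).1 → ∃ t : K, IsPt (Q i + t • Z) ∧ tri.sp.pt (Q i + t • Z) = y := by
    intro i y hy
    have hp := fun t => isPt_line hK (hQ i).1 hZ (hQZ i) (hns i) t
    change y ∈ [_, _, _, _] at hy
    simp only [List.mem_cons, List.not_mem_nil, or_false] at hy
    rcases hy with rfl | rfl | rfl | rfl
    exacts [⟨0, hp 0, by simp⟩, ⟨1, hp 1, by simp⟩, ⟨w, hp w, rfl⟩, ⟨_, hp _, rfl⟩]
  have hall : ∀ i (t : K), tri.sp.pt (Q i + t • Z) ∈ (e i).1 := by
    intro i t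
    show _ ∈ [_, _, _, _]
    by_cases ht0 : t = 0
    · simp [ht0]
    · have := nonzero_cases hK hw ht0
      simp only [List.mem_cons, List.not_mem_nil, or_false] at this
      rcases this with rfl | rfl | rfl <;> simp
  have hadj : ∀ i, TAdj T (e i) := by
    intro i
    have m3 : tri.sp.pt (Q i) ∈ T3 D a b c := tri.sp.mem (hQ i).1
    refine (tadj_of_mem htt hind (S := e i) (S' := T) (hhead i) (y := a) ?_ ?_ m3.1.1.2.2.symm).symm
    · rw [hT]; simp [qset]
    · rw [hT]
      intro hx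
      change tri.sp.pt (Q i) ∈ [a, b, c, d] at hx
      simp only [List.mem_cons, List.not_mem_nil, or_false] at hx
      rcases hx with u | u | u | u
      exacts [m3.1.1.2.1 u, m3.1.2.2.1 u, m3.2.2.1 u,
        hns i ((tri.sp.same (hQ i).1 hZ).mp (u.trans eZ.symm))]
  refine ⟨e, fun i j eij => ?_, hadj, fun S hS => ?_, fun i j => ⟨fun hij => ?_, fun hij => ?_⟩,
    fun i => tri.sp.pt (Q i), a, b, c, hhead, hT ▸ (by simp [qset]), hT ▸ (by simp [qset]),
    hT ▸ (by simp [qset]), fun l hl5 hlnd hladj => ?_⟩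
  · obtain ⟨t, hp, et⟩ := hmem i _ (eij ▸ hhead j)
    obtain ⟨r, hr⟩ := (tri.sp.same hp (hQ j).1).mp et
    have h0 := congrArg (fun x => hb x P) hr
    simp only [hb_smul_left, hb_add_left, hQP, zero_add, hZP, mul_one] at h0
    rcases mul_eq_zero.mp h0.symm with hr0 | ht0
    · exact absurd (by rw [hr, hr0, zero_smul]) (hQ j).1.1
    · exact (hQinj i j ⟨r, by rw [hr, ht0, zero_smul, add_zero]⟩).symm
  · obtain ⟨x, hx⟩ := S.2.nonempty
    have hxT : ∀ y ∈ [a, b, c, d], x ∈ nb D y := by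
      intro y hy
      have hyT : y ∈ T.1 := hT ▸ hy
      refine ⟨S.2.mem hx, fun u => ?_, hS.2 y hyT x hx⟩
      exact hS.1 (Subtype.ext (T.2.eq_of_mem htt hind S.2 hyT (u ▸ hx)))
    obtain ⟨v, hv, ev⟩ := tri.sp.surj x ⟨⟨hxT a (by simp), hxT b (by simp)⟩, hxT c (by simp)⟩
    have hvZ : hb v Z = 0 :=
      (tri.sp.comm hv hZ).mp (ev ▸ eZ ▸ (hxT d (by simp)).2.2.symm)
    set t := hb v P
    set y := v + t • Z with hy
    have hyW : y ∈ W := memW.mpr ⟨by rw [hy, hb_add_left, hb_smul_left, hvZ, hZ.2, mul_zero, add_zero],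
      by rw [hy, hb_add_left, hb_smul_left, hZP, mul_one, add_self_zero hK]⟩
    have hyp : IsPt y := by
      refine isPt_line hK hv hZ hvZ (fun hs => (hxT d (by simp)).2.1 ?_) t
      exact ev.symm.trans (((tri.sp.same hv hZ).mpr hs).trans eZ)
    obtain ⟨i, s, hs⟩ := hQcov y hyW hyp
    have hs0 : s ≠ 0 := fun u => hyp.1 (by rw [hs, u, zero_smul])
    refine ⟨i, Subtype.ext ((e i).2.eq_of_mem htt hind S.2 (x := x) ?_ hx)⟩
    have ep : tri.sp.pt (Q i + (t * s⁻¹) • Z) = x := by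
      rw [← ev]
      refine (tri.sp.same (isPt_line hK (hQ i).1 hZ (hQZ i) (hns i) _) hv).mpr ⟨s, ?_⟩
      rw [smul_add, ← hs, smul_smul, mul_comm t, ← mul_assoc, mul_inv_cancel₀ hs0, one_mul, hy,
        add_assoc, vec_add_self hK, add_zero]
    exact ep ▸ hall i _
  · exact (hQadj i j).mp ⟨fun u => hij.1 (u ▸ rfl),
      (tri.sp.comm (hQ i).1 (hQ j).1).mp (hij.2 _ (hhead i) _ (hhead j))⟩
  · obtain ⟨hne', hb0⟩ := (hQadj i j).mpr hij
    refine tadj_of_mem htt hind (hhead i) (hhead j) (fun u => ?_)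
      ((tri.sp.comm (hQ i).1 (hQ j).1).mpr hb0)
    obtain ⟨t, hp, et⟩ := hmem j _ u
    obtain ⟨r, hr⟩ := (tri.sp.same hp (hQ i).1).mp et
    have h0 := congrArg (fun x => hb x P) hr
    simp only [hb_smul_left, hb_add_left, hQP, zero_add, hZP, mul_one] at h0
    rcases mul_eq_zero.mp h0.symm with hr0 | ht0
    · exact absurd (by rw [hr, hr0, zero_smul]) (hQ i).1.1
    · exact hne' (hQinj j i ⟨r, by rw [hr, ht0, zero_smul, add_zero]⟩)
  · obtain ⟨i, j, k1, k2, k3, rfl⟩ : ∃ i j k1 k2 k3, l = [i, j, k1, k2, k3] := by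
      match l, hl5 with
      | [i, j, k1, k2, k3], _ => exact ⟨_, _, _, _, _, rfl⟩
    set f : Fin 45 → G := fun i => tri.sp.pt (Q i) with hf
    have hne' : i ≠ j := fun u => (List.nodup_cons.mp hlnd).1 (u ▸ List.mem_cons_self)
    obtain ⟨-, hij⟩ := (hQadj i j).mpr (hladj i (by simp) j (by simp) hne')
    have hsij : ¬ SamePt (Q i) (Q j) := fun u => hne' (hQinj i j u).symm
    have p2 : IsPt (Q i + Q j) := by simpa using isPt_line hK (hQ i).1 (hQ j).1 hij hsij 1
    have p3 := isPt_line hK (hQ i).1 (hQ j).1 hij hsij w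
    have p4 := isPt_line hK (hQ i).1 (hQ j).1 hij hsij (w ^ 2)
    -- read each vector of the line as an index
    have idx : ∀ t : K, t ≠ 0 → ∃ k : Fin 45, k ∈ [k1, k2, k3] ∧
        tri.sp.pt (Q i + t • Q j) = f k := by
      intro t ht0
      have hp := isPt_line hK (hQ i).1 (hQ j).1 hij hsij t
      obtain ⟨k, hk⟩ := hQcov _ (W.add_mem (hQ i).2 (W.smul_mem t (hQ j).2)) hp
      have hadjk : ∀ m, m = i ∨ m = j → qAdj m k = true := by
        obtain ⟨s, hs⟩ := hk
        have hs0 : s ≠ 0 := fun u => hp.1 (by rw [hs, u, zero_smul])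
        have hli := indep_pair (hQ i).1.1 hsij
        have eq : Q k = s⁻¹ • (Q i + t • Q j) := by
          rw [hs, smul_smul, inv_mul_cancel₀ hs0, one_smul]
        have hji := (hb_eq_zero_comm hK).mp hij
        rintro m (rfl | rfl)
        · refine (hQadj _ _).mp ⟨fun u => ?_, ?_⟩
          · subst u
            have := hli.eq_of_pair (s := (1 : K)) (t := 0) (s' := s⁻¹) (t' := s⁻¹ * t)
              (by rw [one_smul, zero_smul, add_zero, ← smul_smul, ← smul_add, ← eq])
            exact ht0 ((mul_eq_zero.mp this.2.symm).resolve_left (inv_ne_zero hs0))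
          · rw [eq, hb_smul_right, hb_add_right hK, hb_smul_right, (hQ m).1.2, hij]; ring
        · refine (hQadj _ _).mp ⟨fun u => ?_, ?_⟩
          · subst u
            have := hli.eq_of_pair (s := (0 : K)) (t := 1) (s' := s⁻¹) (t' := s⁻¹ * t)
              (by rw [one_smul, zero_smul, zero_add, ← smul_smul, ← smul_add, ← eq])
            exact inv_ne_zero hs0 this.1.symm
          · rw [eq, hb_smul_right, hb_add_right hK, hb_smul_right, hji, (hQ m).1.2]; ring
      refine ⟨k, ?_, ((tri.sp.same (hQ k).1 hp).mpr hk).symm⟩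
      exact five_clique i j k1 k2 k3 k hlnd hladj (hadjk i (Or.inl rfl)) (hadjk j (Or.inr rfl))
    have hfinj : Function.Injective f := fun x y u =>
      (hQinj x y ((tri.sp.same (hQ x).1 (hQ y).1).mp u)).symm
    set vs := [tri.sp.pt (Q i), tri.sp.pt (Q j), tri.sp.pt (Q i + Q j),
      tri.sp.pt (Q i + w • Q j), tri.sp.pt (Q i + w ^ 2 • Q j)] with hvs
    have m5 : ∀ y ∈ [i, j, k1, k2, k3].map f, y ∈ T3 D a b c := fun y hy => by
      obtain ⟨m, -, rfl⟩ := List.mem_map.mp hy
      exact tri.sp.mem (hQ m).1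
    have c5 : ∀ x ∈ [i, j, k1, k2, k3].map f, ∀ y ∈ [i, j, k1, k2, k3].map f, Commute x y := by
      intro x hx y hy
      obtain ⟨m, hm, rfl⟩ := List.mem_map.mp hx
      obtain ⟨m', hm', rfl⟩ := List.mem_map.mp hy
      by_cases u : m = m'
      · rw [u]
      · exact (tri.sp.comm (hQ m).1 (hQ m').1).mpr ((hQadj m m').mpr (hladj m hm m' hm' u)).2
    have n5 : ([i, j, k1, k2, k3].map f).Nodup := hlnd.map hfinj
    have hsub : vs ⊆ [i, j, k1, k2, k3].map f := by
      intro y hy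
      simp only [hvs, List.mem_cons, List.not_mem_nil, or_false] at hy
      have viaT : ∀ t : K, t ≠ 0 → tri.sp.pt (Q i + t • Q j) ∈ [i, j, k1, k2, k3].map f :=
        fun t ht0 => by
          obtain ⟨k, hk, ek⟩ := idx t ht0
          exact ek ▸ List.mem_map_of_mem (List.mem_cons_of_mem _ (List.mem_cons_of_mem _ hk))
      rcases hy with rfl | rfl | rfl | rfl | rfl
      · exact List.mem_map_of_mem (f := f) List.mem_cons_self
      · exact List.mem_map_of_mem (f := f) (List.mem_cons_of_mem _ List.mem_cons_self)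
      · simpa using viaT 1 one_ne_zero
      · exact viaT w hw0
      · exact viaT _ (pow_ne_zero 2 hw0)
    have nvs : vs.Nodup := line_nodup (hK := hK) tri (hQ i).1 (hQ j).1 hij hsij hw0 hw1 hw
    have hperm : vs.Perm ([i, j, k1, k2, k3].map f) :=
      (List.subperm_of_subset nvs hsub).perm_of_length_le (by simp [hvs])
    have hp : vs.prod = ([i, j, k1, k2, k3].map f).prod := hperm.prod_eq'
      (List.Pairwise.imp_of_mem (R := fun _ _ => True)
        (fun hx hy _ => c5 _ (hperm.subset hx) _ (hperm.subset hy))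
        (List.pairwise_of_forall fun _ _ => trivial))
    refine five_abc htt hind q tri (by simp) n5 m5 c5 ?_
    rw [← hp]
    have := (tri.ker (⟨_, T3_mem_C3 (tri.sp.mem (hQ i).1)⟩ * ⟨_, T3_mem_C3 (tri.sp.mem (hQ j).1)⟩ *
      ⟨_, T3_mem_C3 (tri.sp.mem p2)⟩ * ⟨_, T3_mem_C3 (tri.sp.mem p3)⟩ *
      ⟨_, T3_mem_C3 (tri.sp.mem p4)⟩)).mp ?_
    · simpa [hvs, mul_assoc] using this
    rw [map_mul, map_mul, map_mul, map_mul, tri.eq (hQ i).1, tri.eq (hQ j).1, tri.eq p2, tri.eq p3,
      tri.eq p4]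
    exact ptv_line hK (hQ i).1.2 (hQ j).1.2 hij hw

end Cfsg.Agent.H49.Tetrad
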