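import Cfsg.Agent.H49.Tetrad.Eighteen

/-!
Spaces with third-point maps that are locally the graph of forty five points, of diameter two with
eighteen common neighbours for each far pair: 126 points, transitive, and standard coordinates for
every far pair.
-/

set_option autoImplicit false
set_option maxRecDepth 20000
set_option synthInstance.maxSize 2000

namespace Cfsg.Agent.H49.Tetrad

/-- coordinates on the neighbours of a point -/
structure Loc {S : Type*} (adj : S → S → Prop) (r : S → Equiv.Perm S) (x : S) (e : Fin 45 → S) :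
    Prop where
  inj : Function.Injective e
  mem : ∀ i, adj x (e i)
  cover : ∀ y, adj x y → ∃ i, e i = y
  iff : ∀ i j, adj (e i) (e j) ↔ qA i j = true
  five : ∀ l : List (Fin 45), l.length = 5 → l.Nodup →
    (∀ i ∈ l, ∀ j ∈ l, i ≠ j → qA i j = true) → (l.map fun i => r (e i)).prod = r x

/-- the axioms of a space of tetrads -/
structure TSpace (S : Type*) where
  adj : S → S → Prop
  r : S → Equiv.Perm S
  symm : ∀ x y, adj x y → adj y x
  ne : ∀ x y, adj x y → x ≠ y
  aut : ∀ x a b, adj (r x a) (r x b) ↔ adj a b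
  fix : ∀ x y, r x y = y ↔ (y = x ∨ adj x y)
  invol : ∀ x y, r x (r x y) = y
  sw : ∀ x y, x ≠ y → ¬ adj x y → r x y = r y x
  conj : ∀ x y, r (r x y) = r x * r y * r x
  loc : ∀ x, ∃ e, Loc adj r x e
  common : ∀ x y, x ≠ y → ¬ adj x y → {w | adj x w ∧ adj w y}.ncard = 18

theorem qA_mu : ∀ i j : Fin 45, i ≠ j → qA i j = false →
    (Finset.univ.filter fun k => qA i k = true ∧ qA j k = true).card = 3 := by decide +kernel

theorem qA_mu_apart : ∀ i j : Fin 45, i ≠ j → qA i j = false → ∀ a, qA i a = true → qA j a = true →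
    ∀ b, qA i b = true → qA j b = true → qA a b = false := by decide +kernel

theorem qA_apart : ∀ i j : Fin 45, ∃ k, k ≠ i ∧ k ≠ j ∧ qA i k = false ∧ qA j k = false := by
  decide +kernel

theorem qWord_reverse (l : List (Fin 45)) (j : Fin 45) : qWord l (qWord l.reverse j) = j := by
  induction l generalizing j with
  | nil => rfl
  | cons a l ih =>
    rw [List.reverse_cons, qWord_append]
    show qT a (qWord l (qWord l.reverse (qT a j))) = j
    rw [ih, qT_invol]

namespace TSpace

variable {S : Type*} (M : TSpace S)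

/-- the group of third-point maps -/
def grp : Subgroup (Equiv.Perm S) := Subgroup.closure (Set.range M.r)

theorem r_mem (x : S) : M.r x ∈ M.grp := Subgroup.subset_closure ⟨x, rfl⟩

theorem r_sq (x : S) : M.r x * M.r x = 1 := Equiv.ext fun y => M.invol x y

theorem r_inv (x : S) : (M.r x)⁻¹ = M.r x := inv_eq_of_mul_eq_one_left (M.r_sq x)

theorem r_self (x : S) : M.r x x = x := (M.fix x x).mpr (Or.inl rfl)

theorem r_adj {x y : S} (h : M.adj x y) : M.r x y = y := (M.fix x y).mpr (Or.inr h)

theorem grp_spec {g : Equiv.Perm S} (hg : g ∈ M.grp) :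
    (∀ a b, M.adj (g a) (g b) ↔ M.adj a b) ∧ ∀ x, M.r (g x) = g * M.r x * g⁻¹ := by
  induction hg using Subgroup.closure_induction with
  | mem g hg =>
    obtain ⟨x, rfl⟩ := hg
    exact ⟨M.aut x, fun y => by rw [M.conj, M.r_inv]⟩
  | one => exact ⟨fun _ _ => Iff.rfl, fun x => by simp⟩
  | mul g k _ _ hg hk =>
    refine ⟨fun a b => (hg.1 _ _).trans (hk.1 a b), fun x => ?_⟩
    rw [Equiv.Perm.mul_apply, hg.2, hk.2]; group
  | inv g _ hg =>
    refine ⟨fun a b => ?_, fun x => ?_⟩
    · rw [← hg.1]; simp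
    · have := hg.2 (g⁻¹ x)
      rw [show g (g⁻¹ x) = x by simp] at this
      rw [this]; group

theorem commute_of_adj {x y : S} (h : M.adj x y) : Commute (M.r x) (M.r y) := by
  have := M.conj x y
  rw [M.r_adj h] at this
  calc M.r x * M.r y = M.r x * M.r y * (M.r x * M.r x) := by rw [M.r_sq, mul_one]
    _ = M.r x * M.r y * M.r x * M.r x := by group
    _ = M.r y * M.r x := by rw [← this]

theorem cube_of_far {x y : S} (hne : x ≠ y) (h : ¬ M.adj x y) :
    M.r x * M.r y * M.r x = M.r y * M.r x * M.r y := by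
  rw [← M.conj, ← M.conj, M.sw x y hne h]

/-- transporting coordinates -/
theorem loc_map {g : Equiv.Perm S} (hg : g ∈ M.grp) {x : S} {e : Fin 45 → S}
    (he : Loc M.adj M.r x e) : Loc M.adj M.r (g x) (g ∘ e) := by
  obtain ⟨ha, hr⟩ := M.grp_spec hg
  refine ⟨g.injective.comp he.inj, fun i => (ha _ _).mpr (he.mem i), fun y hy => ?_,
    fun i j => (ha _ _).trans (he.iff i j), fun l h5 hnd hadj => ?_⟩
  · obtain ⟨i, hi⟩ := he.cover (g⁻¹ y) ((ha _ _).mp (by simpa using hy))
    exact ⟨i, by simp [Function.comp, hi]⟩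
  · rw [hr x, ← he.five l h5 hnd hadj]
    have : ∀ l : List (Fin 45), (l.map fun i => M.r ((g ∘ e) i)).prod =
        g * (l.map fun i => M.r (e i)).prod * g⁻¹ := by
      intro l
      induction l with
      | nil => simp
      | cons a l ih =>
        rw [List.map_cons, List.prod_cons, ih, List.map_cons, List.prod_cons, Function.comp_apply, hr]
        group
    exact this l

/-- changing coordinates by a word -/
theorem loc_word {x : S} {e : Fin 45 → S} (he : Loc M.adj M.r x e) (w : List (Fin 45)) :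
    Loc M.adj M.r x (e ∘ qWord w) := by
  refine ⟨he.inj.comp (qWord_inj w), fun i => he.mem _, fun y hy => ?_,
    fun i j => (he.iff _ _).trans (by rw [qWord_aut]), fun l h5 hnd hadj => ?_⟩
  · obtain ⟨i, rfl⟩ := he.cover y hy
    exact ⟨qWord w.reverse i, by simp [Function.comp, qWord_reverse]⟩
  · have := he.five (l.map (qWord w)) (by simpa using h5) (hnd.map (qWord_inj w))
      (fun i hi j hj hne => by
        obtain ⟨a, ha, rfl⟩ := List.mem_map.mp hi
        obtain ⟨b, hb, rfl⟩ := List.mem_map.mp hj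
        rw [qWord_aut]
        exact hadj a ha b hb fun e => hne (by rw [e]))
    rwa [List.map_map] at this

/-- third points in coordinates -/
theorem third {x : S} {e : Fin 45 → S} (he : Loc M.adj M.r x e) (i j : Fin 45) :
    M.r (e i) (e j) = e (qT i j) := by
  by_cases h : i = j ∨ qA i j = true
  · rw [qT_fix i j h]
    rcases h with rfl | h
    exacts [M.r_self _, M.r_adj ((he.iff i j).mpr h)]
  simp only [not_or, Bool.not_eq_true] at h
  have hfix : M.r (e i) x = x := M.r_adj (M.symm _ _ (he.mem i))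
  have hx : M.adj x (M.r (e i) (e j)) := by
    have := (M.aut (e i) x (e j)).mpr (he.mem j)
    rwa [hfix] at this
  obtain ⟨k, hk⟩ := he.cover _ hx
  rw [← hk]
  congr 1
  refine qT_unique i j k h.1 h.2 (fun u => h.1 ?_) (fun u => ?_) ?_
  · apply he.inj
    have := congrArg (M.r (e i)) hk
    rw [M.invol, u, M.r_self] at this
    exact this
  · rw [u] at hk
    rcases (M.fix _ _).mp hk.symm with q | q
    · exact h.1 (he.inj q).symm
    · rw [(he.iff i j).mp q] at h; exact Bool.noConfusion h.2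
  · have key : ∀ m, qA i m = true → qA j m = true → qA k m = true := by
      intro m hi hj
      rw [← he.iff, hk]
      have := (M.aut (e i) (e j) (e m)).mpr ((he.iff j m).mpr hj)
      rwa [M.r_adj ((he.iff i m).mpr hi)] at this
    refine Nat.eq_of_testBit_eq fun n => ?_
    rw [Nat.testBit_and (_ &&& _), Nat.testBit_and]
    rcases Nat.lt_or_ge n 45 with hn | hn
    · have hk' := key ⟨n, hn⟩
      simp only [qA] at hk'
      revert hk'
      cases (qMasks.getD (↑i) 0).testBit n <;> cases (qMasks.getD (↑j) 0).testBit n <;> simp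
    · have hlt : ∀ a : Fin 45, qMasks.getD a.1 0 < 2 ^ 45 := by decide +kernel
      rw [Nat.testBit_lt_two_pow ((hlt i).trans_le (Nat.pow_le_pow_right (by norm_num) hn))]
      simp

/-- the map of a word in coordinates -/
def word (e : Fin 45 → S) (l : List (Fin 45)) : Equiv.Perm S := (l.map fun i => M.r (e i)).prod

theorem word_mem (e : Fin 45 → S) (l : List (Fin 45)) : M.word e l ∈ M.grp := by
  refine list_prod_mem fun y hy => ?_
  obtain ⟨i, -, rfl⟩ := List.mem_map.mp hy
  exact M.r_mem _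

theorem word_apply {x : S} {e : Fin 45 → S} (he : Loc M.adj M.r x e) (l : List (Fin 45)) :
    M.word e l x = x ∧ ∀ j, M.word e l (e j) = e (qWord l j) := by
  induction l with
  | nil => exact ⟨rfl, fun _ => rfl⟩
  | cons a l ih =>
    refine ⟨?_, fun j => ?_⟩
    · show M.r (e a) (M.word e l x) = x
      rw [ih.1, M.r_adj (M.symm _ _ (he.mem a))]
    · show M.r (e a) (M.word e l (e j)) = _
      rw [ih.2, M.third he]; rfl

/-- a far pair has a common neighbour -/
theorem diam {x y : S} (hne : x ≠ y) (h : ¬ M.adj x y) : ∃ w, M.adj x w ∧ M.adj w y :=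
  Set.nonempty_of_ncard_ne_zero (s := {w | M.adj x w ∧ M.adj w y})
    (by rw [M.common x y hne h]; norm_num)

/-- far points are moved onto each other -/
theorem move_far {x z : S} (hne : x ≠ z) (h : ¬ M.adj x z) : ∃ g ∈ M.grp, g x = z := by
  refine ⟨M.r x * M.r z, mul_mem (M.r_mem x) (M.r_mem z), ?_⟩
  rw [Equiv.Perm.mul_apply, M.sw z x hne.symm (fun q => h (M.symm _ _ q)), M.invol]

/-- transitivity -/
theorem transitive (x y : S) : ∃ g ∈ M.grp, g x = y := by
  by_cases hxy : x = y
  · exact ⟨1, one_mem _, by simp [hxy]⟩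
  by_cases h : M.adj x y
  · obtain ⟨e, he⟩ := M.loc x
    obtain ⟨j, rfl⟩ := he.cover y h
    -- a point far from both ends
    by_cases hz : ∃ z, (x ≠ z ∧ ¬ M.adj x z) ∧ e j ≠ z ∧ ¬ M.adj (e j) z
    · obtain ⟨z, ⟨a1, a2⟩, b1, b2⟩ := hz
      obtain ⟨g, hg, eg⟩ := M.move_far a1 a2
      obtain ⟨g', hg', eg'⟩ := M.move_far b1.symm fun q => b2 (M.symm _ _ q)
      exact ⟨g' * g, mul_mem hg' hg, by rw [Equiv.Perm.mul_apply, eg, eg']⟩
    exfalso
    apply hz
    obtain ⟨w, hw⟩ : ∃ w, M.adj x w ∧ M.adj (e j) w := by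
      obtain ⟨q, hq⟩ := Finset.card_pos.mp (show 0 < (Finset.univ.filter fun k => qA j k = true).card by
        rw [qA_deg]; norm_num)
      exact ⟨e q, he.mem q, (he.iff j q).mpr (Finset.mem_filter.mp hq).2⟩
    obtain ⟨e'', he''⟩ := M.loc w
    obtain ⟨p1, hp1⟩ := he''.cover x (M.symm _ _ hw.1)
    obtain ⟨p2, hp2⟩ := he''.cover (e j) (M.symm _ _ hw.2)
    obtain ⟨m, m1, m2, n1, n2⟩ := qA_apart p1 p2
    refine ⟨e'' m, ⟨fun q => m1 (he''.inj (q.symm.trans hp1.symm)), fun q => ?_⟩,
      fun q => m2 (he''.inj (q.symm.trans hp2.symm)), fun q => ?_⟩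
    · rw [← hp1, he''.iff, n1] at q; exact Bool.noConfusion q
    · rw [← hp2, he''.iff, n2] at q; exact Bool.noConfusion q
  · exact M.move_far hxy h

section Finite

variable [Finite S]

include M in
/-- there are 126 points -/
theorem card_eq (v : S) : Nat.card S = 126 := by
  classical
  haveI := Fintype.ofFinite S
  obtain ⟨e, he⟩ := M.loc v
  let F : Finset S := Finset.univ.filter fun y => v ≠ y ∧ ¬ M.adj v y
  have hsum : 18 * F.card = 45 * 32 := by
    have col : ∀ y ∈ F, (Finset.univ.filter fun i : Fin 45 => M.adj (e i) y).card = 18 := by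
      intro y hy
      obtain ⟨h1, h2⟩ := (Finset.mem_filter.mp hy).2
      rw [← M.common v y h1 h2, ← Set.ncard_coe_finset, ← Set.ncard_image_of_injective _ he.inj]
      congr 1
      ext w
      simp only [Set.mem_image, Finset.coe_filter, Finset.mem_univ, true_and]
      constructor
      · rintro ⟨i, hi, rfl⟩; exact ⟨he.mem i, hi⟩
      · rintro ⟨hv, hw⟩
        obtain ⟨i, rfl⟩ := he.cover w hv
        exact ⟨i, hw, rfl⟩
    have row : ∀ i ∈ (Finset.univ : Finset (Fin 45)), (F.filter fun y => M.adj (e i) y).card = 32 := by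
      intro i _
      obtain ⟨e', he'⟩ := M.loc (e i)
      obtain ⟨p, hp⟩ := he'.cover v (M.symm _ _ (he.mem i))
      rw [← qA_far p, ← Finset.card_image_of_injective _ he'.inj]
      congr 1
      ext y
      simp only [F, Finset.mem_filter, Finset.mem_image, Finset.mem_univ, true_and]
      constructor
      · rintro ⟨⟨h1, h2⟩, h3⟩
        obtain ⟨k, rfl⟩ := he'.cover y h3
        refine ⟨k, ⟨fun q => h1 (by rw [← hp, q]), ?_⟩, rfl⟩
        rw [Bool.eq_false_iff]
        exact fun q => h2 (hp ▸ (he'.iff p k).mpr q)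
      · rintro ⟨k, ⟨hk, hkA⟩, rfl⟩
        refine ⟨⟨fun q => hk (he'.inj (q.symm.trans hp.symm)), fun q => ?_⟩, he'.mem k⟩
        rw [← hp, he'.iff, hkA] at q; exact Bool.noConfusion q
    have h := Finset.sum_card_bipartiteAbove_eq_sum_card_bipartiteBelow (s := (Finset.univ : Finset (Fin 45)))
      (t := F) (fun i y => M.adj (e i) y)
    simp only [Finset.bipartiteAbove, Finset.bipartiteBelow] at h
    rw [Finset.sum_congr rfl row, Finset.sum_congr rfl col, Finset.sum_const, Finset.sum_const,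
      Finset.card_univ, Fintype.card_fin, smul_eq_mul, smul_eq_mul] at h
    omega
  have hsplit : (Finset.univ : Finset S) = insert v (Finset.univ.image e) ∪ F := by
    ext y
    simp only [F, Finset.mem_univ, Finset.mem_union, Finset.mem_insert, Finset.mem_image, Finset.mem_filter,
      true_and, true_iff]
    by_cases h1 : v = y
    · exact Or.inl (Or.inl h1.symm)
    by_cases h2 : M.adj v y
    · obtain ⟨i, rfl⟩ := he.cover y h2
      exact Or.inl (Or.inr ⟨i, rfl⟩)
    exact Or.inr ⟨h1, h2⟩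
  rw [Nat.card_eq_fintype_card, ← Finset.card_univ, hsplit, Finset.card_union_of_disjoint,
    Finset.card_insert_of_notMem, Finset.card_image_of_injective _ he.inj, Finset.card_univ, Fintype.card_fin]
  · omega
  · simp only [Finset.mem_image, not_exists, not_and]
    exact fun i _ q => M.ne _ _ (he.mem i) q.symm
  · rw [Finset.disjoint_left]
    intro y hy hyF
    obtain ⟨h1, h2⟩ := (Finset.mem_filter.mp hyF).2
    rcases Finset.mem_insert.mp hy with rfl | hy
    · exact h1 rfl
    · obtain ⟨i, -, rfl⟩ := Finset.mem_image.mp hy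
      exact h2 (he.mem i)

omit [Finite S] in
/-- standard coordinates for a far pair -/
theorem exists_coords {v y : S} (hne : v ≠ y) (h : ¬ M.adj v y) :
    ∃ e, Loc M.adj M.r v e ∧ ∀ i, M.adj (e i) y ↔ i ∈ qX0Set := by
  classical
  obtain ⟨e, he⟩ := M.loc v
  let X : Finset (Fin 45) := Finset.univ.filter fun i => M.adj (e i) y
  have hX : ∀ {i}, i ∈ X ↔ M.adj (e i) y := fun {i} => by simp [X]
  have hcard : X.card = 18 := by
    rw [← M.common v y hne h, ← Set.ncard_coe_finset, ← Set.ncard_image_of_injective _ he.inj]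
    congr 1
    ext w
    simp only [Set.mem_image, Finset.mem_coe, hX]
    constructor
    · rintro ⟨i, hi, rfl⟩; exact ⟨he.mem i, hi⟩
    · rintro ⟨hv, hw⟩
      obtain ⟨i, rfl⟩ := he.cover w hv
      exact ⟨i, hw, rfl⟩
  have inner : ∀ i ∈ X, ∃ (e' : Fin 45 → S) (p q : Fin 45), Loc M.adj M.r (e i) e' ∧ e' p = v ∧
      e' q = y ∧ p ≠ q ∧ qA p q = false := by
    intro i hi
    obtain ⟨e', he'⟩ := M.loc (e i)
    obtain ⟨p, hp⟩ := he'.cover v (M.symm _ _ (he.mem i))
    obtain ⟨q, hq⟩ := he'.cover y (hX.mp hi)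
    refine ⟨e', p, q, he', hp, hq, fun u => hne (by rw [← hp, ← hq, u]), ?_⟩
    rw [Bool.eq_false_iff]
    exact fun u => h (hp ▸ hq ▸ (he'.iff p q).mpr u)
  obtain ⟨l, hl⟩ := eighteen X hcard
    (fun i hi j hj => hX.mpr (by
      rw [← M.third he]
      have := (M.aut (e i) (e j) y).mpr (hX.mp hj)
      rwa [M.r_adj (hX.mp hi)] at this))
    (fun i hi => by
      obtain ⟨e', p, q, he', hp, hq, hpq, hA⟩ := inner i hi
      rw [← qA_mu p q hpq hA, ← Finset.card_image_of_injective _ he.inj,
        ← Finset.card_image_of_injective (Finset.univ.filter fun k => qA p k = true ∧ qA q k = true) he'.inj]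
      congr 1
      ext w
      simp only [Finset.mem_image, Finset.mem_filter, Finset.mem_univ, true_and]
      constructor
      · rintro ⟨j, ⟨hj, hij⟩, rfl⟩
        obtain ⟨k, hk⟩ := he'.cover (e j) ((he.iff i j).mpr hij)
        refine ⟨k, ⟨(he'.iff p k).mp ?_, (he'.iff q k).mp ?_⟩, hk⟩
        · rw [hp, hk]; exact he.mem j
        · rw [hq, hk]; exact M.symm _ _ (hX.mp hj)
      · rintro ⟨k, ⟨hpk, hqk⟩, rfl⟩
        obtain ⟨j, hj⟩ := he.cover (e' k) (hp ▸ (he'.iff p k).mpr hpk)
        refine ⟨j, ⟨hX.mpr ?_, (he.iff i j).mp ?_⟩, hj⟩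
        · rw [hj, ← hq]; exact M.symm _ _ ((he'.iff q k).mpr hqk)
        · rw [hj]; exact he'.mem k)
    (fun i hi j hj k hk hij hik => by
      obtain ⟨e', p, q, he', hp, hq, hpq, hA⟩ := inner i hi
      obtain ⟨a, ha⟩ := he'.cover (e j) ((he.iff i j).mpr hij)
      obtain ⟨b, hb⟩ := he'.cover (e k) ((he.iff i k).mpr hik)
      have f1 : ∀ {a : Fin 45} {j : Fin 45}, e' a = e j → j ∈ X → qA p a = true ∧ qA q a = true :=
        fun {a j} ha hj => ⟨(he'.iff p a).mp (by rw [hp, ha]; exact he.mem j),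
          (he'.iff q a).mp (by rw [hq, ha]; exact M.symm _ _ (hX.mp hj))⟩
      have h0 := qA_mu_apart p q hpq hA a (f1 ha hj).1 (f1 ha hj).2 b (f1 hb hk).1 (f1 hb hk).2
      rw [Bool.eq_false_iff] at h0 ⊢
      exact fun u => h0 ((he'.iff a b).mp (by rw [ha, hb]; exact (he.iff j k).mpr u)))
  refine ⟨e ∘ qWord l.reverse, M.loc_word he _, fun i => ?_⟩
  have hrev : qWord l (qWord l.reverse i) = i := qWord_reverse l i
  rw [← hl, Finset.mem_image, Function.comp_apply, ← hX]
  exact ⟨fun q => ⟨_, q, hrev⟩, fun ⟨j, hj, ej⟩ => (qWord_inj l (hrev.trans ej.symm)) ▸ hj⟩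

end Finite

end TSpace

end Cfsg.Agent.H49.Tetrad
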