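import Cfsg.Agent.H49.Tetrad.Slice
import Cfsg.Agent.H49.Tetrad.Local
import Cfsg.Agent.H49.Tetrad.Space

/-!
Groups of type M(24): the centraliser of a product of four commuting members acts on the tetrads,
each member as the third-point map of its tetrad; the tetrads form a space of 126 points.
-/

set_option autoImplicit false

namespace Cfsg.Agent.H49.Tetrad

open Cfsg.Agent.H93 Cfsg.Agent.H61.M24

variable {G : Type*} [Group G] {D : Set G} {z : G}

theorem commute_cz (g : ↥(Subgroup.centralizer ({z} : Set G))) : Commute (g : G) z :=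
  Subgroup.mem_centralizer_singleton_iff.mp g.2

/-- a member of a tetrad as an element of the centraliser -/
def memC (T : Tet D z) {x : G} (hx : x ∈ T.1) : ↥(Subgroup.centralizer ({z} : Set G)) :=
  ⟨x, Subgroup.mem_centralizer_singleton_iff.mpr (T.2.commute_prod hx).eq⟩

section Act

variable (htt : TT D)

/-- conjugation on tetrads -/
def conjT (g : ↥(Subgroup.centralizer ({z} : Set G))) (T : Tet D z) : Tet D z :=
  ⟨(fun y => (g : G) * y * (g : G)⁻¹) '' T.1, T.2.conj htt (commute_cz g)⟩

theorem conjT_mul (g k : ↥(Subgroup.centralizer ({z} : Set G))) (T : Tet D z) :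
    conjT htt (g * k) T = conjT htt g (conjT htt k T) := by
  refine Subtype.ext ?_
  show (fun y => ((g * k : ↥(Subgroup.centralizer ({z} : Set G))) : G) * y * _) '' T.1 =
    (fun y => (g : G) * y * (g : G)⁻¹) '' ((fun y => (k : G) * y * (k : G)⁻¹) '' T.1)
  rw [Set.image_image]
  refine Set.image_congr fun y _ => ?_
  rw [Subgroup.coe_mul]
  group

theorem conjT_one (T : Tet D z) : conjT htt (1 : ↥(Subgroup.centralizer ({z} : Set G))) T = T := by
  refine Subtype.ext ?_
  show (fun y => ((1 : ↥(Subgroup.centralizer ({z} : Set G))) : G) * y * _) '' T.1 = T.1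
  simp

/-- the action on tetrads -/
def act : ↥(Subgroup.centralizer ({z} : Set G)) →* Equiv.Perm (Tet D z) where
  toFun g :=
    { toFun := conjT htt g
      invFun := conjT htt g⁻¹
      left_inv := fun T => by rw [← conjT_mul, inv_mul_cancel, conjT_one]
      right_inv := fun T => by rw [← conjT_mul, mul_inv_cancel, conjT_one] }
  map_one' := Equiv.ext fun T => conjT_one htt T
  map_mul' g k := Equiv.ext fun T => conjT_mul htt g k T

theorem act_apply (g : ↥(Subgroup.centralizer ({z} : Set G))) (T : Tet D z) :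
    (act htt g T).1 = (fun y => (g : G) * y * (g : G)⁻¹) '' T.1 := rfl

theorem act_mem {g : ↥(Subgroup.centralizer ({z} : Set G))} {T : Tet D z} {y : G} (hy : y ∈ T.1) :
    (g : G) * y * (g : G)⁻¹ ∈ (act htt g T).1 := ⟨y, hy, rfl⟩

theorem act_adj (g : ↥(Subgroup.centralizer ({z} : Set G))) (S S' : Tet D z) :
    TAdj (act htt g S) (act htt g S') ↔ TAdj S S' := by
  refine and_congr (not_congr (act htt g).injective.eq_iff)
    ⟨fun h x hx y hy => commute_conj.mp (h _ (act_mem htt hx) _ (act_mem htt hy)), fun h => ?_⟩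
  rintro _ ⟨x, hx, rfl⟩ _ ⟨y, hy, rfl⟩
  exact commute_conj.mpr (h x hx y hy)

variable (hind : Indep D 7)

/-- the map of a tetrad -/
noncomputable def tetR (T : Tet D z) : Equiv.Perm (Tet D z) :=
  act htt (memC T T.2.nonempty.some_mem)

include hind in
theorem act_member (T : Tet D z) {x : G} (hx : x ∈ T.1) : act htt (memC T hx) = tetR htt T :=
  Equiv.ext fun S => Subtype.ext (T.2.conj_eq htt hind S.2 hx T.2.nonempty.some_mem)

include hind in
theorem tetR_mem (T S : Tet D z) {x y : G} (hx : x ∈ T.1) (hy : y ∈ S.1) :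
    x * y * x ∈ (tetR htt T S).1 := by
  rw [← act_member htt hind T hx]
  exact ⟨y, hy, by show x * y * x⁻¹ = _; rw [htt.inv_eq (T.2.mem hx)]⟩

include hind in
theorem tetR_self (T : Tet D z) : tetR htt T T = T := by
  obtain ⟨x, hx⟩ := T.2.nonempty
  refine Subtype.ext ((tetR htt T T).2.eq_of_mem htt hind T.2 (tetR_mem htt hind T T hx hx) ?_)
  rw [htt.sq x (T.2.mem hx), one_mul]
  exact hx

include hind in
theorem tetR_fix (T S : Tet D z) : tetR htt T S = S ↔ S = T ∨ TAdj T S := by
  obtain ⟨a, ha⟩ := T.2.nonempty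
  obtain ⟨e, he⟩ := S.2.nonempty
  have haD := T.2.mem ha
  have heD := S.2.mem he
  constructor
  · intro h
    have hm := tetR_mem htt hind T S ha he
    rw [h] at hm
    by_cases hc : Commute a e
    · by_cases hne : T = S
      · exact Or.inl hne.symm
      · exact Or.inr ⟨hne, fun x hx y hy => T.2.commute_cross htt S.2 ha he hc hx hy⟩
    · exfalso
      have q := (S.2.com he hm).eq
      rw [htt.braid haD heD hc, show e * (e * a * e) = (e * e) * a * e by group,
        show e * a * e * e = e * a * (e * e) by group, htt.sq e heD, one_mul, mul_one] at q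
      exact hc q
  · rintro (rfl | h)
    · exact tetR_self htt hind S
    · refine Subtype.ext ((tetR htt T S).2.eq_of_mem htt hind S.2 (tetR_mem htt hind T S ha he) ?_)
      rw [(h.2 a ha e he).eq, mul_assoc, htt.sq a haD, mul_one]
      exact he

include hind in
theorem tetR_sw (T S : Tet D z) (hne : T ≠ S) (h : ¬ TAdj T S) : tetR htt T S = tetR htt S T := by
  obtain ⟨a, ha⟩ := T.2.nonempty
  obtain ⟨e, he⟩ := S.2.nonempty
  have hc : ¬ Commute a e := fun q => h ⟨hne, fun x hx y hy => T.2.commute_cross htt S.2 ha he q hx hy⟩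
  refine Subtype.ext ((tetR htt T S).2.eq_of_mem htt hind (tetR htt S T).2
    (tetR_mem htt hind T S ha he) ?_)
  rw [htt.braid (T.2.mem ha) (S.2.mem he) hc]
  exact tetR_mem htt hind S T he ha

include hind in
theorem tetR_conj (T S : Tet D z) :
    tetR htt (tetR htt T S) = tetR htt T * tetR htt S * tetR htt T := by
  obtain ⟨a, ha⟩ := T.2.nonempty
  obtain ⟨e, he⟩ := S.2.nonempty
  refine (act_member htt hind _ (tetR_mem htt hind T S ha he)).symm.trans ?_
  trans act htt (memC T ha) * act htt (memC S he) * act htt (memC T ha)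
  · rw [← map_mul, ← map_mul]; rfl
  · simp only [act_member htt hind]

include hind in
theorem tetR_invol (T S : Tet D z) : tetR htt T (tetR htt T S) = S := by
  obtain ⟨a, ha⟩ := T.2.nonempty
  rw [← act_member htt hind T ha, ← Equiv.Perm.mul_apply, ← map_mul,
    show memC T ha * memC T ha = 1 from Subtype.ext (htt.sq a (T.2.mem ha)), map_one]
  rfl

include hind in
theorem tetR_prod {ι : Type*} (l : List ι) (t : ι → Tet D z) (f : ι → G) (hf : ∀ i, f i ∈ (t i).1) :
    (l.map fun i => tetR htt (t i)).prod = act htt (l.map fun i => memC (t i) (hf i)).prod := by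
  rw [map_list_prod, List.map_map]
  congr 1
  exact List.map_congr_left fun i _ => (act_member htt hind (t i) (hf i)).symm

end Act

theorem loc_of [Finite G] (h : Geo24 D) (T : Tet D z) :
    ∃ e, Loc (TAdj (D := D) (z := z)) (tetR h.data.core.tt) T e := by
  have htt := h.data.core.tt
  have hind := h.data.ind
  obtain ⟨e, inj, adj, cov, iff', f, a, b, c, hf, ha, hb, hc, hfive⟩ := exists_local h T
  refine ⟨e, inj, adj, cov, fun i j => (iff' i j).trans (by rw [qA_eq]), fun l h5 hnd hadj => ?_⟩
  have hp := hfive l h5 hnd fun i hi j hj hne => by rw [qA_eq]; exact hadj i hi j hj hne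
  rw [tetR_prod htt hind l e f hf]
  have hco : (l.map fun i => memC (e i) (hf i)).prod = memC T ha * memC T hb * memC T hc := by
    refine Subtype.ext ?_
    rw [Subgroup.val_list_prod, List.map_map]
    exact hp
  rw [hco, map_mul, map_mul, act_member htt hind T ha, act_member htt hind T hb,
    act_member htt hind T hc, ← act_member htt hind T ha, ← map_mul,
    show memC T ha * memC T ha = 1 from Subtype.ext (htt.sq a (T.2.mem ha)), map_one, one_mul]

theorem card_common_tet [Finite G] (h : Geo24 D) (T S : Tet D z) (hne : T ≠ S) (hn : ¬ TAdj T S) :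
    {W | TAdj T W ∧ TAdj W S}.ncard = 18 := by
  classical
  haveI := Fintype.ofFinite G
  haveI := Fintype.ofFinite (Tet D z)
  have htt := h.data.core.tt
  have hind := h.data.ind
  obtain ⟨a, b, c, d, q, hT⟩ := T.2
  obtain ⟨e, he⟩ := S.2.nonempty
  have ha : a ∈ T.1 := hT ▸ (by simp [qset])
  have hc : ¬ Commute a e := fun k => hn ⟨hne, fun x hx y hy => T.2.commute_cross htt S.2 ha he k hx hy⟩
  have h72 := card_fixed_common h q (S.2.mem he) (S.2.commute_prod he) hc
  let Cm : Finset (Tet D z) := Finset.univ.filter fun W => TAdj T W ∧ TAdj W S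
  have hdis : (Cm : Set (Tet D z)).PairwiseDisjoint fun W => W.1.toFinset := by
    intro W _ W' _ hne
    refine Finset.disjoint_left.mpr fun x hx hx' => hne (Subtype.ext ?_)
    exact W.2.eq_of_mem htt hind W'.2 (Set.mem_toFinset.mp hx) (Set.mem_toFinset.mp hx')
  have hbi : Cm.biUnion (fun W => W.1.toFinset) = {y | y ∈ common D a e ∧ Commute y z}.toFinset := by
    ext y
    simp only [Finset.mem_biUnion, Set.mem_toFinset, Cm, Finset.mem_filter, Finset.mem_univ, true_and,
      Set.mem_ofPred_eq]
    constructor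
    · rintro ⟨W, ⟨h1, h2⟩, hy⟩
      refine ⟨⟨⟨W.2.mem hy, fun u => h1.1 ?_, h1.2 a ha y hy⟩,
        W.2.mem hy, fun u => h2.1 ?_, (h2.2 y hy e he).symm⟩, W.2.commute_prod hy⟩
      · exact Subtype.ext (T.2.eq_of_mem htt hind W.2 ha (u ▸ hy))
      · exact Subtype.ext (W.2.eq_of_mem htt hind S.2 hy (u.symm ▸ he))
    · rintro ⟨hy, hyz⟩
      obtain ⟨W, hW, hyW⟩ := exists_tetrad h q hy.1.1 hyz.symm
      refine ⟨⟨W, hW⟩, ⟨tadj_of_mem htt hind ha hyW (fun u => ?_) hy.1.2.2,
        tadj_of_mem htt hind (S := ⟨W, hW⟩) hyW he (fun u => ?_) hy.2.2.2.symm⟩, hyW⟩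
      · exact hc (hW.commute_all htt (S.2.mem he) (S.2.commute_prod he) hyW hy.2.2.2 u).symm
      · exact hc (S.2.commute_all htt (T.2.mem ha) (T.2.commute_prod ha) u hy.1.2.2 he)
  have hcount := Finset.card_biUnion hdis
  rw [hbi, ← Set.ncard_eq_toFinset_card', h72,
    Finset.sum_congr rfl (g := fun _ => 4) (fun W _ => by
      rw [← Set.ncard_eq_toFinset_card']; exact W.2.ncard),
    Finset.sum_const, smul_eq_mul] at hcount
  rw [show {W | TAdj T W ∧ TAdj W S} = ↑Cm by ext; simp [Cm], Set.ncard_coe_finset]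
  omega

/-- the space of tetrads -/
noncomputable def tspace [Finite G] (h : Geo24 D) : TSpace (Tet D z) where
  adj := TAdj
  r := tetR h.data.core.tt
  symm _ _ q := q.symm
  ne _ _ q := q.1
  aut x a b := act_adj _ _ a b
  fix := tetR_fix _ h.data.ind
  invol := tetR_invol _ h.data.ind
  sw := tetR_sw _ h.data.ind
  conj := tetR_conj _ h.data.ind
  loc := loc_of h
  common x y h1 h2 := card_common_tet h x y h1 h2

theorem card_tet [Finite G] (h : Geo24 D) (T : Tet D z) : Nat.card (Tet D z) = 126 :=
  (tspace h).card_eq T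

end Cfsg.Agent.H49.Tetrad
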