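import Cfsg.Agent.H61.M24.Over
import Cfsg.Agent.H93.Invol24
import Cfsg.Agent.H64.M24Triple.Residue

/-!
Groups of type M(24): four pairwise commuting members with a given product (tetrads). Every member
commuting with the product lies in one tetrad; two tetrads are either elementwise commuting or no
member of one commutes with a member of the other, and all members of a tetrad move the others alike.
-/

set_option autoImplicit false

namespace Cfsg.Agent.H49.Tetrad

open Cfsg.Agent.H93 Cfsg.Agent.H61.M24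

variable {G : Type*} [Group G] {D : Set G} {z : G}

/-- what the hypotheses of the type give for the triple machinery -/
theorem hyp [Finite G] (h : Geo24 D) : H64.M24Triple.Hyp D where
  core := h.data.core
  ind := h.data.ind
  cent := h.cent
  self := fun a ha => h.self a ha
  two := fun a ha => h.two a ha
  res := fun a ha => (h.data.res a ha).1
  card := by obtain ⟨a, ha⟩ := h.data.nonempty; exact h.card_members ha

/-- four distinct pairwise commuting members with product `z` -/
structure Quad (D : Set G) (z a b c d : G) : Prop where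
  nd : [a, b, c, d].Nodup
  mem : ∀ x ∈ [a, b, c, d], x ∈ D
  com : ∀ x ∈ [a, b, c, d], ∀ y ∈ [a, b, c, d], Commute x y
  prod : [a, b, c, d].prod = z

/-- the members of a quadruple -/
def qset (a b c d : G) : Set G := {x | x ∈ [a, b, c, d]}

/-- a set of four commuting members with product `z` -/
def IsTetrad (D : Set G) (z : G) (T : Set G) : Prop :=
  ∃ a b c d, Quad D z a b c d ∧ T = qset a b c d

theorem exists_quad_of_list {l : List G} (hl : l.length = 4) (hnd : l.Nodup) (hmem : ∀ a ∈ l, a ∈ D)
    (hcom : ∀ a ∈ l, ∀ b ∈ l, Commute a b) (hp : l.prod = z) :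
    ∃ a b c d, l = [a, b, c, d] ∧ Quad D z a b c d := by
  match l, hl with
  | [a, b, c, d], _ => exact ⟨a, b, c, d, rfl, hnd, hmem, hcom, hp⟩

namespace Quad

variable {a b c d : G} (q : Quad D z a b c d)

include q

/-- any arrangement of the four is again a quadruple -/
theorem of_perm {a' b' c' d' : G} (hp : [a', b', c', d'].Perm [a, b, c, d]) :
    Quad D z a' b' c' d' ∧ qset a' b' c' d' = qset a b c d := by
  refine ⟨⟨hp.nodup_iff.mpr q.nd, fun x hx => q.mem x (hp.subset hx),
    fun x hx y hy => q.com x (hp.subset hx) y (hp.subset hy), ?_⟩, Set.ext fun x => hp.mem_iff⟩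
  rw [← q.prod]
  exact hp.prod_eq' (List.Pairwise.imp_of_mem (R := fun _ _ => True)
    (fun hx hy _ => q.com _ (hp.subset hx) _ (hp.subset hy))
    (List.pairwise_of_forall fun _ _ => trivial))

/-- the quadruple read from any of its members -/
theorem at_mem {x : G} (hx : x ∈ qset a b c d) :
    ∃ b' c' d', Quad D z x b' c' d' ∧ qset x b' c' d' = qset a b c d := by
  simp only [qset, Set.mem_setOf_eq, List.mem_cons, List.not_mem_nil, or_false] at hx
  rcases hx with rfl | rfl | rfl | rfl
  · exact ⟨b, c, d, q, rfl⟩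
  · exact ⟨a, c, d, q.of_perm (List.Perm.swap _ _ _)⟩
  · exact ⟨a, b, d, q.of_perm ((List.Perm.swap a x [b, d]).trans
      (List.Perm.cons a (List.Perm.swap b x [d])))⟩
  · exact ⟨a, b, c, q.of_perm (List.perm_append_comm (l₁ := [x]) (l₂ := [a, b, c]))⟩

theorem tail_prod (htt : TT D) : [b, c, d].prod = a * z := by
  rw [← q.prod, List.prod_cons (a := a), ← mul_assoc, htt.sq a (q.mem a (by simp)), one_mul]

theorem tail_nd : [b, c, d].Nodup := (List.nodup_cons.mp q.nd).2

theorem tail_mem : ∀ x ∈ [b, c, d], x ∈ D := fun x hx => q.mem x (List.mem_cons_of_mem _ hx)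

theorem tail_com : ∀ x ∈ [b, c, d], ∀ y ∈ [b, c, d], Commute x y := fun x hx y hy =>
  q.com x (List.mem_cons_of_mem _ hx) y (List.mem_cons_of_mem _ hy)

/-- each member commutes with the product -/
theorem commute_mem {x : G} (hx : x ∈ qset a b c d) : Commute x z := by
  rw [← q.prod]
  exact Commute.list_prod_right _ _ fun y hy => q.com x hx y hy

/-- the product is an involution -/
theorem sq (htt : TT D) : z * z = 1 := q.prod ▸ prod_sq_one htt _ q.mem q.com

theorem tetrad : IsTetrad D z (qset a b c d) := ⟨a, b, c, d, q, rfl⟩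

end Quad

namespace IsTetrad

variable {T T' : Set G}

theorem at_mem (hT : IsTetrad D z T) {x : G} (hx : x ∈ T) :
    ∃ b c d, Quad D z x b c d ∧ qset x b c d = T := by
  obtain ⟨a, b, c, d, q, rfl⟩ := hT
  exact q.at_mem hx

theorem mem (hT : IsTetrad D z T) {x : G} (hx : x ∈ T) : x ∈ D := by
  obtain ⟨a, b, c, d, q, rfl⟩ := hT
  exact q.mem x hx

theorem com (hT : IsTetrad D z T) {x y : G} (hx : x ∈ T) (hy : y ∈ T) : Commute x y := by
  obtain ⟨a, b, c, d, q, rfl⟩ := hT
  exact q.com x hx y hy

theorem commute_prod (hT : IsTetrad D z T) {x : G} (hx : x ∈ T) : Commute x z := by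
  obtain ⟨a, b, c, d, q, rfl⟩ := hT
  exact q.commute_mem hx

theorem nonempty (hT : IsTetrad D z T) : T.Nonempty := by
  obtain ⟨a, b, c, d, q, rfl⟩ := hT
  exact ⟨a, by simp [qset]⟩

theorem ncard (hT : IsTetrad D z T) : T.ncard = 4 := by
  classical
  obtain ⟨a, b, c, d, q, rfl⟩ := hT
  rw [show qset a b c d = ↑([a, b, c, d].toFinset) by ext; simp [qset], Set.ncard_coe_finset,
    List.toFinset_card_of_nodup q.nd]
  rfl

/-- conjugating by an element fixing the product -/
theorem conj (htt : TT D) (hT : IsTetrad D z T) {g : G} (hg : Commute g z) :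
    IsTetrad D z ((fun y => g * y * g⁻¹) '' T) := by
  obtain ⟨a, b, c, d, q, rfl⟩ := hT
  have e : [g * a * g⁻¹, g * b * g⁻¹, g * c * g⁻¹, g * d * g⁻¹] =
      [a, b, c, d].map (MulAut.conj g).toMonoidHom := rfl
  refine ⟨g * a * g⁻¹, g * b * g⁻¹, g * c * g⁻¹, g * d * g⁻¹, ⟨?_, ?_, ?_, ?_⟩, ?_⟩
  · rw [e]
    exact q.nd.map (MulAut.conj g).injective
  · rw [e]
    intro x hx
    obtain ⟨y, hy, rfl⟩ := List.mem_map.mp hx
    exact htt.conj_mem g y (q.mem y hy)
  · rw [e]
    intro x hx x' hx'
    obtain ⟨y, hy, rfl⟩ := List.mem_map.mp hx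
    obtain ⟨y', hy', rfl⟩ := List.mem_map.mp hx'
    exact (q.com y hy y' hy').map _
  · rw [e, ← map_list_prod, q.prod]
    exact mul_inv_eq_iff_eq_mul.mpr hg.eq
  · ext x
    simp only [qset, Set.mem_image, Set.mem_setOf_eq, List.mem_cons, List.not_mem_nil, or_false]
    constructor
    · rintro ⟨y, hy, rfl⟩
      rcases hy with rfl | rfl | rfl | rfl <;> simp
    · rintro (rfl | rfl | rfl | rfl)
      exacts [⟨a, Or.inl rfl, rfl⟩, ⟨b, Or.inr (Or.inl rfl), rfl⟩,
        ⟨c, Or.inr (Or.inr (Or.inl rfl)), rfl⟩, ⟨d, Or.inr (Or.inr (Or.inr rfl)), rfl⟩]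

/-- two tetrads with a member in common are equal -/
theorem eq_of_mem (htt : TT D) (hind : Indep D 7) (hT : IsTetrad D z T) (hT' : IsTetrad D z T')
    {x : G} (hx : x ∈ T) (hx' : x ∈ T') : T = T' := by
  obtain ⟨b, c, d, q, rfl⟩ := hT.at_mem hx
  obtain ⟨b', c', d', q', rfl⟩ := hT'.at_mem hx'
  have key := unique_factor htt (hind.mono (by norm_num)) 3 le_rfl (x * z) [b, c, d] [b', c', d']
    ⟨q.tail_nd, rfl, q.tail_mem, q.tail_com, q.tail_prod htt⟩
    ⟨q'.tail_nd, rfl, q'.tail_mem, q'.tail_com, q'.tail_prod htt⟩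
  ext y
  exact or_congr_right (key y) |> fun e =>
    List.mem_cons.trans (e.trans List.mem_cons.symm)

/-- a member commuting with the product and one member commutes with the whole tetrad -/
theorem commute_all (htt : TT D) (hT : IsTetrad D z T) {v x : G} (hv : v ∈ D) (hvz : Commute v z)
    (hx : x ∈ T) (hvx : Commute v x) {y : G} (hy : y ∈ T) : Commute v y := by
  obtain ⟨b, c, d, q, rfl⟩ := hT.at_mem hx
  rcases List.mem_cons.mp hy with rfl | hy
  · exact hvx
  exact htt.commute_of_commute_prod hv [b, c, d] q.tail_nd le_rfl q.tail_mem q.tail_com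
    (q.tail_prod htt ▸ hvx.mul_right hvz) y hy

/-- tetrads commute elementwise or not at all -/
theorem commute_cross (htt : TT D) (hT : IsTetrad D z T) (hT' : IsTetrad D z T') {x x' : G}
    (hx : x ∈ T) (hx' : x' ∈ T') (hc : Commute x x') {y y' : G} (hy : y ∈ T) (hy' : y' ∈ T') :
    Commute y y' := by
  have h1 : Commute x y' := hT'.commute_all htt (hT.mem hx) (hT.commute_prod hx) hx' hc hy'
  exact (hT.commute_all htt (hT'.mem hy') (hT'.commute_prod hy') hx h1.symm hy).symm

/-- members of a tetrad move another tetrad alike -/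
theorem conj_eq (htt : TT D) (hind : Indep D 7) (hT : IsTetrad D z T) (hT' : IsTetrad D z T')
    {x x' : G} (hx : x ∈ T) (hx' : x' ∈ T) :
    (fun y => x * y * x⁻¹) '' T' = (fun y => x' * y * x'⁻¹) '' T' := by
  obtain ⟨e, he⟩ := hT'.nonempty
  by_cases hc : Commute x e
  · refine Set.image_congr fun y hy => ?_
    rw [(hT.commute_cross htt hT' hx he hc hx hy).eq, (hT.commute_cross htt hT' hx he hc hx' hy).eq]
    group
  have hall : ∀ u ∈ T, (fun y => u * y * u⁻¹) '' T' = (fun y => e * y * e⁻¹) '' T := by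
    intro u hu
    have hn : ¬ Commute u e := fun q => hc (hT.commute_cross htt hT' hu he q hx he)
    refine (hT'.conj htt (hT.commute_prod hu)).eq_of_mem htt hind
      (hT.conj htt (hT'.commute_prod he)) ⟨e, he, rfl⟩ ?_
    refine ⟨u, hu, ?_⟩
    show e * u * e⁻¹ = u * e * u⁻¹
    rw [htt.inv_eq (hT'.mem he), htt.inv_eq (hT.mem hu)]
    exact (htt.braid (hT.mem hu) (hT'.mem he) hn).symm
  rw [hall x hx, hall x' hx']

end IsTetrad

/-- every member commuting with the product lies in a tetrad -/
theorem exists_tetrad [Finite G] (h : Geo24 D) {a b c d : G} (q : Quad D z a b c d) {e : G}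
    (he : e ∈ D) (hez : Commute z e) : ∃ T, IsTetrad D z T ∧ e ∈ T := by
  classical
  have htt := h.data.core.tt
  have hze : z ∈ nbSub D e := by
    rw [← h.cent e he]; exact Subgroup.mem_centralizer_singleton_iff.mpr hez.eq
  obtain ⟨hgeo, hM⟩ := h.data.res e he
  set zb : Residue D e := QuotientGroup.mk (⟨z, hze⟩ : ↥(nbSub D e)) with hzb
  have hzb2 : zb * zb = 1 := by
    rw [hzb, ← QuotientGroup.mk_mul, show (⟨z, hze⟩ : ↥(nbSub D e)) * ⟨z, hze⟩ = 1 from
      Subtype.ext (q.sq htt), QuotientGroup.mk_one]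
  obtain ⟨l0, lm0, lc0, lp0⟩ := hM.invol_all hgeo hzb2
  obtain ⟨l, lnd, ll, lm, lc, lp⟩ := hM.shorten l0.length l0 le_rfl lm0 lc0
  rw [lp0] at lp
  choose f hf ef using fun x (hx : x ∈ l) => rimg_surj (lm x hx)
  let m := l.attach.map fun x => f x.1 x.2
  have hlen : m.length = l.length := by simp [m]
  have hm : ∀ x ∈ m, x ∈ nb D e := by
    intro x hx
    obtain ⟨y, -, rfl⟩ := List.mem_map.mp hx
    exact hf _ _
  have emap' : m.map (rimg D e) = l := by
    rw [List.map_map, show (rimg D e ∘ fun x : {x // x ∈ l} => f x.1 x.2) = fun x => x.1 from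
      funext fun x => ef x.1 x.2, List.attach_map_subtype_val]
  have hmnd : m.Nodup := List.Nodup.of_map (rimg D e) (by rw [emap']; exact lnd)
  have hc : ∀ x ∈ m, ∀ y ∈ m, Commute x y := by
    intro x hx y hy
    refine (h.data.core.rimg_comm (hm x hx) (hm y hy)).mp ?_
    exact lc _ (emap' ▸ List.mem_map_of_mem hx) _ (emap' ▸ List.mem_map_of_mem hy)
  obtain ⟨hpm, epm⟩ := rimg_prod hm
  rw [emap', lp, hzb] at epm
  have luniq : ∀ s : List G, s.Nodup → s.length ≤ 3 → (∀ x ∈ s, x ∈ D) →
      (∀ x ∈ s, ∀ y ∈ s, Commute x y) → s.prod = z → False := by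
    intro s hs hs3 hsD hsc hsp
    have := Upper24.length_unique h.data.core h.data.ind (s.length + 4) s [a, b, c, d] le_rfl
      (by simp only [List.length_cons, List.length_nil]; omega) hs q.nd hsD q.mem hsc q.com
      (hsp.trans q.prod.symm)
    simp only [List.length_cons, List.length_nil] at this
    omega
  rcases h.two e he ((⟨m.prod, hpm⟩ : ↥(nbSub D e))⁻¹ * ⟨z, hze⟩) (QuotientGroup.eq.mp epm) with u | u
  · exact (luniq m hmnd (hlen ▸ ll) (fun x hx => (hm x hx).1) hc (inv_mul_eq_one.mp u)).elim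
  · have hp : (m ++ [e]).prod = z := by
      rw [List.prod_append, List.prod_singleton]
      exact (inv_mul_eq_iff_eq_mul.mp u).symm
    have hnd : (m ++ [e]).Nodup := List.nodup_append.mpr ⟨hmnd, List.nodup_singleton e,
      fun x hx y hy hxy => (hm x hx).2.1 (hxy.trans (List.mem_singleton.mp hy))⟩
    have hmem : ∀ x ∈ m ++ [e], x ∈ D := fun x hx => (List.mem_append.mp hx).elim
      (fun k => (hm x k).1) (fun k => List.mem_singleton.mp k ▸ he)
    have hcom : ∀ x ∈ m ++ [e], ∀ y ∈ m ++ [e], Commute x y := by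
      intro x hx y hy
      rcases List.mem_append.mp hx with k | k <;> rcases List.mem_append.mp hy with k' | k'
      · exact hc x k y k'
      · exact List.mem_singleton.mp k' ▸ (hm x k).2.2.symm
      · exact List.mem_singleton.mp k ▸ (hm y k').2.2
      · rw [List.mem_singleton.mp k, List.mem_singleton.mp k']
    have h4 : (m ++ [e]).length = 4 := by
      by_contra hne
      refine luniq _ hnd ?_ hmem hcom hp
      rw [List.length_append, List.length_singleton] at hne ⊢
      omega
    obtain ⟨a', b', c', d', el, q'⟩ := exists_quad_of_list h4 hnd hmem hcom hp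
    refine ⟨_, q'.tetrad, ?_⟩
    show e ∈ [a', b', c', d']
    rw [← el]; simp

end Cfsg.Agent.H49.Tetrad
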