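import Cfsg.Agent.H49.Tetrad.Model45

/-!
The eighteen point sets closed under third points, of valency three and without triangles, are all
moved onto a standard one by third-point maps.
-/

set_option autoImplicit false

namespace Cfsg.Agent.H49.Tetrad

/-- the standard eighteen points as a finite set -/
def qX0Set : Finset (Fin 45) := Finset.univ.filter fun p => qX0.testBit p.1

theorem qWord_append (l l' : List (Fin 45)) (j : Fin 45) :
    qWord (l ++ l') j = qWord l (qWord l' j) := by
  induction l with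
  | nil => rfl
  | cons a l ih => rw [List.cons_append, qWord, qWord, ih]

theorem qWord_inj (l : List (Fin 45)) : Function.Injective (qWord l) := by
  induction l with
  | nil => exact fun _ _ h => h
  | cons a l ih =>
    intro x y h
    exact ih ((Function.LeftInverse.injective (qT_invol a)) h)

theorem qWord_aut (l : List (Fin 45)) (x y : Fin 45) : qA (qWord l x) (qWord l y) = qA x y := by
  induction l with
  | nil => rfl
  | cons a l ih => rw [qWord, qWord, qT_aut, ih]

theorem qWord_third (l : List (Fin 45)) (x y : Fin 45) :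
    qT (qWord l x) (qWord l y) = qWord l (qT x y) := by
  by_cases h : x = y ∨ qA x y = true
  · rw [qT_fix _ _ h, qT_fix]
    rcases h with rfl | h
    · exact Or.inl rfl
    · exact Or.inr (by rw [qWord_aut]; exact h)
  simp only [not_or, Bool.not_eq_true] at h
  have hne : qWord l x ≠ qWord l y := fun e => h.1 (qWord_inj l e)
  obtain ⟨s1, s2, s3⟩ := qT_spec x y h.1 h.2
  refine (qT_unique _ _ _ hne (by rw [qWord_aut]; exact h.2) (fun e => s1 (qWord_inj l e))
    (fun e => s2 (qWord_inj l e)) ?_).symm
  refine Nat.eq_of_testBit_eq fun n => ?_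
  rw [Nat.testBit_and (_ &&& _), Nat.testBit_and]
  rcases Nat.lt_or_ge n 45 with hn | hn
  · obtain ⟨m, hm⟩ := (show ∃ m, qWord l m = ⟨n, hn⟩ from
      (Finite.injective_iff_surjective.mp (qWord_inj l)) _)
    have e : ∀ a, (qMasks.getD a 0).testBit n = (qMasks.getD a 0).testBit (qWord l m).1 := by
      rw [hm]; exact fun _ => rfl
    simp only [e]
    show (qA (qWord l x) (qWord l m) && qA (qWord l y) (qWord l m) &&
      qA (qWord l (qT x y)) (qWord l m)) = (qA (qWord l x) (qWord l m) && qA (qWord l y) (qWord l m))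
    rw [qWord_aut, qWord_aut, qWord_aut]
    have := congrArg (fun n => n.testBit m.1) s3
    simp only [Nat.testBit_and] at this
    exact this
  · have hlt : ∀ a : Fin 45, qMasks.getD a.1 0 < 2 ^ 45 := by decide +kernel
    rw [Nat.testBit_lt_two_pow ((hlt _).trans_le (Nat.pow_le_pow_right (by norm_num) hn))]
    simp

theorem qMask_spec (l : List (Fin 45)) (p : Fin 45) : (qMask l).testBit p.1 = true ↔ p ∈ l := by
  have key : ∀ (l : List (Fin 45)) (m : ℕ),
      (l.foldl (fun m q => m ||| (1 <<< q.1)) m).testBit p.1 = true ↔ m.testBit p.1 = true ∨ p ∈ l := by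
    intro l
    induction l with
    | nil => simp
    | cons a l ih =>
      intro m
      rw [List.foldl_cons, ih, Nat.testBit_or, Nat.one_shiftLeft, Nat.testBit_two_pow]
      simp only [Bool.or_eq_true, decide_eq_true_eq, List.mem_cons, Fin.ext_iff]
      tauto
  simp [qMask, key]

theorem eraseDups_nodup {α : Type*} [BEq α] [LawfulBEq α] :
    ∀ (n : ℕ) (l : List α), l.length ≤ n → l.eraseDups.Nodup := by
  intro n
  induction n with
  | zero => intro l hl; rw [List.length_eq_zero_iff.mp (Nat.le_zero.mp hl)]; simp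
  | succ n ih =>
    intro l hl
    cases l with
    | nil => simp
    | cons a as =>
      rw [List.eraseDups_cons, List.nodup_cons]
      refine ⟨fun h => ?_, ih _ ((List.length_filter_le _ _).trans (by simpa using hl))⟩
      rw [List.mem_eraseDups, List.mem_filter] at h
      simp at h

/-- such a set is a word image of the standard one -/
theorem eighteen (X : Finset (Fin 45)) (hcard : X.card = 18)
    (hcl : ∀ i ∈ X, ∀ j ∈ X, qT i j ∈ X)
    (hval : ∀ i ∈ X, (X.filter fun j => qA i j = true).card = 3)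
    (htf : ∀ i ∈ X, ∀ j ∈ X, ∀ k ∈ X, qA i j = true → qA i k = true → qA j k = false) :
    ∃ l : List (Fin 45), X.image (qWord l) = qX0Set := by
  classical
  obtain ⟨i, hi⟩ := Finset.card_pos.mp (show 0 < X.card by omega)
  set l1 := qToZero.getD i.1 [] with hl1
  set Y := X.image (qWord l1) with hY
  have hYcard : Y.card = 18 := by rw [hY, Finset.card_image_of_injective _ (qWord_inj l1), hcard]
  have h0 : (0 : Fin 45) ∈ Y := Finset.mem_image.mpr ⟨i, hi, qToZero_spec i⟩
  have ycl : ∀ a ∈ Y, ∀ b ∈ Y, qT a b ∈ Y := by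
    intro a ha b hb
    obtain ⟨a0, ha0, rfl⟩ := Finset.mem_image.mp ha
    obtain ⟨b0, hb0, rfl⟩ := Finset.mem_image.mp hb
    rw [qWord_third]
    exact Finset.mem_image_of_mem _ (hcl a0 ha0 b0 hb0)
  have yval : ∀ a ∈ Y, (Y.filter fun j => qA a j = true).card = 3 := by
    intro a ha
    obtain ⟨a0, ha0, rfl⟩ := Finset.mem_image.mp ha
    rw [hY, Finset.filter_image, Finset.card_image_of_injective _ (qWord_inj l1)]
    simp only [qWord_aut]
    exact hval a0 ha0
  have ytf : ∀ a ∈ Y, ∀ b ∈ Y, ∀ c ∈ Y, qA a b = true → qA a c = true → qA b c = false := by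
    intro a ha b hb c hc
    obtain ⟨a0, ha0, rfl⟩ := Finset.mem_image.mp ha
    obtain ⟨b0, hb0, rfl⟩ := Finset.mem_image.mp hb
    obtain ⟨c0, hc0, rfl⟩ := Finset.mem_image.mp hc
    simp only [qWord_aut]
    exact htf a0 ha0 b0 hb0 c0 hc0
  obtain ⟨x1, hx1, x2, hx2, hne⟩ := Finset.one_lt_card.mp (show 1 < _ by rw [yval 0 h0]; norm_num)
  rw [Finset.mem_filter] at hx1 hx2
  have h12 := ytf 0 h0 x1 hx1.1 x2 hx2.1 hx1.2 hx2.2
  obtain ⟨u, hu, hu0⟩ := Finset.exists_mem_ne (show 1 < _ by rw [yval x1 hx1.1]; norm_num) (0 : Fin 45)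
  rw [Finset.mem_filter] at hu
  have h0u : qA 0 u = false := ytf x1 hx1.1 0 h0 u hu.1 (by rw [qA_symm]; exact hx1.2) hu.2
  have hc := qCase_all x1 x2 hx1.2 hx2.2 hne h12 u hu.2 hu0 h0u
  simp only [qCase, Bool.and_eq_true, List.all_eq_true, beq_iff_eq, Bool.or_eq_true,
    List.any_eq_true] at hc
  set C := qCl2 [0, x1, x2, u] with hC
  obtain ⟨hcount, hsize⟩ := hc
  have hCY : ∀ q ∈ C, q ∈ Y := by
    intro q hq
    simp only [hC, qCl2, List.mem_eraseDups, List.mem_flatMap, List.mem_map] at hq
    have hS : ∀ a ∈ [0, x1, x2, u], a ∈ Y := by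
      intro a ha
      simp only [List.mem_cons, List.not_mem_nil, or_false] at ha
      rcases ha with rfl | rfl | rfl | rfl
      exacts [h0, hx1.1, hx2.1, hu.1]
    obtain ⟨a, ⟨a1, ha1, a2, ha2, rfl⟩, b, ⟨b1, hb1, b2, hb2, rfl⟩, rfl⟩ := hq
    exact ycl _ (ycl _ (hS _ ha1) _ (hS _ ha2)) _ (ycl _ (hS _ hb1) _ (hS _ hb2))
  have hCnd : C.Nodup := by rw [hC, qCl2]; exact eraseDups_nodup _ _ le_rfl
  have hclosed : ∀ q ∈ C, ∀ p ∈ Y, qA q p = true → p ∈ C := by
    intro q hq p hp hqp
    have e : (C.filter fun p => qA q p).toFinset = Y.filter fun p => qA q p = true := by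
      refine Finset.eq_of_subset_of_card_le (fun r hr => ?_) ?_
      · rw [List.mem_toFinset, List.mem_filter] at hr
        exact Finset.mem_filter.mpr ⟨hCY r hr.1, hr.2⟩
      · rw [yval q (hCY q hq), List.toFinset_card_of_nodup (hCnd.filter _), ← List.countP_eq_length_filter,
          hcount q hq]
    have : p ∈ Y.filter fun p => qA q p = true := Finset.mem_filter.mpr ⟨hp, hqp⟩
    rw [← e, List.mem_toFinset, List.mem_filter] at this
    exact this.1
  have hYR : Y ⊆ (qRest C).toFinset := by
    intro p hp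
    rw [List.mem_toFinset, qRest, List.mem_filter]
    refine ⟨List.mem_finRange p, ?_⟩
    by_cases hpC : p ∈ C
    · simp [hpC]
    · rw [Bool.or_eq_true]
      refine Or.inr (List.all_eq_true.mpr fun q hq => ?_)
      rw [Bool.not_eq_true', Bool.eq_false_iff]
      exact fun hqp => hpC (hclosed q hq p hp (by rw [qA_symm]; exact hqp))
  have hRnd : (qRest C).Nodup := (List.nodup_finRange 45).filter _
  have hle := Finset.card_le_card hYR
  rw [hYcard, List.toFinset_card_of_nodup hRnd] at hle
  rcases hsize with hlt | ⟨h18, e, he, hmask⟩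
  · rw [Nat.blt_eq] at hlt; omega
  have heq : Y = (qRest C).toFinset :=
    Finset.eq_of_subset_of_card_le hYR (by rw [hYcard, List.toFinset_card_of_nodup hRnd, h18])
  refine ⟨e.2 ++ l1, ?_⟩
  have hw := List.all_eq_true.mp qXs_spec e he
  simp only [Bool.and_eq_true, beq_iff_eq] at hw
  rw [show X.image (qWord (e.2 ++ l1)) = Y.image (qWord e.2) by
    rw [hY, Finset.image_image]; congr 1; funext j; exact qWord_append _ _ j]
  ext p
  rw [qX0Set, Finset.mem_filter, ← hw.1, qMask_spec, heq]
  simp only [Finset.mem_image, List.mem_toFinset, List.mem_map, List.mem_filter, Finset.mem_univ,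
    true_and, List.mem_finRange]
  simp only [hmask, qMask_spec]

end Cfsg.Agent.H49.Tetrad
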