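import Cfsg.Agent.H45.CosetCheck
import Cfsg.Agent.H49.Tetrad.Eighteen
import Cfsg.Agent.H49.Tetrad.TableData

/-!
Kernel checks of the table of 378 cosets and its 126 blocks.
-/

set_option autoImplicit false
set_option maxRecDepth 100000
set_option synthInstance.maxSize 2000
set_option Elab.async false

namespace Cfsg.Agent.H49.Tetrad

open Cfsg.Agent.H45

/-- the word of a point -/
def tabW (u : Fin 45) : List ℕ := tabWords.getD u.1 []

/-- the point of a generator -/
def tabS (l : ℕ) : Fin 45 := tabGens.getD l 0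

/-- the relations -/
def relList : List (List ℕ) :=
  (List.range 7).map (fun g => [g, g]) ++
  (List.range 5).map (fun i => [i, 5, i, 5]) ++
  (List.range 5).flatMap (fun i => (List.finRange 45).map fun y =>
    [i] ++ tabW y ++ [i] ++ tabW (qT (tabS i) y)) ++
  [[5, 6, 5, 6, 5, 6]] ++
  tabLines.map (fun L => L.flatMap tabW ++ [5]) ++
  (List.finRange 45).map (fun y =>
    if qX0.testBit y.1 then tabW y ++ [6] ++ tabW y ++ [6]
    else tabW y ++ [6] ++ tabW y ++ [6] ++ tabW y ++ [6])

theorem tabRels_eq : tabRels = relList := by decide +kernel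

/-- the certificate data -/
def tDat : Dat := ⟨7, List.range 7, tabCols, tabRels, [[0], [1], [2], [3], [4], [5]]⟩

theorem close_ok : closeCheck tDat 378 tabTree tabBlks = true := by decide +kernel

theorem tabW_spec : ∀ u : Fin 45,
    (∃ l : Fin 5, tabW u = [l.1] ∧ tabS l.1 = u) ∨
      ∃ l : Fin 5, tabW u = [l.1] ++ tabW (qT (tabS l.1) u) ++ [l.1] := by
  decide +kernel

theorem tabLines_spec : ∀ L ∈ tabLines, L.length = 5 ∧ L.Nodup ∧
    ∀ i ∈ L, ∀ j ∈ L, i ≠ j → qA i j = true := by
  decide +kernel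

/-- the block of a coset -/
def bPi (i : ℕ) : ℕ := cget tabPi i

/-- the action on blocks -/
def bT (b l : ℕ) : ℕ := tget tabBCols b l

/-- a word on blocks, last letter first -/
def bAp : List ℕ → ℕ → ℕ
  | [], b => b
  | l :: w, b => bT (bAp w b) l

theorem bT_spec : ∀ b : Fin 126, ∀ l : Fin 7, bT b.1 l.1 < 126 ∧ bT (bT b.1 l.1) l.1 = b.1 := by
  decide +kernel

theorem cols_spec : ∀ i : Fin 378, ∀ l : Fin 7, tget tabCols i.1 l.1 < 378 ∧
    tget tabCols (tget tabCols i.1 l.1) l.1 = i.1 ∧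
    bPi (tget tabCols i.1 l.1) = bT (bPi i.1) l.1 := by
  decide +kernel

theorem bPi_lt : ∀ i : Fin 378, bPi i.1 < 126 := by decide +kernel

theorem bPi_zero : ∀ i : Fin 378, bPi i.1 = 0 ↔ i.1 = 0 ∨ i.1 = 376 ∨ i.1 = 377 := by decide +kernel

theorem orbit_big : ∀ i : Fin 378, i.1 = 0 ∨ i.1 = 376 ∨ i.1 = 377 ∨
    4 ≤ (((List.range 6).map (fun l => tget tabCols i.1 l) ++
      (List.range 6).flatMap fun l => (List.range 6).map fun m =>
        tget tabCols (tget tabCols i.1 l) m).eraseDups).length := by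
  decide +kernel

theorem y0_spec : bPi (tget tabCols (tget tabCols 0 6) 5) = tabY0 := by decide +kernel

theorem nb_spec : ∀ u : Fin 45, qX0.testBit u.1 = false →
    bAp (6 :: tabW u) tabY0 = tabNb.getD u.1 0 := by
  decide +kernel

/-- the path to a neighbour -/
def tabPath (k : Fin 45) : Fin 45 × List ℕ := tabPaths.getD k.1 (0, [])

theorem path_spec : ∀ k : Fin 45, qX0.testBit (tabPath k).1.1 = false ∧
    qWord ((tabPath k).2.map tabS) (tabPath k).1 = k ∧
    (∀ l ∈ (tabPath k).2, l < 5) ∧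
    bAp (tabPath k).2 (tabNb.getD (tabPath k).1.1 0) = tabNb.getD k.1 0 := by
  decide +kernel

theorem nb_lt : ∀ u : Fin 45, tabNb.getD u.1 0 < 126 := by decide +kernel

end Cfsg.Agent.H49.Tetrad
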