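import Cfsg.Agent.H95.PermIso
import Cfsg.Agent.H49.Tetrad.ChainData
import Cfsg.Agent.H49.Tetrad.TableCheck

/-!
Kernel checks: the chain of the group of products of two of the seven maps, the map of a point is
outside, the stabiliser data and the few table facts used for the upper bound.
-/

set_option autoImplicit false
set_option maxRecDepth 100000
set_option Elab.async false

namespace Cfsg.Agent.H49.Tetrad

open Cfsg.Agent.Compute Cfsg.Agent.H95

/-- a column as a code -/
noncomputable def bCode (l : ℕ) : ℕ := packP 7 (fun i => bT i l) 126

/-- the code of an entry of the program -/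
noncomputable def gCode (k : ℕ) : ℕ := (nth ((0, 0), 0, 0) gamSlp k).1.1

theorem gam_chain_ok : checkChain (permOps 7 126) gamChain = true := by decide +kernel

theorem gam_order : order gamChain = 3265920 := by decide +kernel

theorem gam_slp_ok : PermIso.slpOK 7 126 6 (nextGens gamChain) gamSlp = true := by decide +kernel

theorem gam_gens : allN 6 (fun k => Nat.beq (gCode k) (mulPerm 7 126 (bCode k) (bCode 6)) &&
    sift (permOps 7 126) gamChain (gCode k)) = true := by decide +kernel

theorem gam_out : sift (permOps 7 126) gamChain (bCode 5) = false := by decide +kernel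

theorem fixed_base : ∀ b : Fin 126, (∀ i : Fin 5, bT (bT b.1 5) i.1 = b.1) → b.1 = 0 := by
  decide +kernel

theorem bfs_down : ∀ b : Fin 126, b.1 = 0 ∨ ∃ l : Fin 7, bT b.1 l.1 < b.1 := by decide +kernel

/-- blocks with the pattern of the far point -/
def yPattern : List (Fin 126) := (List.finRange 126).filter fun b =>
  (List.finRange 45).all fun u =>
    ((bAp (tabW u) b.1 == b.1) && !(b.1 == tabNb.getD u.1 0)) == qX0.testBit u.1

theorem yPattern_two : yPattern.length ≤ 2 := by decide +kernel

end Cfsg.Agent.H49.Tetrad
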