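import Cfsg.Agent.H49.Tetrad.Ident
import Cfsg.Agent.H49.Tetrad.ChainChk

/-!
The automorphisms of a space of tetrads are at most 13063680.
-/

set_option autoImplicit false
set_option maxRecDepth 8000

namespace Cfsg.Agent.H49.Tetrad

open Cfsg.Agent.H45

/-- same relation to a point -/
def qSame (a a' x x' : Fin 45) : Bool := qA a x == qA a' x' && (x != a)

/-- the candidates for the images of the last three base points -/
def qTriples : List (Fin 45 × Fin 45 × Fin 45) :=
  (((List.finRange 45).filter fun x => qSame 0 0 x 34 && qSame qFar qFar x 34).flatMap fun x =>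
    (((List.finRange 45).filter fun y => qSame 0 0 y 25 && qSame qFar qFar y 25 && qSame x 34 y 25).flatMap
      fun y => (((List.finRange 45).filter fun w =>
        qSame 0 0 w 37 && qSame qFar qFar w 37 && qSame x 34 w 37 && qSame y 25 w 37).map
          fun w => (x, y, w))))

theorem qTriples_len : qTriples.length ≤ 36 := by decide +kernel

theorem qFarPairs : (Finset.univ.filter fun p : Fin 45 × Fin 45 =>
    p.1 ≠ p.2 ∧ qA p.1 p.2 = false).card = 1440 := by decide +kernel

theorem qBase_ne : ∀ i ∈ qBase, ∀ j ∈ qBase, i ≠ j → (i == j) = false := by decide +kernel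

attribute [local irreducible] qWord qA qT qToZero qToPair qFar

/-- symmetries of the forty five points -/
def qSym : Set (Equiv.Perm (Fin 45)) :=
  {σ | (∀ i j, qA (σ i) (σ j) = qA i j) ∧ ∀ i j, σ (qT i j) = qT (σ i) (σ j)}

/-- the normalised images of the five base points -/
def qCode (σ : Equiv.Perm (Fin 45)) : (Fin 45 × Fin 45) × Fin 45 × Fin 45 × Fin 45 :=
  let l1 := qToZero.getD (σ 0).1 []
  let w := qToPair.getD (qWord l1 (σ qFar)).1 [] ++ l1
  ((σ 0, σ qFar), qWord w (σ 34), qWord w (σ 25), qWord w (σ 37))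

theorem qSym_card : qSym.ncard ≤ 51840 := by
  classical
  let T : Finset ((Fin 45 × Fin 45) × Fin 45 × Fin 45 × Fin 45) :=
    (Finset.univ.filter fun p : Fin 45 × Fin 45 => p.1 ≠ p.2 ∧ qA p.1 p.2 = false) ×ˢ qTriples.toFinset
  have hT : T.card ≤ 51840 := by
    rw [Finset.card_product, qFarPairs]
    have := (List.toFinset_card_le qTriples).trans qTriples_len
    omega
  refine le_trans (Set.ncard_le_ncard_of_injOn qCode (t := (T : Set _)) ?_ ?_) (by
    rw [Set.ncard_coe_finset]; exact hT)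
  · intro σ hσ
    set l1 := qToZero.getD (σ 0).1 [] with hl1
    set l2 := qToPair.getD (qWord l1 (σ qFar)).1 [] with hl2
    have far : σ 0 ≠ σ qFar ∧ qA (σ 0) (σ qFar) = false :=
      ⟨fun h => qFar_spec.1 (σ.injective h).symm, by rw [hσ.1]; exact qFar_spec.2⟩
    have z0 : qWord l1 (σ 0) = 0 := qToZero_spec _
    obtain ⟨a0, a1⟩ := qToPair_spec (qWord l1 (σ qFar))
      (fun h => far.1 (qWord_inj l1 (z0.trans h.symm)))
      (by rw [← z0, qWord_aut]; exact far.2)
    let τ : Fin 45 → Fin 45 := fun i => qWord (l2 ++ l1) (σ i)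
    have τinj : Function.Injective τ := (qWord_inj _).comp σ.injective
    have τA : ∀ i j, qA (τ i) (τ j) = qA i j := fun i j => by
      show qA (qWord _ _) (qWord _ _) = _
      rw [qWord_aut, hσ.1]
    have t0 : τ 0 = 0 := by
      show qWord _ _ = _
      rw [qWord_append, z0]
      exact a0
    have t1 : τ qFar = qFar := by
      show qWord _ _ = _
      rw [qWord_append]
      exact a1
    have same : ∀ {a x : Fin 45}, (a == x) = false → qSame (τ a) a (τ x) x = true := by
      intro a x h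
      simp only [qSame, τA, beq_self_eq_true, Bool.true_and, bne_iff_ne, ne_eq]
      exact fun q => by simp [τinj q] at h
    have mk : ∀ a ∈ qBase, ∀ x ∈ qBase, a ≠ x → qSame (τ a) a (τ x) x = true := fun a ha x hx h =>
      same (qBase_ne a ha x hx h)
    have m0 := fun x hx h => t0 ▸ mk 0 (by decide +kernel) x hx h
    have m1 := fun x hx h => t1 ▸ mk qFar (by decide +kernel) x hx h
    simp only [T, Finset.coe_product, Set.mem_prod, Finset.mem_coe, Finset.mem_filter, Finset.mem_univ,
      true_and, List.mem_toFinset, qCode]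
    refine ⟨far, ?_⟩
    show (τ 34, τ 25, τ 37) ∈ qTriples
    simp only [qTriples, List.mem_flatMap, List.mem_map, List.mem_filter, List.mem_finRange, true_and,
      Bool.and_eq_true]
    refine ⟨τ 34, ⟨m0 34 (by decide +kernel) (by decide +kernel), m1 34 (by decide +kernel) (by decide +kernel)⟩, τ 25,
      ⟨⟨m0 25 (by decide +kernel) (by decide +kernel), m1 25 (by decide +kernel) (by decide +kernel)⟩,
        mk 34 (by decide +kernel) 25 (by decide +kernel) (by decide +kernel)⟩,
      τ 37, ⟨⟨⟨m0 37 (by decide +kernel) (by decide +kernel), m1 37 (by decide +kernel) (by decide +kernel)⟩,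
        mk 34 (by decide +kernel) 37 (by decide +kernel) (by decide +kernel)⟩,
        mk 25 (by decide +kernel) 37 (by decide +kernel) (by decide +kernel)⟩, rfl⟩
  · intro σ hσ σ' hσ' h
    simp only [qCode, Prod.mk.injEq] at h
    obtain ⟨⟨h0, h1⟩, h2, h3, h4⟩ := h
    rw [h0, h1] at h2 h3 h4
    refine Equiv.ext (generate_base (P := fun i => σ i = σ' i) (fun a b ha hb => ?_) ?_)
    · rw [hσ.2, hσ'.2, ha, hb]
    · intro p hp
      simp only [qBase, List.mem_cons, List.not_mem_nil, or_false] at hp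
      rcases hp with rfl | rfl | rfl | rfl | rfl
      exacts [h0, h1, qWord_inj _ h2, qWord_inj _ h3, qWord_inj _ h4]

namespace TSpace

variable {S : Type*} (M : TSpace S)

/-- automorphisms of a space -/
def autGrp : Subgroup (Equiv.Perm S) where
  carrier := {g | (∀ a b, M.adj (g a) (g b) ↔ M.adj a b) ∧ ∀ x, M.r (g x) = g * M.r x * g⁻¹}
  one_mem' := ⟨fun _ _ => Iff.rfl, fun x => by simp⟩
  mul_mem' := by
    rintro g k ⟨ha, hr⟩ ⟨ka, kr⟩
    refine ⟨fun a b => (ha _ _).trans (ka a b), fun x => ?_⟩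
    rw [Equiv.Perm.mul_apply, hr, kr]; group
  inv_mem' := by
    rintro g ⟨ha, hr⟩
    refine ⟨fun a b => ?_, fun x => ?_⟩
    · rw [← ha]; simp
    · have := hr (g⁻¹ x)
      rw [show g (g⁻¹ x) = x by simp] at this
      rw [this]; group

theorem mem_autGrp {g : Equiv.Perm S} :
    g ∈ M.autGrp ↔ (∀ a b, M.adj (g a) (g b) ↔ M.adj a b) ∧ ∀ x, M.r (g x) = g * M.r x * g⁻¹ :=
  Iff.rfl

theorem autGrp_third {g : Equiv.Perm S} (hg : g ∈ M.autGrp) (x y : S) :
    g (M.r x y) = M.r (g x) (g y) := by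
  rw [(M.mem_autGrp.mp hg).2 x]; simp

/-- a word of columns on blocks -/
theorem table_word {φ : Fin 126 ≃ S} {v y : S} {e : Fin 45 → S}
    (hφ : ∀ (l : Fin 7) b, φ (bPerm l b) = M.gen v y e l.1 (φ b)) :
    ∀ (p : List ℕ), (∀ l ∈ p, l < 7) → ∀ b : Fin 126,
      ∃ c : Fin 126, c.1 = bAp p b.1 ∧ φ c = evalW (M.gen v y e) p (φ b) := by
  intro p
  induction p with
  | nil => exact fun _ b => ⟨b, rfl, rfl⟩
  | cons l p ih =>
    intro hp b
    obtain ⟨c, hc, hφc⟩ := ih (fun x hx => hp x (List.mem_cons_of_mem _ hx)) b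
    refine ⟨bPerm ⟨l, hp l List.mem_cons_self⟩ c, ?_, ?_⟩
    · show bT c.1 l = bT (bAp p b.1) l
      rw [hc]
    · rw [hφ, hφc, evalW_cons, Equiv.Perm.mul_apply]

/-- adjacency of a neighbour to a block, read in the table -/
theorem table_adj {φ : Fin 126 ≃ S} {v y : S} {e : Fin 45 → S} (he : Loc M.adj M.r v e)
    (hnb : ∀ k, φ (nbB k) = e k) (hφ : ∀ (l : Fin 7) b, φ (bPerm l b) = M.gen v y e l.1 (φ b))
    (u : Fin 45) (b : Fin 126) :
    M.adj (e u) (φ b) ↔ bAp (tabW u) b.1 = b.1 ∧ b.1 ≠ tabNb.getD u.1 0 := by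
  obtain ⟨c, hc, hcφ⟩ := M.table_word hφ (tabW u) (by
    have : ∀ u : Fin 45, ∀ l ∈ tabW u, l < 7 := by decide +kernel
    exact this u) b
  rw [M.eval_word he] at hcφ
  have hne : (b.1 ≠ tabNb.getD u.1 0) ↔ φ b ≠ e u := by
    rw [← hnb u, Ne, Ne, φ.injective.eq_iff]
    exact not_congr ⟨fun h => Fin.ext h, fun h => congrArg Fin.val h⟩
  rw [hne, ← hc, ← Fin.ext_iff, ← φ.injective.eq_iff, hcφ, M.fix]
  constructor
  · exact fun h => ⟨Or.inr h, fun q => M.ne _ _ h q.symm⟩
  · rintro ⟨h | h, q⟩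
    · exact absurd h q
    · exact h

/-- an automorphism fixing a far pair and the neighbours of one of them is trivial -/
theorem eq_one_of_fix {φ : Fin 126 ≃ S} {v y : S} {e : Fin 45 → S} (h0 : φ 0 = v)
    (hφ : ∀ (l : Fin 7) b, φ (bPerm l b) = M.gen v y e l.1 (φ b)) {g : Equiv.Perm S}
    (hg : g ∈ M.autGrp) (gv : g v = v) (gy : g y = y) (ge : ∀ i, g (e i) = e i) : g = 1 := by
  have hr := (M.mem_autGrp.mp hg).2
  have com : ∀ (l : ℕ) (x : S), g (M.gen v y e l x) = M.gen v y e l (g x) := by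
    intro l x
    unfold gen
    split_ifs
    · rw [M.autGrp_third hg, ge]
    · rw [M.autGrp_third hg, gv]
    · rw [M.autGrp_third hg, gy]
    · rfl
  have key : ∀ (n : ℕ) (hn : n < 126), g (φ ⟨n, hn⟩) = φ ⟨n, hn⟩ := by
    intro n
    induction n using Nat.strong_induction_on with
    | _ n ih =>
      intro hn
      rcases bfs_down ⟨n, hn⟩ with h | ⟨l, hl⟩
      · rw [show (⟨n, hn⟩ : Fin 126) = 0 from Fin.ext h, h0, gv]
      · have hb : bPerm l ⟨bT n l.1, (bT_spec ⟨n, hn⟩ l).1⟩ = ⟨n, hn⟩ :=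
          Fin.ext (bT_spec ⟨n, hn⟩ l).2
        rw [← hb, hφ, com, ih _ hl]
  refine Equiv.ext fun x => ?_
  obtain ⟨b, rfl⟩ := φ.surjective x
  exact key b.1 b.2

variable [Finite S]

include M in
theorem exists_far (v : S) : ∃ y, v ≠ y ∧ ¬ M.adj v y := by
  by_contra h
  simp only [not_exists, not_and, not_not] at h
  obtain ⟨e, he⟩ := M.loc v
  let f : Option (Fin 45) → S := fun o => o.elim v e
  have hf : Function.Surjective f := fun x => by
    by_cases q : v = x
    · exact ⟨none, q⟩
    · obtain ⟨i, hi⟩ := he.cover x (h x q)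
      exact ⟨some i, hi⟩
  have := Nat.card_le_card_of_surjective f hf
  rw [M.card_eq v, Nat.card_eq_fintype_card, Fintype.card_option, Fintype.card_fin] at this
  omega

include M in
/-- the upper bound -/
theorem card_autGrp_le (v : S) : Nat.card M.autGrp ≤ 13063680 := by
  classical
  obtain ⟨y, hne, hv⟩ := M.exists_far v
  obtain ⟨e, he, hX⟩ := M.exists_coords hne hv
  obtain ⟨φ, φ0, -, φnb, hφ⟩ := M.exists_model he hne hv hX
  -- the stabiliser of a point
  let St := MulAction.stabilizer M.autGrp v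
  have h1 : Nat.card M.autGrp ≤ 126 * Nat.card St := by
    have h : St.index ≤ 126 := by
      rw [MulAction.index_stabilizer, ← M.card_eq v, ← Set.ncard_univ]
      exact Set.ncard_le_ncard (Set.subset_univ _)
    rw [← St.card_mul_index, mul_comm (Nat.card St)]
    exact Nat.mul_le_mul_right _ h
  -- restriction to the neighbours
  have gv : ∀ g : St, g.1.1 v = v := fun g => MulAction.mem_stabilizer_iff.mp g.2
  have res : ∀ (g : St) (i : Fin 45), ∃ j, e j = g.1.1 (e i) := fun g i =>
    he.cover _ (by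
      have := ((M.mem_autGrp.mp g.1.2).1 v (e i)).mpr (he.mem i)
      rwa [gv] at this)
  choose σ hσ using res
  have σinj : ∀ g, Function.Injective (σ g) := fun g i j h => he.inj (g.1.1.injective (by
    rw [← hσ g i, ← hσ g j, h]))
  let ρ : St →* Equiv.Perm (Fin 45) :=
    MonoidHom.mk' (fun g => Equiv.ofBijective (σ g) (Finite.injective_iff_bijective.mp (σinj g)))
      (fun g k => Equiv.ext fun i => he.inj (by
        show e (σ (g * k) i) = e (σ g (σ k i))
        rw [hσ, hσ, hσ]
        rfl))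
  have hρ : ∀ g i, e (ρ g i) = g.1.1 (e i) := fun g i => hσ g i
  have hrange : Nat.card ρ.range ≤ 51840 := by
    refine le_trans ?_ qSym_card
    rw [← Nat.card_coe_set_eq]
    refine Nat.card_le_card_of_injective (fun x => ⟨x.1, ?_⟩) (fun a b h => Subtype.ext (congrArg Subtype.val h :))
    obtain ⟨g, hg⟩ := x.2
    rw [← hg]
    refine ⟨fun i j => ?_, fun i j => he.inj ?_⟩
    · rw [Bool.eq_iff_iff, ← he.iff, ← he.iff, hρ, hρ]
      exact (M.mem_autGrp.mp g.1.2).1 _ _
    · rw [hρ, ← M.third he, M.autGrp_third g.1.2, ← M.third he, hρ, hρ]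
  have hker : Nat.card ρ.ker ≤ 2 := by
    have ge : ∀ g : ρ.ker, ∀ i, g.1.1.1 (e i) = e i := fun g i => by
      rw [← hρ, MonoidHom.mem_ker.mp g.2]; rfl
    let f : ρ.ker → {b : Fin 126 // b ∈ yPattern.toFinset} := fun g => ⟨φ.symm (g.1.1.1 y), by
      simp only [List.mem_toFinset, yPattern, List.mem_filter, List.mem_finRange, true_and, List.all_eq_true]
      intro u
      have key : M.adj (e u) (φ (φ.symm (g.1.1.1 y))) ↔ u ∈ qX0Set := by
        rw [φ.apply_symm_apply, ← hX u]
        conv_lhs => rw [← ge g u]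
        exact (M.mem_autGrp.mp g.1.1.2).1 _ _
      rw [M.table_adj he φnb hφ, qX0Set, Finset.mem_filter] at key
      simp only [Finset.mem_univ, true_and] at key
      rw [beq_iff_eq, Bool.eq_iff_iff, ← key]
      simp⟩
    have finj : Function.Injective f := by
      intro g k h
      have hy : g.1.1.1 y = k.1.1.1 y := φ.symm.injective (congrArg Subtype.val h :)
      have hm : (k.1.1⁻¹ * g.1.1).1 ∈ M.autGrp := (k.1.1⁻¹ * g.1.1).2
      have h1 := M.eq_one_of_fix φ0 hφ hm ?_ ?_ ?_
      · have : k.1.1⁻¹ * g.1.1 = 1 := Subtype.ext h1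
        exact Subtype.ext (Subtype.ext (inv_mul_eq_one.mp this).symm)
      · simp only [Subgroup.coe_mul, Subgroup.coe_inv, Equiv.Perm.mul_apply]
        rw [gv, Equiv.Perm.inv_eq_iff_eq, gv]
      · simp only [Subgroup.coe_mul, Subgroup.coe_inv, Equiv.Perm.mul_apply]
        rw [hy, Equiv.Perm.inv_eq_iff_eq]
      · intro i
        simp only [Subgroup.coe_mul, Subgroup.coe_inv, Equiv.Perm.mul_apply]
        rw [ge, Equiv.Perm.inv_eq_iff_eq, ge]
    refine le_trans (Nat.card_le_card_of_injective f finj) ?_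
    rw [Nat.card_eq_fintype_card, Fintype.card_coe]
    exact (List.toFinset_card_le _).trans yPattern_two
  have h2 : Nat.card St ≤ 2 * 51840 := by
    rw [← ρ.ker.card_mul_index, Subgroup.index_ker]
    exact Nat.mul_le_mul hker hrange
  omega

end TSpace

end Cfsg.Agent.H49.Tetrad
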