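import Cfsg.Agent.H49.Tetrad.ChainData
import Cfsg.Agent.H49.Tetrad.PointsData
import Cfsg.Agent.H95.UFourThreeCheck
import Cfsg.Agent.Compute.PermRep

/-!
Kernel checks for the action on the 112 sets.
-/

set_option autoImplicit false
set_option maxRecDepth 100000
set_option Elab.async false

namespace Cfsg.Agent.H49.Tetrad

open Cfsg.Agent.Compute Cfsg.Agent.H95

/-- a permutation of the five -/
noncomputable def tCode (g : ℕ) : ℕ := (nth (0, 0) ptGens g).1

/-- a set as a mask -/
noncomputable def tSet (i : ℕ) : ℕ := nth 0 ptSets i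

theorem pts_ok : allN 5 (fun g => invPerm 7 126 (tCode g) (nth (0, 0) ptGens g).2 &&
    sift (permOps 7 126) gamChain (tCode g)) = true := by decide +kernel

theorem pts_compat : allN 5 (fun g => allN 112 (fun i => allN 126 (fun x =>
    (Nat.testBit (tSet i) x == Nat.testBit (tSet (getP 7 (UFourThree.pCode g) i)) (getP 7 (tCode g) x))))) =
    true := by decide +kernel

theorem pts_lt : ∀ i : Fin 112, tSet i.1 < 2 ^ 126 := by decide +kernel

theorem pts_inj : ∀ i j : Fin 112, tSet i.1 = tSet j.1 → i = j := by decide +kernel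

end Cfsg.Agent.H49.Tetrad
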