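import Cfsg.Agent.H49.Tetrad.ChainCheck
import Cfsg.Agent.H49.Tetrad.PointsChk
import Cfsg.Agent.H95.UFourThree

/-!
The group of products of two third-point maps on the 126 tetrads is the four dimensional unitary group
over the field of nine elements, through its action on 112 sets of forty five tetrads.
-/

set_option autoImplicit false
set_option maxRecDepth 8000

namespace Cfsg.Agent.H49.Tetrad

open Cfsg.Agent.Compute Cfsg.Agent.H95

attribute [local irreducible] checkChain PermIso.slpOK sift tCode tSet packP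

/-- moving the sets as prescribed -/
def moves (g : ↥gam) (σ : Equiv.Perm (Fin 112)) : Prop :=
  ∀ (i : Fin 112) (x : Fin 126),
    (tSet i.1).testBit x.1 = (tSet (σ i).1).testBit (g.1 x).1

/-- the group is the unitary group -/
theorem gam_psu (F : Type) [Field F] [Fintype F] (hF : Fintype.card F = 9) :
    Nonempty (↥gam ≃* Cfsg.PSU 4 F 3) := by
  obtain ⟨e⟩ := UFourThree.psu_chain hF
  suffices h : Nonempty (↥gam ⧸ (⊥ : Subgroup ↥gam) ≃* UFourThree.chainGrp) by
    obtain ⟨f⟩ := h
    exact ⟨(QuotientGroup.quotientBot.symm.trans f).trans e.symm⟩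
  refine PermIso.quotient_iso (G := ↥gam) ⊥ moves (fun i x => rfl) (fun g k σ τ hg hk i x => ?_)
    (fun g σ τ hσ hτ => Equiv.ext fun i => ?_) UFourThree.chainGrp
    (PermIso.grp_le UFourThree.two_pow_seven UFourThree.slp_ok) ?_ ?_ ?_
  · rw [hk i x, hg (τ i) (k.1 x)]
    rfl
  · refine pts_inj _ _ (Nat.eq_of_testBit_eq fun n => ?_)
    rcases Nat.lt_or_ge n 126 with hn | hn
    · have h1 := hσ i (g.1⁻¹ ⟨n, hn⟩)
      have h2 := hτ i (g.1⁻¹ ⟨n, hn⟩)
      rw [show g.1 (g.1⁻¹ ⟨n, hn⟩) = ⟨n, hn⟩ by simp] at h1 h2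
      exact h1.symm.trans h2
    · rw [Nat.testBit_lt_two_pow ((pts_lt _).trans_le (Nat.pow_le_pow_right (by norm_num) hn)),
        Nat.testBit_lt_two_pow ((pts_lt _).trans_le (Nat.pow_le_pow_right (by norm_num) hn))]
  · rintro σ ⟨g, hg, rfl⟩
    have h := (allN_iff _ _).1 pts_ok g hg
    rw [Bool.and_eq_true] at h
    obtain ⟨o, -, -⟩ := (permSound 7 126 two_pow_126).okInv_sound h.1
    refine ⟨⟨permDen 7 126 (tCode g), ((checkChain_sound _ gam_chain_ok).sift_iff _ o).1 h.2⟩,
      fun i x => ?_⟩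
    have hc := (allN_iff _ _).1 ((allN_iff _ _).1 ((allN_iff _ _).1 pts_compat g hg) i i.2) x x.2
    rw [beq_iff_eq] at hc
    show (tSet i.1).testBit x.1 =
      (tSet (permDen 7 112 (UFourThree.pCode g) i).1).testBit (permDen 7 126 (tCode g) x).1
    rw [UFourThree.pCode_spec hg, permDen_apply o, hc]
  · intro k hk
    rw [Subgroup.mem_bot] at hk
    subst hk
    exact fun i x => rfl
  · rw [Subgroup.index_bot, card_gam, UFourThree.card_chainGrp]

end Cfsg.Agent.H49.Tetrad
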