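import Cfsg.Agent.H49.Tetrad.Kernel
import Cfsg.Agent.H49.Tetrad.Points
import Cfsg.Agent.H64.M24Triple.Bridge
import Cfsg.Agent.H61.M24.Derived
import Cfsg.Agent.H92.ExtraIso
import Mathlib.FieldTheory.Finite.GaloisField
import Cfsg.Agent.Components.Basic
import Cfsg.Agent.Components.Fitting

/-!
Groups of type M(24): the derived centraliser of a product of four commuting members is an extension
of an extraspecial group of order `2^13` by three, the unitary group and two.
-/

set_option autoImplicit false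

namespace Cfsg.Agent.H49.Tetrad

open Cfsg.Agent.H93 MulAction
open scoped commutatorElement Pointwise

/-- a self centralising normal two-subgroup containing all normal two-subgroups is the generalised
Fitting subgroup -/
theorem fstar_eq {C : Type*} [Group C] [Finite C] (Q : Subgroup C) [Q.Normal] (hQ : IsPGroup 2 Q)
    (hcen : Subgroup.centralizer (Q : Set C) ≤ Q)
    (hmax : ∀ N : Subgroup C, N.Normal → IsPGroup 2 N → N ≤ Q) :
    Cfsg.generalizedFittingSubgroup C = Q := by
  haveI : Fact (Nat.Prime 2) := ⟨Nat.prime_two⟩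
  have hQF : Q ≤ Cfsg.fittingSubgroup C :=
    (Components.le_pCore (p := 2) inferInstance hQ).trans (Components.pCore_le_fitting 2)
  have hfit : Cfsg.fittingSubgroup C ≤ Q := by
    rw [Components.fitting_eq_iSup_pCore]
    refine iSup_le fun p => ?_
    haveI : Fact (p : ℕ).Prime := ⟨Nat.prime_of_mem_primeFactors p.2⟩
    by_cases hp : (p : ℕ) = 2
    · refine hmax _ inferInstance ?_
      rw [hp]; exact Components.isPGroup_pCore 2
    · refine le_trans ?_ hcen
      intro x hx y hy
      exact (Subgroup.commute_of_normal_of_disjoint _ _ inferInstance inferInstance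
        (IsPGroup.disjoint_of_ne (p₁ := (p : ℕ)) (p₂ := 2) hp _ _ (Components.isPGroup_pCore (p : ℕ)) hQ) x y hx hy).eq.symm
  have hlay : Cfsg.layer C ≤ Q := by
    refine le_trans ?_ hcen
    intro x hx y hy
    exact (Components.commute_of_commutator_eq_bot Components.layer_commutator_fitting hx (hQF hy)).symm
  exact le_antisymm (sup_le hlay hfit) (hQF.trans le_sup_right)

/-- a normal two-subgroup of a group containing the even table group is trivial -/
theorem two_core_trivial (H : Subgroup (Equiv.Perm (Fin 126))) (hle : gam ≤ H)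
    (htr : ∀ b : Fin 126, ∃ g ∈ H, g 0 = b) (N : Subgroup (Equiv.Perm (Fin 126))) (hN : N ≤ H)
    (hnorm : ∀ g ∈ H, ∀ n ∈ N, g * n * g⁻¹ ∈ N) (hp : IsPGroup 2 N) : N = ⊥ := by
  haveI : Fact (Nat.Prime 2) := ⟨Nat.prime_two⟩
  haveI : IsPretransitive H (Fin 126) := ⟨fun x y => by
    obtain ⟨g, hg, rfl⟩ := htr x
    obtain ⟨k, hk, rfl⟩ := htr y
    exact ⟨⟨k * g⁻¹, mul_mem hk (inv_mem hg)⟩, by show k (g⁻¹ (g 0)) = k 0; simp⟩⟩
  haveI hNn : (N.subgroupOf H).Normal := ⟨fun n hn g => by
    rw [Subgroup.mem_subgroupOf] at hn ⊢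
    exact hnorm g.1 g.2 n.1 hn⟩
  have hblk : IsBlock H (orbit (N.subgroupOf H) (0 : Fin 126)) := IsBlock.orbit_of_normal 0
  set O := orbit (N.subgroupOf H) (0 : Fin 126) with hO
  have hdvd := hblk.ncard_dvd_card ⟨0, mem_orbit_self 0⟩
  rw [Nat.card_fin] at hdvd
  obtain ⟨k, hk⟩ := (hp.of_equiv (Subgroup.subgroupOfEquivOfLe hN).symm).card_orbit (0 : Fin 126)
  have hcard : O.ncard ≤ 2 := by
    rw [← Nat.card_coe_set_eq, hk]
    rw [← Nat.card_coe_set_eq, hk] at hdvd
    rcases k with - | _ | k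
    · norm_num
    · norm_num
    · exfalso
      have h4 : 4 ∣ 2 ^ (k + 2) := ⟨2 ^ k, by ring⟩
      have := h4.trans hdvd
      norm_num at this
  have hfix : ∀ b ∈ O, b = 0 := by
    intro b hb
    by_contra hne
    refine hne (Fin.ext (fixed_base b fun i => ?_))
    -- a generator of the stabiliser preserves the orbit
    set s := bPerm i.castSucc.castSucc * bPerm 5 with hs
    have hsH : s ∈ H := hle (bPerm_pair_mem i.castSucc 5)
    have hs0 : s 0 = 0 := by
      rw [hs, Equiv.Perm.mul_apply]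
      have h0 : ∀ l : Fin 6, bPerm l.castSucc 0 = 0 := fun l => Fin.ext (by
        have : ∀ l : Fin 6, bT 0 l.1 = 0 := by decide +kernel
        exact this l)
      rw [show bPerm 5 0 = 0 from h0 5, h0 i.castSucc]
    have hmem : s b ∈ O := by
      obtain ⟨n, rfl⟩ := hb
      refine ⟨⟨⟨s * n.1.1 * s⁻¹, mul_mem (mul_mem hsH n.1.2) (inv_mem hsH)⟩, ?_⟩, ?_⟩
      · rw [Subgroup.mem_subgroupOf]
        exact hnorm s hsH n.1.1 (Subgroup.mem_subgroupOf.mp n.2)
      · show s (n.1.1 (s⁻¹ 0)) = s (n.1.1 0)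
        rw [show s⁻¹ 0 = 0 from Equiv.Perm.inv_eq_iff_eq.mpr hs0.symm]
    have hne0 : s b ≠ 0 := fun e => hne (s.injective (e.trans hs0.symm))
    have hb' : s b = b := by
      by_contra hsb
      have h3 : ({0, b, s b} : Set (Fin 126)) ⊆ O := by
        rintro x (rfl | rfl | rfl)
        exacts [mem_orbit_self 0, hb, hmem]
      have := (Set.ncard_le_ncard h3).trans hcard
      rw [Set.ncard_eq_three.mpr ⟨0, b, s b, Ne.symm hne, hne0.symm, Ne.symm hsb, rfl⟩] at this
      omega
    rw [hs, Equiv.Perm.mul_apply] at hb'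
    exact congrArg Fin.val hb'
  refine (Subgroup.eq_bot_iff_forall _).mpr fun n hn => Equiv.ext fun b => ?_
  obtain ⟨g, hg, rfl⟩ := htr b
  have hc : g⁻¹ * n * g ∈ N := by
    simpa using hnorm g⁻¹ (inv_mem hg) n hn
  have h0 : (g⁻¹ * n * g) 0 = 0 :=
    hfix _ ⟨⟨⟨g⁻¹ * n * g, hN hc⟩, Subgroup.mem_subgroupOf.mpr hc⟩, rfl⟩
  rw [Equiv.Perm.mul_apply, Equiv.Perm.mul_apply, Equiv.Perm.inv_eq_iff_eq] at h0
  exact h0

variable {G : Type*} [Group G] [Finite G] {D : Set G} {z : G}

/-- commuting with the pairs of a tetrad fixes its members -/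
theorem commute_of_pairs (h : H61.M24.Geo24 D) {k : ↥(Subgroup.centralizer ({z} : Set G))}
    (hc : ∀ p ∈ pairC D z, Commute k p) (U : Tet D z) : ∀ x ∈ U.1, Commute (k : G) x := by
  intro x hx
  obtain ⟨u, hu, rfl⟩ := exists_enum U hx
  have htt := h.data.core.tt
  have key : ∀ j : Fin 4, j ≠ 0 →
      (k : G) * u 0 * (k : G)⁻¹ = u 0 ∨ (k : G) * u 0 * (k : G)⁻¹ = u j := by
    intro j hj
    have hkp : Commute (k : G) (u 0 * u j) :=
      congrArg Subtype.val (hc _ ⟨U, u 0, u j, hu.mem 0, hu.mem j, rfl⟩).eq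
    have e : ((k : G) * u 0 * (k : G)⁻¹) * ((k : G) * u j * (k : G)⁻¹) = u 0 * u j := by
      calc _ = (k : G) * (u 0 * u j) * (k : G)⁻¹ := by group
        _ = _ := mul_inv_eq_iff_eq_mul.mpr hkp.eq
    have hm : ∀ a ∈ [u 0, u j], a ∈ U.1 := by
      intro a ha
      simp only [List.mem_cons, List.not_mem_nil, or_false] at ha
      rcases ha with rfl | rfl <;> exact hu.mem _
    let cj := (MulAut.conj (k : G)).toMonoidHom
    have hnd : [u 0, u j].Nodup := by simpa using hu.inj.ne hj.symm
    have := (unique_factor htt (h.data.ind.mono (by norm_num)) 2 (by norm_num) (u 0 * u j)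
      ([u 0, u j].map cj) [u 0, u j]
      ⟨hnd.map (MulAut.conj (k : G)).injective, by simp, fun a ha => by
          obtain ⟨r, hr, rfl⟩ := List.mem_map.mp ha
          exact htt.conj_mem (k : G) r (U.2.mem (hm r hr)), fun a ha b hb => by
          obtain ⟨r, hr, rfl⟩ := List.mem_map.mp ha
          obtain ⟨r', hr', rfl⟩ := List.mem_map.mp hb
          exact (U.2.com (hm r hr) (hm r' hr')).map cj, by simpa [cj] using e⟩
      ⟨hnd, rfl, fun a ha => U.2.mem (hm a ha), fun a ha b hb => U.2.com (hm a ha) (hm b hb), by simp⟩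
      (cj (u 0))).mp (List.mem_map_of_mem (by simp))
    simpa [cj] using this
  rcases key 1 (by decide) with e | e
  · exact mul_inv_eq_iff_eq_mul.mp e
  rcases key 2 (by decide) with e' | e'
  · exact mul_inv_eq_iff_eq_mul.mp e'
  · exact absurd (hu.inj (e.symm.trans e')) (by decide)

/-- the centraliser in the derived group -/
theorem centralizer_facts (h : H61.M24.Geo24 D) {a b c d : G} (q : Quad D z a b c d)
    (hidx : (commutator G).index = 2) (hpar : ∀ x ∈ D, x ∉ commutator G) (C : Subgroup G)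
    (hC : C = commutator G ⊓ Subgroup.centralizer ({z} : Set G)) :
    ∃ (Q : Subgroup ↥C) (_ : Q.Normal), Cfsg.generalizedFittingSubgroup ↥C = Q ∧
      Cfsg.IsExtraspecial 2 ↥Q ∧ Nat.card Q = 2 ^ 13 ∧
      ∃ (N M : Subgroup ↥C) (_ : N.Normal) (_ : M.Normal), Q ≤ N ∧ N ≤ M ∧
        Nat.card N = 3 * Nat.card Q ∧
        (∃ (K : Type) (_ : Field K) (_ : Fintype K), Fintype.card K = 9 ∧
          Nonempty (↥M ⧸ N.subgroupOf M ≃* Cfsg.PSU 4 K 3)) ∧ M.index = 2 := by
  classical
  obtain ⟨φ, fr⟩ := exists_frame h q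
  set Cz := Subgroup.centralizer ({z} : Set G) with hCz
  set ψ := tab h φ with hψ
  have hCle : C ≤ Cz := hC ▸ inf_le_right
  have hmemC : ∀ g : G, g ∈ C ↔ g ∈ commutator G ∧ g ∈ Cz := fun g => by rw [hC, Subgroup.mem_inf]
  let ι : ↥C →* ↥Cz := Subgroup.inclusion hCle
  have ιinj : Function.Injective ι := Subgroup.inclusion_injective hCle
  let χ : ↥C →* Equiv.Perm (Fin 126) := ψ.comp ι
  -- the columns
  choose m hmD hm4 hmψ using fun l => fr.exists_col l
  have hfix0 : ψ (m 5) 0 = 0 := by
    rw [hmψ]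
    exact Fin.ext (show bT 0 5 = 0 by decide +kernel)
  have hm5 : ((m 5 : Cz) : G) ∉ commutator G := hpar _ (hmD 5)
  have hin : ∀ g : Cz, (g : G) ∈ commutator G ∨ ((g * m 5 : Cz) : G) ∈ commutator G := fun g => by
    by_cases hg : (g : G) ∈ commutator G
    · exact Or.inl hg
    · exact Or.inr ((Subgroup.mul_mem_iff_of_index_two hidx).mpr
        ⟨fun k => absurd k hg, fun k => absurd k hm5⟩)
  -- the orders
  obtain ⟨hcz, hrange, hker, -⟩ := orders h q fr
  have hcardC : Nat.card C = 160526499840 := by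
    have hidx2 : (C.subgroupOf Cz).index = 2 := by
      rw [Subgroup.index_eq_two_iff]
      refine ⟨m 5, fun g => ?_⟩
      simp only [Subgroup.mem_subgroupOf, hmemC, SetLike.coe_mem, and_true]
      rcases hin g with hg | hg
      · refine Or.inr ⟨hg, fun k => hm5 ?_⟩
        have := mul_mem (inv_mem hg) k
        simpa using this
      · exact Or.inl ⟨hg, fun k => hm5 (by simpa using mul_mem (inv_mem k) hg)⟩
    have e := (C.subgroupOf Cz).card_mul_index
    rw [hidx2, hcz, Nat.card_congr (Subgroup.subgroupOfEquivOfLe hCle).toEquiv] at e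
    omega
  -- the extraspecial subgroup and the kernel
  obtain ⟨hqc, hkc⟩ := card_qt h q fr
  have hKL := ker_le_derived h q fr hidx
  haveI := qt_normal h (z := z)
  set Q : Subgroup ↥C := (qt h).comap ι with hQdef
  haveI hQn : Q.Normal := Subgroup.Normal.comap inferInstance ι
  have toC : ∀ {k : Cz}, (k : G) ∈ commutator G → ∃ c : C, ι c = k := fun {k} hk =>
    ⟨⟨k, (hmemC _).mpr ⟨hk, k.2⟩⟩, rfl⟩
  have hqrange : qt h ≤ ι.range := fun k hk => toC (hKL k hk.1)
  have eQ : Nat.card Q = 8192 := by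
    rw [← Subgroup.card_map_of_injective ιinj, hQdef, Subgroup.map_comap_eq, inf_eq_right.mpr hqrange,
      hqc]
  have eQiso : ↥Q ≃* ↥(qt h (z := z)) := by
    have e1 : Q.map ι = qt h := by
      rw [hQdef, Subgroup.map_comap_eq, inf_eq_right.mpr hqrange]
    exact (Q.equivMapOfInjective ι ιinj).trans (MulEquiv.subgroupCongr e1)
  set N : Subgroup ↥C := χ.ker with hNdef
  have hNeq : N = ((act h.data.core.tt (D := D) (z := z)).ker).comap ι := by
    rw [hNdef, ← Frame.tab_ker φ, MonoidHom.comap_ker]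
  have hkrange : (act h.data.core.tt (D := D) (z := z)).ker ≤ ι.range := fun k hk => toC (hKL k hk)
  have eN : Nat.card N = 24576 := by
    rw [← Subgroup.card_map_of_injective ιinj, hNeq, Subgroup.map_comap_eq, inf_eq_right.mpr hkrange,
      hkc]
  have hQN : Q ≤ N := fun c hc => by rw [hNeq]; exact hc.1
  -- the image
  have himg : Nat.card χ.range = 6531840 := by
    have e := χ.ker.card_mul_index
    rw [Subgroup.index_ker, ← hNdef, eN, hcardC] at e
    omega
  have hgam : gam ≤ χ.range := by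
    rw [gam_eq, Subgroup.closure_le]
    rintro _ ⟨l, rfl⟩
    obtain ⟨cc, hcc⟩ := toC (k := m l.castSucc * m 6)
      ((hyp h).mul_mem_commutator (hmD 6) (hmD l.castSucc))
    exact ⟨cc, by show ψ (ι cc) = _; rw [hcc, map_mul, hmψ, hmψ]⟩
  have hrel : gam.relIndex χ.range = 2 := by
    have e := (gam.subgroupOf χ.range).card_mul_index
    rw [Nat.card_congr (Subgroup.subgroupOfEquivOfLe hgam).toEquiv, card_gam, himg] at e
    have : (gam.subgroupOf χ.range).index = gam.relIndex χ.range := rfl
    omega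
  set M : Subgroup ↥C := gam.comap χ with hMdef
  have hMidx : M.index = 2 := by rw [hMdef, Subgroup.index_comap, hrel]
  haveI hMn : M.Normal := Subgroup.normal_of_index_eq_two hMidx
  have hNM : N ≤ M := fun c hc => by
    rw [hMdef, Subgroup.mem_comap, MonoidHom.mem_ker.mp hc]; exact one_mem _
  -- the quotient
  let θ : ↥M →* ↥gam := (χ.comp M.subtype).codRestrict gam fun c => c.2
  have θsurj : Function.Surjective θ := fun g => by
    obtain ⟨cc, hcc⟩ := hgam g.2
    exact ⟨⟨cc, by rw [hMdef, Subgroup.mem_comap, hcc]; exact g.2⟩, Subtype.ext hcc⟩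
  have θker : θ.ker = N.subgroupOf M := by
    ext c
    rw [MonoidHom.mem_ker, Subgroup.mem_subgroupOf, hNdef, MonoidHom.mem_ker]
    exact ⟨fun e => congrArg Subtype.val e, fun e => Subtype.ext e⟩
  haveI : Fintype (GaloisField 3 2) := Fintype.ofFinite _
  have h9 : Fintype.card (GaloisField 3 2) = 9 := by
    rw [← Nat.card_eq_fintype_card, GaloisField.card 3 2 (by norm_num)]
    norm_num
  obtain ⟨eU⟩ := gam_psu (GaloisField 3 2) h9
  refine ⟨Q, hQn, ?_, ?_, by rw [eQ]; norm_num, N, M, inferInstance, hMn, hQN, hNM,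
    by rw [eN, eQ], ⟨GaloisField 3 2, inferInstance, inferInstance, h9,
      ⟨((QuotientGroup.quotientMulEquivOfEq θker.symm).trans
        (QuotientGroup.quotientKerEquivOfSurjective θ θsurj)).trans eU⟩⟩, hMidx⟩
  · refine fstar_eq Q (IsPGroup.of_card (n := 13) (by rw [eQ]; norm_num)) (fun c hc => ?_) ?_
    · have hfix : ∀ (U : Tet D z), ∀ x ∈ U.1, Commute ((ι c : Cz) : G) x :=
        commute_of_pairs h fun p hp => by
          have hpq : p ∈ qt h := by
            rw [qt_eq_closure h q fr]; exact Subgroup.subset_closure (Set.mem_insert_of_mem _ hp)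
          obtain ⟨p', rfl⟩ := hqrange hpq
          exact ((show Commute p' c from hc p' hpq).symm).map ι
      rcases eq_one_or_zC h q hfix with e | e <;> show ι c ∈ qt h <;> rw [e]
      · exact one_mem _
      · exact zC_mem_qt h q
    · intro X hX hX2
      have himg : X.map χ = ⊥ := by
        refine two_core_trivial χ.range hgam (fun y => ?_) _ (Subgroup.map_le_range χ X) ?_ (hX2.map χ)
        · -- transitivity
          have htr : ∀ (n : ℕ) (hn : n < 126), ∃ g : Cz, ψ g 0 = ⟨n, hn⟩ := by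
            intro n
            induction n using Nat.strong_induction_on with
            | _ n ih =>
              intro hn
              rcases bfs_down ⟨n, hn⟩ with h0 | ⟨l, hl⟩
              · exact ⟨1, by rw [map_one]; exact (Fin.ext h0).symm⟩
              · obtain ⟨g, hg⟩ := ih _ hl ((bT_spec ⟨n, hn⟩ l).1)
                exact ⟨m l * g, by
                  rw [map_mul, Equiv.Perm.mul_apply, hg, hmψ]
                  exact Fin.ext (bT_spec ⟨n, hn⟩ l).2⟩
          obtain ⟨g, hg⟩ := htr y.1 y.2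
          rcases hin g with hgl | hgl
          · obtain ⟨cc, hcc⟩ := toC hgl
            exact ⟨_, ⟨cc, rfl⟩, by show ψ (ι cc) 0 = y; rw [hcc, hg]⟩
          · obtain ⟨cc, hcc⟩ := toC hgl
            exact ⟨_, ⟨cc, rfl⟩, by
              show ψ (ι cc) 0 = y
              rw [hcc, map_mul, Equiv.Perm.mul_apply, hfix0, hg]⟩
        · rintro _ ⟨cc, rfl⟩ _ ⟨x, hx, rfl⟩
          exact ⟨cc * x * cc⁻¹, hX.conj_mem x hx cc, by simp⟩
      have hXN : X ≤ N := by
        rw [hNdef]
        exact (Subgroup.map_eq_bot_iff _).mp himg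
      haveI : (Q.subgroupOf N).Normal := hQn.subgroupOf N
      have h3 : (Q.subgroupOf N).index = 3 := by
        have e := (Q.subgroupOf N).card_mul_index
        rw [Nat.card_congr (Subgroup.subgroupOfEquivOfLe hQN).toEquiv, eQ, eN] at e
        omega
      intro x hx
      obtain ⟨k, hk⟩ := hX2 ⟨x, hx⟩
      have hk' : x ^ 2 ^ k = 1 := by
        have := congrArg Subtype.val hk
        simpa using this
      have h3x : x ^ 3 ∈ Q := by
        have := Subgroup.pow_index_mem (Q.subgroupOf N) ⟨x, hXN hx⟩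
        rwa [h3, Subgroup.mem_subgroupOf] at this
      have hcop : Nat.Coprime 3 (2 ^ k) := (show Nat.Coprime 3 2 by norm_num).pow_right k
      have hbez := Nat.gcd_eq_gcd_ab 3 (2 ^ k)
      rw [hcop] at hbez
      have : x = (x ^ 3) ^ Nat.gcdA 3 (2 ^ k) * (x ^ 2 ^ k) ^ Nat.gcdB 3 (2 ^ k) := by
        rw [← zpow_natCast x 3, ← zpow_natCast x (2 ^ k), ← zpow_mul, ← zpow_mul, ← zpow_add, ← hbez]
        simp
      rw [this, hk', one_zpow, mul_one]
      exact zpow_mem h3x _
  · exact H92.isExtraspecial_of_mulEquiv eQiso.symm (qt_extraspecial h q fr)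

end Cfsg.Agent.H49.Tetrad
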