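import Cfsg.Agent.H49.Tetrad.Orders
import Cfsg.Agent.H93.SevenU6
import Cfsg.Agent.H93.PointStab

/-!
What commutes with all members commuting with a product of four is one or the product.
-/

set_option autoImplicit false

namespace Cfsg.Agent.H49.Tetrad

open Cfsg.Agent.H93 Cfsg.Agent.H64.M24Triple

variable {G : Type*} [Group G] [Finite G] {D : Set G} {z : G}

/-- an element commuting with every member commuting with the product -/
theorem eq_one_or_prod (h : H61.M24.Geo24 D) {a b c d : G} (q : Quad D z a b c d) {x : G}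
    (hx : ∀ e ∈ D, Commute e z → Commute x e) : x = 1 ∨ x = z := by
  classical
  have htt := h.data.core.tt
  have hind := h.data.ind
  obtain ⟨ht, hd3⟩ := q.triple
  obtain ⟨K, iK, iKF, hK, ⟨tri⟩⟩ := (hyp h).exists_tri ht
  obtain ⟨Z, hZ, eZ⟩ := tri.sp.surj d hd3
  have ca : ∀ u ∈ [a, b, c, d], Commute x u := fun u hu =>
    hx u (q.mem u hu) (q.commute_mem hu)
  have hx3 : x ∈ C3 a b c := mem_C3_iff.mpr ⟨ca a (by simp), ca b (by simp), ca c (by simp)⟩
  obtain ⟨g, hg⟩ := QuotientGroup.mk_surjective (tri.ψ ⟨x, hx3⟩)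
  -- points orthogonal to the fourth are fixed
  have scal : ∀ v, IsPt v → hb v Z = 0 → ∃ r : K, r ≠ 0 ∧ H93.act g v = r • v := by
    intro v hv hvZ
    set e := tri.sp.pt v
    have he3 : e ∈ T3 D a b c := tri.sp.mem hv
    have hed : Commute e d := eZ ▸ (tri.sp.comm hv hZ).mpr hvZ
    have hez : Commute e z := by
      rw [← q.prod]
      refine Commute.list_prod_right _ _ fun u hu => ?_
      simp only [List.mem_cons, List.not_mem_nil, or_false] at hu
      rcases hu with rfl | rfl | rfl | rfl
      exacts [he3.1.1.2.2.symm, he3.1.2.2.2.symm, he3.2.2.2.symm, hed]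
    have hxe : Commute (⟨x, hx3⟩ : ↥(C3 a b c)) ⟨e, T3_mem_C3 he3⟩ :=
      Subtype.ext (hx e he3.1.1.1 hez).eq
    have h1 := hxe.map tri.ψ
    rw [tri.eq hv, ← hg] at h1
    have h2 : ptv hK (H93.act g v) = ptv hK v := by
      rw [← ptv_conj, h1.eq, mul_inv_cancel_right]
    obtain ⟨r, hr⟩ := ptv_eq hK (act_pt g hv) hv.2 h2
    exact ⟨r, fun h0 => (act_pt g hv).1 (by rw [hr, h0, zero_smul]), hr⟩
  obtain ⟨l, hl0, hl⟩ := scal Z hZ hZ.2
  obtain ⟨zc, hzc, hzact⟩ := scalar_center hK (t := l⁻¹) (inv_ne_zero hl0)
  set g' := zc * g with hg'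
  have hgmk : (QuotientGroup.mk g' : Cfsg.PSU 6 K 2) = tri.ψ ⟨x, hx3⟩ := by
    rw [← hg, hg', QuotientGroup.mk_mul, (QuotientGroup.eq_one_iff zc).mpr hzc, one_mul]
  have hgZ : H93.act g' Z = Z := by
    rw [hg', act_mul, hl, hzact, smul_smul, inv_mul_cancel₀ hl0, one_smul]
  have fixpt : ∀ v, IsPt v → hb v Z = 0 → H93.act g' v = v := by
    intro v hv hvZ
    by_cases hs : SamePt Z v
    · obtain ⟨r, hr⟩ := hs
      rw [hr, act_smul, hgZ]
    have hs' : ¬ SamePt v Z := fun e => hs (e.symm hZ.1)
    obtain ⟨r, hr0, hr⟩ := scal v hv hvZ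
    have hp : IsPt (v + Z) := by simpa using isPt_line hK hv hZ hvZ hs' 1
    obtain ⟨s, hs0, hs1⟩ := scal (v + Z) hp (by rw [hb_add_left, hvZ, hZ.2, add_zero])
    rw [act_add, hr, hl] at hs1
    have := (indep_pair hv.1 hs').eq_of_pair (s := r) (t := l) (s' := s) (t' := s)
      (by rw [hs1, smul_add])
    rw [hg', act_mul, hr, hzact, smul_smul, this.1, ← this.2, inv_mul_cancel₀ hl0, one_smul]
  obtain ⟨p⟩ := exists_pointBasis hK hZ
  obtain ⟨w, hw0, hw1, hw⟩ := exists_omega hK
  have hw3 : w ^ 3 = 1 := pow_three hK hw0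
  have fixu : ∀ i, H93.act g' (p.u i) = p.u i := by
    intro i
    obtain ⟨j, hj⟩ : ∃ j : Fin 4, j ≠ i := exists_ne i
    have iso : ∀ t : K, t ≠ 0 → H93.act g' (p.u j + t • p.u i) = p.u j + t • p.u i := by
      intro t ht0
      refine fixpt _ ⟨fun e0 => ?_, ?_⟩ ?_
      · have := congrArg (fun y => hb y (p.u j)) e0
        simp [hb_add_left, hb_smul_left, p.on, hj.symm, hb_zero_left] at this
      · simp only [hb_add_left, hb_add_right hK, hb_smul_left, hb_smul_right, p.on, hj, hj.symm,
          if_true, if_false, mul_zero, mul_one, add_zero, zero_add]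
        rw [show t ^ 2 * t = t ^ 3 by ring, pow_three hK ht0, add_self_zero hK]
      · rw [hb_add_left, hb_smul_left, p.orth, p.orth, mul_zero, add_zero]
    have e1 := iso 1 one_ne_zero
    have e2 := iso w hw0
    rw [one_smul, act_add] at e1
    rw [act_add, act_smul] at e2
    have key : (w + 1) • H93.act g' (p.u i) = (w + 1) • p.u i := by
      have h0 : H93.act g' (p.u i) + (p.u i) + (w • H93.act g' (p.u i) + w • p.u i) = 0 := by
        have h1 : H93.act g' (p.u j) + H93.act g' (p.u i) + (H93.act g' (p.u j) + w • H93.act g' (p.u i)) =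
            p.u j + p.u i + (p.u j + w • p.u i) := by rw [e1, e2]
        have a0 := vec_add_self hK (H93.act g' (p.u j))
        have b0 := vec_add_self hK (p.u j)
        calc _ = (H93.act g' (p.u j) + H93.act g' (p.u i) + (H93.act g' (p.u j) + w • H93.act g' (p.u i))) +
            (p.u j + p.u i + (p.u j + w • p.u i)) -
            ((H93.act g' (p.u j) + H93.act g' (p.u j)) + (p.u j + p.u j)) := by abel
          _ = 0 := by rw [h1, vec_add_self hK, a0, b0, add_zero, sub_zero]
      refine vec_eq_of_add hK ?_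
      rw [← h0]
      module
    have hne : (w + 1) ≠ 0 := fun e => hw1 ((add_eq_zero_iff_eq' hK).mp e)
    have := congrArg (fun y => (w + 1)⁻¹ • y) key
    simpa [smul_smul, inv_mul_cancel₀ hne] using this
  have hperp : ∀ y, hb y Z = 0 → H93.act g' y = y := by
    intro y hy
    have e : H93.act g' y = hb y p.partner • Z + ∑ i, hb y (p.u i) • p.u i := by
      conv_lhs => rw [p.decomp y hy]
      rw [act_add, act_smul, hgZ]
      congr 1
      simp only [H93.act, Matrix.mulVec_sum, Matrix.mulVec_smul]
      exact Finset.sum_congr rfl fun i _ => congrArg (hb y (p.u i) • ·) (fixu i)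
    rw [e, ← p.decomp y hy]
  -- in the group of the four members
  have hab := q.com a (by simp) b (by simp)
  have hac := q.com a (by simp) c (by simp)
  have hbc := q.com b (by simp) c (by simp)
  have hd := q.mem d (by simp)
  have hmid : x ∈ [1, a, b, c, a * b, a * c, b * c, a * b * c] ∨
      x * d ∈ [1, a, b, c, a * b, a * c, b * c, a * b * c] := by
    rcases p.fix_perp hK hperp with e | e
    · left
      refine mem_closure_three htt (q.mem a (by simp)) (q.mem b (by simp)) (q.mem c (by simp)) hab hac hbc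
        ((tri.ker ⟨x, hx3⟩).mp ?_)
      rw [← hgmk, e, QuotientGroup.mk_one]
    · right
      have hmem := (tri.ker (⟨x, hx3⟩ * ⟨tri.sp.pt Z, T3_mem_C3 (tri.sp.mem hZ)⟩)).mp (by
        rw [map_mul, tri.eq hZ, ← hgmk, e]
        exact ptv_mul_self hK Z)
      exact mem_closure_three htt (q.mem a (by simp)) (q.mem b (by simp)) (q.mem c (by simp)) hab hac hbc
        (by simpa [eZ] using hmem)
  -- a member of a tetrad far from the given one
  obtain ⟨U, hne, hn⟩ := (tspace h).exists_far (⟨qset a b c d, q.tetrad⟩ : Tet D z)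
  obtain ⟨e, he⟩ := U.2.nonempty
  have hxe : Commute e x := (hx e (U.2.mem he) (U.2.commute_prod he)).symm
  have hfar : ∀ u ∈ [a, b, c, d], ¬ Commute u e := fun u hu k =>
    hn ⟨hne, fun p' hp r hr => q.tetrad.commute_cross htt U.2 (show u ∈ qset a b c d from hu) he k hp hr⟩
  have small : ∀ s : List G, s.Sublist [a, b, c, d] → s ≠ [] → s.length ≤ 3 → x ≠ s.prod := by
    intro s hs hne' hlen e'
    obtain ⟨u, hu⟩ := List.exists_mem_of_ne_nil s hne'
    exact hfar u (hs.subset hu) (htt.commute_of_commute_prod (U.2.mem he) s (hs.nodup q.nd) hlen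
      (fun y hy => q.mem y (hs.subset hy)) (fun y hy y' hy' => q.com y (hs.subset hy) y' (hs.subset hy'))
      (e' ▸ hxe) u hu).symm
  rcases hmid with hm | hm <;> simp only [List.mem_cons, List.not_mem_nil, or_false] at hm
  · rcases hm with e' | e' | e' | e' | e' | e' | e' | e'
    · exact Or.inl e'
    · exact (small [a] (by simp) (by simp) (by simp) (by simpa using e')).elim
    · exact (small [b] (by simp) (by simp) (by simp) (by simpa using e')).elim
    · exact (small [c] (by simp) (by simp) (by simp) (by simpa using e')).elim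
    · exact (small [a, b] (by simp) (by simp) (by simp) (by simpa using e')).elim
    · exact (small [a, c] (by simp) (by simp) (by simp) (by simpa using e')).elim
    · exact (small [b, c] (by simp) (by simp) (by simp) (by simpa using e')).elim
    · exact (small [a, b, c] (by simp) (by simp) (by simp) (by simpa [mul_assoc] using e')).elim
  · have back : ∀ r, x * d = r → x = r * d := fun r e' => by
      rw [← e', mul_assoc, htt.sq d hd, mul_one]
    rcases hm with e' | e' | e' | e' | e' | e' | e' | e' <;> have e'' := back _ e'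
    · exact (small [d] (by simp) (by simp) (by simp) (by simpa using e'')).elim
    · exact (small [a, d] (by simp) (by simp) (by simp) (by simpa using e'')).elim
    · exact (small [b, d] (by simp) (by simp) (by simp) (by simpa using e'')).elim
    · exact (small [c, d] (by simp) (by simp) (by simp) (by simpa using e'')).elim
    · exact (small [a, b, d] (by simp) (by simp) (by simp) (by simpa [mul_assoc] using e'')).elim
    · exact (small [a, c, d] (by simp) (by simp) (by simp) (by simpa [mul_assoc] using e'')).elim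
    · exact (small [b, c, d] (by simp) (by simp) (by simp) (by simpa [mul_assoc] using e'')).elim
    · exact Or.inr (by rw [e'', ← q.prod]; simp [mul_assoc])

end Cfsg.Agent.H49.Tetrad
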