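import Mathlib

/-!
Closing the forty five points under third points from a far pair and a point's neighbours, and from five
points.
-/

set_option autoImplicit false

namespace Cfsg.Agent.H49.Tetrad

/-- steps from a point, its neighbours and a far point -/
def qGenA : List (Fin 45 × Fin 45) := [(0, 1), (1, 16), (1, 20), (1, 24), (1, 26), (1, 30), (1, 34), (1, 36), (1, 40), (1, 44), (16, 2), (16, 18), (16, 19), (16, 33), (16, 28), (16, 43), (16, 39), (20, 28), (20, 29), (20, 43), (20, 38), (20, 5), (20, 11), (24, 33), (24, 29), (24, 38), (24, 39), (24, 13), (24, 7), (24, 3), (24, 9)]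

/-- steps from five points -/
def qGenB : List (Fin 45 × Fin 45) := [(0, 1), (0, 37), (1, 34), (1, 39), (34, 37), (34, 2), (34, 39), (34, 44), (25, 37), (25, 39), (25, 44), (25, 9), (25, 12), (25, 24), (37, 29), (37, 27), (37, 24), (37, 8), (37, 36), (0, 14), (0, 17), (0, 13), (0, 38), (1, 5), (1, 8), (1, 36), (1, 30), (1, 38), (34, 28), (34, 40), (25, 17), (25, 13), (25, 38), (25, 11), (25, 42), (25, 40), (25, 15), (37, 21), (2, 31), (39, 15)]

end Cfsg.Agent.H49.Tetrad
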