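import Cfsg.Agent.H49.Tetrad.Eighteen
import Cfsg.Agent.H49.Tetrad.Gen45

/-!
Third points generate the forty five points from small sets.
-/

set_option autoImplicit false

namespace Cfsg.Agent.H49.Tetrad

/-- run closing steps on a mask of known points -/
def qRun : List (Fin 45 × Fin 45) → ℕ → ℕ
  | [], m => m
  | (a, b) :: l, m => qRun l (if m.testBit a.1 && m.testBit b.1 then m ||| 1 <<< (qT a b).1 else m)

theorem qRun_sound {P : Fin 45 → Prop} (hcl : ∀ a b, P a → P b → P (qT a b)) :
    ∀ (l : List (Fin 45 × Fin 45)) (m : ℕ), (∀ p : Fin 45, m.testBit p.1 = true → P p) →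
      ∀ p : Fin 45, (qRun l m).testBit p.1 = true → P p := by
  intro l
  induction l with
  | nil => exact fun _ h => h
  | cons ab l ih =>
    obtain ⟨a, b⟩ := ab
    intro m hm
    refine ih _ fun p hp => ?_
    split at hp
    · rename_i hab
      rw [Bool.and_eq_true] at hab
      rw [Nat.testBit_or, Bool.or_eq_true, Nat.one_shiftLeft, Nat.testBit_two_pow] at hp
      rcases hp with hp | hp
      · exact hm p hp
      · have : p = qT a b := (Fin.ext (by simpa using hp)).symm
        exact this ▸ hcl a b (hm a hab.1) (hm b hab.2)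
    · exact hm p hp

theorem qRun_A : qRun qGenA ((1 ||| 1 <<< qFar.1) ||| qMasks.getD 0 0) = 2 ^ 45 - 1 := by
  decide +kernel

/-- the five base points -/
def qBase : List (Fin 45) := [0, qFar, 34, 25, 37]

theorem qRun_B : qRun qGenB (qMask qBase) = 2 ^ 45 - 1 := by decide +kernel

/-- a point, its neighbours and the base far point generate -/
theorem generate_far {P : Fin 45 → Prop} (hcl : ∀ a b, P a → P b → P (qT a b)) (h0 : P 0)
    (hf : P qFar) (hn : ∀ p, qA 0 p = true → P p) (p : Fin 45) : P p := by
  refine qRun_sound hcl qGenA _ (fun q hq => ?_) p (by rw [qRun_A, Nat.testBit_two_pow_sub_one]; simp)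
  rw [Nat.testBit_or, Bool.or_eq_true, Nat.testBit_or, Bool.or_eq_true, Nat.testBit_one_eq_true_iff_self_eq_zero, Nat.one_shiftLeft,
    Nat.testBit_two_pow] at hq
  rcases hq with (hq | hq) | hq
  · have : q = 0 := Fin.ext (by simpa using hq)
    exact this ▸ h0
  · have : q = qFar := (Fin.ext (by simpa using hq)).symm
    exact this ▸ hf
  · exact hn q hq

/-- the five base points generate -/
theorem generate_base {P : Fin 45 → Prop} (hcl : ∀ a b, P a → P b → P (qT a b))
    (hb : ∀ p ∈ qBase, P p) (p : Fin 45) : P p :=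
  qRun_sound hcl qGenB _ (fun q hq => hb q ((qMask_spec _ q).mp hq)) p
    (by rw [qRun_B, Nat.testBit_two_pow_sub_one]; simp)

end Cfsg.Agent.H49.Tetrad
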