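import Cfsg.Agent.H45.CosetSound
import Cfsg.Agent.H49.Tetrad.Space
import Cfsg.Agent.H49.Tetrad.Generation
import Cfsg.Agent.H49.Tetrad.TableCheck

/-!
A space of tetrads is the table: its 126 points are the blocks, the seven third-point maps act as the
columns.
-/

set_option autoImplicit false

namespace Cfsg.Agent.H49.Tetrad

open Cfsg.Agent.H45

/-- the block of a neighbour -/
def nbB (u : Fin 45) : Fin 126 := ⟨tabNb.getD u.1 0, nb_lt u⟩

/-- a column on the blocks -/
def bPerm (l : Fin 7) : Equiv.Perm (Fin 126) where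
  toFun b := ⟨bT b.1 l.1, (bT_spec b l).1⟩
  invFun b := ⟨bT b.1 l.1, (bT_spec b l).1⟩
  left_inv b := Fin.ext (bT_spec b l).2
  right_inv b := Fin.ext (bT_spec b l).2

namespace TSpace

variable {S : Type*} (M : TSpace S) [Finite S]

/-- the seven maps -/
def gen (v y : S) (e : Fin 45 → S) (l : ℕ) : Equiv.Perm S :=
  if l < 5 then M.r (e (tabS l)) else if l = 5 then M.r v else if l = 6 then M.r y else 1

omit [Finite S] in
theorem gen_mem (v y : S) (e : Fin 45 → S) (l : ℕ) : M.gen v y e l ∈ M.grp := by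
  unfold gen
  split_ifs <;> first | exact M.r_mem _ | exact one_mem _

omit [Finite S] in
theorem gen_inv (v y : S) (e : Fin 45 → S) (l : ℕ) : M.gen v y e l = (M.gen v y e l)⁻¹ := by
  unfold gen
  split_ifs <;> first | exact (M.r_inv _).symm | exact inv_one.symm

variable {v y : S} {e : Fin 45 → S}

omit [Finite S] in
theorem eval_word (he : Loc M.adj M.r v e) (u : Fin 45) :
    evalW (M.gen v y e) (tabW u) = M.r (e u) := by
  suffices ∀ n u, (tabW u).length ≤ n → evalW (M.gen v y e) (tabW u) = M.r (e u) from this _ u le_rfl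
  intro n
  induction n with
  | zero =>
    intro u hu
    rcases tabW_spec u with ⟨l, h, -⟩ | ⟨l, h⟩ <;> rw [h] at hu <;> simp at hu
  | succ n ih =>
    intro u hu
    rcases tabW_spec u with ⟨l, h, hl⟩ | ⟨l, h⟩
    · rw [h, evalW_cons, evalW_nil, mul_one, gen, if_pos l.isLt, hl]
    · rw [h, evalW_append, evalW_append, ih _ (by
        rw [h] at hu; simp only [List.length_append, List.length_cons, List.length_nil] at hu; omega),
        evalW_cons, evalW_nil, mul_one, gen, if_pos l.isLt, ← M.conj, M.third he, qT_invol]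

omit [Finite S] in
theorem eval_all (he : Loc M.adj M.r v e) (hne : v ≠ y) (hv : ¬ M.adj v y)
    (hX : ∀ i, M.adj (e i) y ↔ i ∈ qX0Set) :
    ∀ w ∈ tabRels, evalW (M.gen v y e) w = 1 := by
  have ht : M.gen v y e 5 = M.r v := by simp [gen]
  have ht0 : M.gen v y e 6 = M.r y := by simp [gen]
  have hg : ∀ i, i < 5 → M.gen v y e i = M.r (e (tabS i)) := fun i hi => by simp [gen, hi]
  have hsq : ∀ g, M.gen v y e g * M.gen v y e g = 1 := fun g => by
    conv_lhs => arg 2; rw [M.gen_inv]
    exact mul_inv_cancel _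
  have cube : ∀ {a b : S}, a ≠ b → ¬ M.adj a b → M.r a * M.r b * (M.r a * M.r b * (M.r a * M.r b)) = 1 := by
    intro a b h1 h2
    rw [show M.r a * M.r b * (M.r a * M.r b * (M.r a * M.r b)) =
      (M.r a * M.r b * M.r a) * (M.r b * M.r a * M.r b) by group, ← M.cube_of_far h1 h2,
      show M.r a * M.r b * M.r a * (M.r a * M.r b * M.r a) =
        M.r a * (M.r b * (M.r a * M.r a) * M.r b) * M.r a by group, M.r_sq, mul_one, M.r_sq, mul_one,
      M.r_sq]
  have dbl : ∀ {a b : S}, M.adj a b → M.r a * M.r b * (M.r a * M.r b) = 1 := by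
    intro a b h
    rw [show M.r a * M.r b * (M.r a * M.r b) = M.r a * (M.r b * M.r a) * M.r b by group,
      ← (M.commute_of_adj h).eq, ← mul_assoc, M.r_sq, one_mul, M.r_sq]
  rw [tabRels_eq]
  intro w hw
  simp only [relList, List.mem_append, List.mem_map, List.mem_flatMap, List.mem_range,
    List.mem_singleton, List.mem_finRange, true_and] at hw
  rcases hw with ((((⟨g, -, rfl⟩ | ⟨i, hi, rfl⟩) | ⟨i, hi, u, rfl⟩) | rfl) | ⟨L, hL, rfl⟩) | ⟨u, rfl⟩
  · simp [evalW_cons, evalW_nil, hsq]
  · simp only [evalW_cons, evalW_nil, mul_one, hg i hi, ht]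
    rw [← mul_assoc]
    exact dbl (M.symm _ _ (he.mem _))
  · rw [evalW_append, evalW_append, evalW_append, evalW_cons, evalW_nil, mul_one, M.eval_word he,
      M.eval_word he, hg i hi]
    rw [← M.conj, M.third he, M.r_sq]
  · simp only [evalW_cons, evalW_nil, mul_one, ht, ht0]
    simpa [mul_assoc] using cube hne hv
  · rw [evalW_append, evalW_cons, evalW_nil, mul_one, ht]
    obtain ⟨h5, hnd, hadj⟩ := tabLines_spec L hL
    have : ∀ L : List (Fin 45), evalW (M.gen v y e) (L.flatMap tabW) = (L.map fun i => M.r (e i)).prod := by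
      intro L
      induction L with
      | nil => simp [evalW_nil]
      | cons a L ih => rw [List.flatMap_cons, evalW_append, M.eval_word he, ih, List.map_cons, List.prod_cons]
    rw [this, he.five L h5 hnd hadj, M.r_sq]
  · by_cases hu : qX0.testBit u.1 = true
    · rw [if_pos hu]
      simp only [evalW_append, evalW_cons, evalW_nil, mul_one, M.eval_word he, ht0]
      simpa [mul_assoc] using dbl ((hX u).mpr (by simp [qX0Set, hu]))
    · rw [if_neg hu]
      simp only [evalW_append, evalW_cons, evalW_nil, mul_one, M.eval_word he, ht0]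
      simpa [mul_assoc] using cube (a := e u) (b := y) (fun q => hv (q ▸ he.mem u))
        (fun q => hu (by simpa [qX0Set] using (hX u).mp q))

/-- a space of tetrads is the table -/
theorem exists_model (he : Loc M.adj M.r v e) (hne : v ≠ y) (hv : ¬ M.adj v y)
    (hX : ∀ i, M.adj (e i) y ↔ i ∈ qX0Set) :
    ∃ φ : Fin 126 ≃ S, φ 0 = v ∧ φ ⟨tabY0, by decide⟩ = y ∧ (∀ k, φ (nbB k) = e k) ∧
      ∀ (l : Fin 7) (b : Fin 126), φ (bPerm l b) = M.gen v y e l.1 (φ b) := by
  classical
  haveI := Fintype.ofFinite S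
  set E := M.gen v y e
  let H : Subgroup (Equiv.Perm S) := MulAction.stabilizer (Equiv.Perm S) v
  have hstab : ∀ l, l < 6 → E l v = v := by
    intro l hl
    show M.gen v y e l v = v
    unfold gen
    split_ifs with h1 h2 h3
    · exact M.r_adj (M.symm _ _ (he.mem _))
    · exact M.r_self v
    · omega
    · rfl
  have hD : Hyp tDat E H := by
    refine ⟨fun l => ?_, M.eval_all he hne hv hX, fun w hw => ?_⟩
    · rw [show tDat.iv = List.range 7 from rfl]
      have : linv (List.range 7) l = l := by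
        unfold linv
        rcases Nat.lt_or_ge l 7 with h | h
        · simp [List.getD_eq_getElem?_getD, h]
        · simp [List.getD_eq_getElem?_getD,
            List.getElem?_eq_none (by simpa using h : (List.range 7).length ≤ l)]
      rw [this]
      exact M.gen_inv v y e l
    · simp only [tDat, List.mem_cons, List.not_mem_nil, or_false] at hw
      rcases hw with rfl | rfl | rfl | rfl | rfl | rfl <;>
        (rw [evalW_cons, evalW_nil, mul_one, MulAction.mem_stabilizer_iff, Equiv.Perm.smul_def];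
         exact hstab _ (by norm_num))
  obtain ⟨htr, w, hw0, -, hw⟩ := closeCheck_sound hD (E := ⊤) (fun _ _ => Subgroup.mem_top _) close_ok
  let f : ℕ → S := fun i => (w i)⁻¹ v
  have f0 : f 0 = v := by show (w 0)⁻¹ v = v; rw [hw0, inv_one]; rfl
  have step : ∀ i, i < 378 → ∀ l, l < 7 → f (tget tabCols i l) = E l (f i) := by
    intro i hi l hl
    have h := hw i hi l hl
    rw [MulAction.mem_stabilizer_iff, Equiv.Perm.smul_def, Equiv.Perm.mul_apply,
      Equiv.Perm.mul_apply] at h
    have h2 : E l ((w (tget tabCols i l))⁻¹ v) = (w i)⁻¹ v := by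
      exact Equiv.Perm.eq_inv_iff_eq.mpr h
    show (w (tget tabCols i l))⁻¹ v = E l ((w i)⁻¹ v)
    rw [← h2]
    have hii : E l * E l = 1 := by
      conv_lhs => arg 2; rw [show E l = (E l)⁻¹ from M.gen_inv v y e l]
      exact mul_inv_cancel _
    rw [← Equiv.Perm.mul_apply (E l) (E l), hii, Equiv.Perm.one_apply]
  let I : Set S := {x | ∃ i, i < 378 ∧ f i = x}
  have hclosed : ∀ l, l < 7 → ∀ x ∈ I, E l x ∈ I := by
    rintro l hl _ ⟨i, hi, rfl⟩
    exact ⟨_, (cols_spec ⟨i, hi⟩ ⟨l, hl⟩).1, step i hi l hl⟩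
  let K : Subgroup (Equiv.Perm S) := Subgroup.closure {g | ∃ l, l < 7 ∧ E l = g}
  have hK : ∀ g ∈ K, ∀ x ∈ I, g x ∈ I := by
    intro g hg
    induction hg using Subgroup.closure_induction'' with
    | one => exact fun x hx => hx
    | mem g hg => obtain ⟨l, hl, rfl⟩ := hg; exact hclosed l hl
    | inv_mem g hg =>
      obtain ⟨l, hl, rfl⟩ := hg
      rw [show (E l)⁻¹ = E l from (M.gen_inv v y e l).symm]
      exact hclosed l hl
    | mul a b _ _ ha hb => exact fun x hx => ha _ (hb x hx)
  have rE : ∀ u, M.r (e u) ∈ K := by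
    intro u
    rw [← M.eval_word (y := y) he u]
    refine list_prod_mem fun g hg => ?_
    obtain ⟨l, hl, rfl⟩ := List.mem_map.mp hg
    by_cases h7 : l < 7
    · exact Subgroup.subset_closure ⟨l, h7, rfl⟩
    · show M.gen v y e l ∈ K
      rw [gen, if_neg (by omega), if_neg (by omega), if_neg (by omega)]
      exact one_mem K
  have rv : M.r v ∈ K := by
    rw [show M.r v = E 5 by simp [E, gen]]; exact Subgroup.subset_closure ⟨5, by norm_num, rfl⟩
  have ry : M.r y ∈ K := by
    rw [show M.r y = E 6 by simp [E, gen]]; exact Subgroup.subset_closure ⟨6, by norm_num, rfl⟩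
  have vI : v ∈ I := ⟨0, by norm_num, f0⟩
  have hvy : M.r v (M.r y v) = y := by
    rw [M.sw y v hne.symm (fun q => hv (M.symm _ _ q)), M.invol]
  have yI : y ∈ I := by
    rw [← hvy]
    exact hK _ rv _ (hK _ ry _ vI)
  have offX : ∀ u, u ∉ qX0Set → M.r y (M.r (e u) y) = e u := by
    intro u hu
    rw [M.sw (e u) y (fun q => hv (q ▸ he.mem u)) (fun q => hu ((hX u).mp q)), M.invol]
  have hqX : ∀ k, (tabPath k).1 ∉ qX0Set := fun k q => by
    have h1 := (path_spec k).1
    rw [qX0Set, Finset.mem_filter] at q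
    rw [q.2] at h1
    exact Bool.noConfusion h1
  have pathmap : ∀ (p : List ℕ) (u : Fin 45), (∀ l ∈ p, l < 5) →
      evalW E p (e u) = e (qWord (p.map tabS) u) := by
    intro p u hp
    induction p with
    | nil => rfl
    | cons l p ih =>
      rw [evalW_cons, Equiv.Perm.mul_apply, ih fun x hx => hp x (List.mem_cons_of_mem _ hx)]
      show M.gen v y e l _ = _
      rw [gen, if_pos (hp l List.mem_cons_self), M.third he]
      rfl
  have eI : ∀ u, e u ∈ I := by
    intro k
    obtain ⟨-, h2, h3, -⟩ := path_spec k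
    have h := pathmap (tabPath k).2 (tabPath k).1 h3
    rw [h2] at h
    rw [← h]
    refine hK _ (list_prod_mem fun g hg => ?_) _ ?_
    · obtain ⟨l, hl, rfl⟩ := List.mem_map.mp hg
      exact Subgroup.subset_closure ⟨l, (h3 l hl).trans (by norm_num), rfl⟩
    · rw [← offX _ (hqX k)]
      exact hK _ ry _ (hK _ (rE _) _ yI)
  have moveK : ∀ i j : Fin 45, ∃ g ∈ K, g v = v ∧ g (e i) = e j := by
    intro i j
    refine ⟨M.word e ((qToZero.getD j.1 []).reverse ++ qToZero.getD i.1 []), list_prod_mem ?_, ?_, ?_⟩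
    · intro g hg
      obtain ⟨u, -, rfl⟩ := List.mem_map.mp hg
      exact rE u
    · exact (M.word_apply he _).1
    · rw [(M.word_apply he _).2, qWord_append, qToZero_spec]
      congr 1
      apply qWord_inj (qToZero.getD j.1 [])
      rw [qWord_reverse, qToZero_spec]
  have hI : ∀ x, x ∈ I := by
    intro x
    by_cases h1 : v = x
    · exact h1 ▸ vI
    by_cases h2 : M.adj v x
    · obtain ⟨i, rfl⟩ := he.cover x h2
      exact eI i
    obtain ⟨q, hq1, hq2⟩ := M.diam h1 h2
    obtain ⟨i, rfl⟩ := he.cover q hq1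
    -- a far point of the image next to this neighbour
    obtain ⟨i0, hi0⟩ := Finset.card_pos.mp (show 0 < qX0Set.card by decide +kernel)
    obtain ⟨g, hg, gv, ge⟩ := moveK i0 i
    have hgG : g ∈ M.grp := by
      refine (Subgroup.closure_le _).mpr ?_ hg
      rintro _ ⟨l, -, rfl⟩
      exact M.gen_mem v y e l
    have za : M.adj (e i) (g y) := ge ▸ ((M.grp_spec hgG).1 _ _).mpr ((hX i0).mpr hi0)
    have zf : v ≠ g y ∧ ¬ M.adj v (g y) := by
      refine ⟨fun k => hne (g.injective (gv.trans k)), fun k => hv ?_⟩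
      rw [← (M.grp_spec hgG).1, gv]; exact k
    have zI : g y ∈ I := hK g hg y yI
    obtain ⟨e', he'⟩ := M.loc (e i)
    -- normalise the two distinguished points
    obtain ⟨p, hp⟩ := he'.cover v (M.symm _ _ hq1)
    obtain ⟨z, hz⟩ := he'.cover (g y) za
    set l1 := qToZero.getD p.1 []
    have hz0 : qWord l1 z ≠ 0 := fun k => zf.1 (by
      rw [← qToZero_spec p] at k
      rw [← hp, ← hz, qWord_inj l1 k])
    have hzA : qA 0 (qWord l1 z) = false := by
      rw [← qToZero_spec p, qWord_aut, Bool.eq_false_iff]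
      exact fun k => zf.2 (hp ▸ hz ▸ (he'.iff p z).mpr k)
    obtain ⟨hl0, hlf⟩ := qToPair_spec _ hz0 hzA
    set l2 := qToPair.getD (qWord l1 z).1 []
    have hs := M.loc_word he' (l2 ++ l1).reverse
    set e'' := e' ∘ qWord (l2 ++ l1).reverse
    have back : ∀ a, qWord (l2 ++ l1).reverse (qWord (l2 ++ l1) a) = a := fun a => by
      apply qWord_inj (l2 ++ l1)
      rw [qWord_reverse]
    have h0 : e'' 0 = v := by
      show e' (qWord _ 0) = v
      rw [show (0 : Fin 45) = qWord (l2 ++ l1) p by rw [qWord_append, qToZero_spec, hl0], back, hp]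
    have hf' : e'' qFar = g y := by
      show e' (qWord _ qFar) = g y
      rw [show qFar = qWord (l2 ++ l1) z by rw [qWord_append, hlf], back, hz]
    have rIn : ∀ x ∈ I, M.r x ∈ K := by
      rintro _ ⟨j, hj, rfl⟩
      induction j using Nat.strong_induction_on with
      | _ j ih =>
        rcases Nat.eq_zero_or_pos j with rfl | hpos
        · rw [f0]; exact rv
        obtain ⟨p', l, hp', hl, hpl⟩ := htr j hpos hj
        rw [← hpl, show tget tDat.cols p' l = tget tabCols p' l from rfl, step p' (hp'.trans hj) l hl,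
          (M.grp_spec (g := E l) (M.gen_mem v y e l)).2]
        have hEK : E l ∈ K := Subgroup.subset_closure ⟨l, hl, rfl⟩
        exact mul_mem (mul_mem hEK (ih p' hp' (hp'.trans hj))) (inv_mem hEK)
    have all := generate_far (P := fun a => e'' a ∈ I) (fun a b ha hb => by
      rw [← M.third hs]
      exact hK _ (rIn _ ha) _ hb) (h0 ▸ vI) (hf' ▸ zI) (fun a ha => by
        obtain ⟨u, hu⟩ := he.cover (e'' a) (h0 ▸ (hs.iff 0 a).mpr ha)
        exact hu ▸ eI u)
    obtain ⟨a, ha⟩ := hs.cover x hq2
    exact ha ▸ all a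
  -- the fibres
  let F : S → Finset (Fin 378) := fun x => Finset.univ.filter fun i => f i.1 = x
  have hEinj : ∀ l, Function.Injective (E l) := fun l => (E l).injective
  let P7 : Fin 7 → Equiv.Perm (Fin 378) := fun l =>
    { toFun := fun i => ⟨tget tabCols i.1 l.1, (cols_spec i l).1⟩
      invFun := fun i => ⟨tget tabCols i.1 l.1, (cols_spec i l).1⟩
      left_inv := fun i => Fin.ext (cols_spec i l).2.1
      right_inv := fun i => Fin.ext (cols_spec i l).2.1 }
  have fcard : ∀ (l : Fin 7) (x : S), (F (E l.1 x)).card = (F x).card := by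
    intro l x
    rw [← Finset.card_map (P7 l).toEmbedding (s := F x)]
    congr 1
    ext i
    simp only [F, Finset.mem_map_equiv, Finset.mem_filter, Finset.mem_univ, true_and]
    show f i.1 = E l.1 x ↔ f (tget tabCols i.1 l.1) = x
    rw [step i.1 i.2 l.1 l.2]
    constructor
    · intro q
      rw [q, ← Equiv.Perm.mul_apply]
      conv_lhs => arg 1; arg 2; rw [show E l.1 = (E l.1)⁻¹ from M.gen_inv v y e l.1]
      simp
    · intro q
      rw [← q, ← Equiv.Perm.mul_apply]
      conv_rhs => arg 1; arg 2; rw [show E l.1 = (E l.1)⁻¹ from M.gen_inv v y e l.1]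
      simp
  have fconst : ∀ x, (F x).card = (F v).card := by
    intro x
    obtain ⟨i, hi, rfl⟩ := hI x
    induction i using Nat.strong_induction_on with
    | _ i ih =>
      rcases Nat.eq_zero_or_pos i with rfl | hpos
      · rw [f0]
      obtain ⟨p, l, hp, hl, hpl⟩ := htr i hpos hi
      rw [← hpl, show tget tDat.cols p l = tget tabCols p l from rfl, step p (hp.trans hi) l hl,
        fcard ⟨l, hl⟩]
      exact ih p hp (hp.trans hi)
  have hSc : Fintype.card S = 126 := by rw [← Nat.card_eq_fintype_card]; exact M.card_eq v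
  have fib3 : (F v).card = 3 := by
    have h := Finset.card_eq_sum_card_fiberwise (f := fun i : Fin 378 => f i.1)
      (s := Finset.univ) (t := Finset.univ) (fun _ _ => Finset.mem_univ _)
    rw [Finset.sum_congr rfl (g := fun _ => (F v).card) (fun x _ => fconst x), Finset.sum_const,
      Finset.card_univ, Finset.card_univ, Fintype.card_fin, hSc, smul_eq_mul] at h
    omega
  have fibv : ∀ i : Fin 378, f i.1 = v → bPi i.1 = 0 := by
    intro i hi
    rw [bPi_zero]
    rcases orbit_big i with h | h | h | h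
    · exact Or.inl h
    · exact Or.inr (Or.inl h)
    · exact Or.inr (Or.inr h)
    exfalso
    set L := ((List.range 6).map (fun l => tget tabCols i.1 l) ++
      (List.range 6).flatMap fun l => (List.range 6).map fun m =>
        tget tabCols (tget tabCols i.1 l) m) with hL
    have hmem : ∀ x ∈ L, x < 378 ∧ f x = v := by
      intro x hx
      simp only [hL, List.mem_append, List.mem_map, List.mem_flatMap, List.mem_range] at hx
      have one : ∀ (j l : ℕ), j < 378 → l < 6 → f j = v →
          tget tabCols j l < 378 ∧ f (tget tabCols j l) = v := fun j l hj hl hfj =>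
        ⟨(cols_spec ⟨j, hj⟩ ⟨l, by omega⟩).1, by rw [step j hj l (by omega), hfj]; exact hstab l hl⟩
      rcases hx with ⟨l, hl, rfl⟩ | ⟨l, hl, m, hm, rfl⟩
      · exact one _ l i.2 hl hi
      · obtain ⟨a1, a2⟩ := one _ l i.2 hl hi
        exact one _ m a1 hm a2
    have : L.eraseDups.toFinset ⊆ (F v).map Fin.valEmbedding := by
      intro x hx
      rw [List.mem_toFinset, List.mem_eraseDups] at hx
      obtain ⟨h1, h2⟩ := hmem x hx
      exact Finset.mem_map.mpr ⟨⟨x, h1⟩, by simp [F, h2], rfl⟩
    have := Finset.card_le_card this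
    rw [List.toFinset_card_of_nodup (eraseDups_nodup _ _ le_rfl), Finset.card_map, fib3] at this
    omega
  have fib0 : ∀ i : Fin 378, bPi i.1 = 0 → f i.1 = v := by
    have hsub : F v ⊆ Finset.univ.filter fun i : Fin 378 => bPi i.1 = 0 := fun i hi => by
      simp only [F, Finset.mem_filter, Finset.mem_univ, true_and] at hi ⊢
      exact fibv i hi
    have h3 : (Finset.univ.filter fun i : Fin 378 => bPi i.1 = 0).card = 3 := by decide +kernel
    have heq := Finset.eq_of_subset_of_card_le hsub (by rw [h3, fib3])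
    intro i hi
    have : i ∈ F v := heq ▸ (by simp [hi])
    simpa [F] using this
  have fblock : ∀ i, i < 378 → ∀ j, j < 378 → bPi j = bPi i → f j = f i := by
    intro i
    induction i using Nat.strong_induction_on with
    | _ i ih =>
      intro hi j hj hij
      rcases Nat.eq_zero_or_pos i with rfl | hpos
      · rw [f0]
        exact fib0 ⟨j, hj⟩ (hij.trans ((bPi_zero ⟨0, hi⟩).mpr (Or.inl rfl)))
      obtain ⟨p, l, hp, hl, hpl⟩ := htr i hpos hi
      have hpl' : tget tabCols p l = i := hpl
      obtain ⟨j1, j2, j3⟩ := cols_spec ⟨j, hj⟩ ⟨l, hl⟩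
      simp only at j1 j2 j3
      have := ih p hp (hp.trans hi) _ j1 (by
        rw [j3, hij, ← hpl', (cols_spec ⟨p, hp.trans hi⟩ ⟨l, hl⟩).2.2]
        exact (bT_spec ⟨bPi p, bPi_lt ⟨p, hp.trans hi⟩⟩ ⟨l, hl⟩).2)
      rw [step j hj l hl] at this
      rw [← hpl', step p (hp.trans hi) l hl, ← this, ← Equiv.Perm.mul_apply]
      conv_rhs => arg 1; arg 2; rw [show E l = (E l)⁻¹ from M.gen_inv v y e l]
      simp
  have repr : ∀ b : Fin 126, ∃ i : Fin 378, bPi i.1 = b.1 := by decide +kernel
  choose rep hrep using repr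
  let g : Fin 126 → S := fun b => f (rep b).1
  have gpi : ∀ i, (hi : i < 378) → f i = g ⟨bPi i, bPi_lt ⟨i, hi⟩⟩ := fun i hi =>
    fblock _ (rep _).2 i hi (hrep ⟨bPi i, bPi_lt ⟨i, hi⟩⟩).symm
  have gsurj : Function.Surjective g := fun x => by
    obtain ⟨i, hi, rfl⟩ := hI x
    exact ⟨_, (gpi i hi).symm⟩
  have gbij : Function.Bijective g :=
    (Fintype.bijective_iff_surjective_and_card g).mpr ⟨gsurj, by simp [hSc]⟩
  let φ : Fin 126 ≃ S := Equiv.ofBijective g gbij
  have φstep : ∀ (l : Fin 7) (b : Fin 126), φ (bPerm l b) = E l.1 (φ b) := by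
    intro l b
    show g _ = E l.1 (g b)
    rw [← step _ (rep b).2 l.1 l.2, gpi _ (cols_spec (rep b) l).1]
    congr 1
    exact Fin.ext (((cols_spec (rep b) l).2.2.trans (by rw [hrep]; rfl)).symm)
  have φ0 : φ 0 = v := by
    show g 0 = v
    rw [← f0, gpi 0 (by norm_num)]
    congr 1
  have φy : φ ⟨tabY0, by decide⟩ = y := by
    have h6 := (cols_spec ⟨0, by norm_num⟩ ⟨6, by norm_num⟩).1
    have h5 := (cols_spec ⟨_, h6⟩ ⟨5, by norm_num⟩).1
    have h := gpi _ h5
    rw [step _ h6 5 (by norm_num), step 0 (by norm_num) 6 (by norm_num), f0] at h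
    simp only [E, gen] at h
    norm_num at h
    rw [hvy] at h
    show g _ = y
    rw [h]
    exact congrArg g (Fin.ext y0_spec.symm)
  have φword : ∀ (p : List ℕ), (∀ l ∈ p, l < 7) → ∀ b : Fin 126,
      ∃ c : Fin 126, c.1 = bAp p b.1 ∧ φ c = evalW E p (φ b) := by
    intro p
    induction p with
    | nil => exact fun _ b => ⟨b, rfl, rfl⟩
    | cons l p ih =>
      intro hp b
      obtain ⟨c, hc, hφ⟩ := ih (fun x hx => hp x (List.mem_cons_of_mem _ hx)) b
      refine ⟨bPerm ⟨l, hp l List.mem_cons_self⟩ c, ?_, ?_⟩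
      · show bT c.1 l = bT (bAp p b.1) l
        rw [hc]
      · rw [φstep, hφ, evalW_cons, Equiv.Perm.mul_apply]
  have φnb : ∀ u, u ∉ qX0Set → φ (nbB u) = e u := by
    intro u hu
    have hb : qX0.testBit u.1 = false := by
      rw [Bool.eq_false_iff]; exact fun q => hu (by simp [qX0Set, q])
    obtain ⟨c, hc, hφ⟩ := φword (6 :: tabW u) (by
      have : ∀ u : Fin 45, ∀ l ∈ (6 :: tabW u), l < 7 := by decide +kernel
      exact this u) ⟨tabY0, by decide⟩
    rw [show nbB u = c from Fin.ext ((nb_spec u hb).symm.trans hc.symm), hφ, φy, evalW_cons,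
      Equiv.Perm.mul_apply, M.eval_word he]
    show M.gen v y e 6 _ = _
    rw [show M.gen v y e 6 = M.r y by simp [gen]]
    exact offX u hu
  refine ⟨φ, φ0, φy, fun k => ?_, φstep⟩
  obtain ⟨-, h2, h3, h4⟩ := path_spec k
  obtain ⟨c, hc, hφ⟩ := φword (tabPath k).2 (fun l hl => (h3 l hl).trans (by norm_num)) (nbB (tabPath k).1)
  rw [show nbB k = c from Fin.ext (h4.symm.trans hc.symm), hφ, φnb _ (hqX k), pathmap _ _ h3, h2]

end TSpace

end Cfsg.Agent.H49.Tetrad
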