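import Cfsg.Agent.H49.Tetrad.ChainChk
import Cfsg.Agent.H49.Tetrad.Ident

/-!
The group of products of two of the seven maps has order 3265920 and does not contain the map of a point.
-/

set_option autoImplicit false
set_option maxRecDepth 8000

namespace Cfsg.Agent.H49.Tetrad

open Cfsg.Agent.Compute Cfsg.Agent.H95

theorem two_pow_126 : (126 : ℕ) ≤ 2 ^ 7 := by norm_num

theorem bCode_spec (l : Fin 7) :
    PermOK 7 126 (bCode l.1) ∧ permDen 7 126 (bCode l.1) = bPerm l :=
  permOK_of_pack two_pow_126 (fun i => bT i l.1) (bPerm l) fun _ => rfl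

theorem gCode_def (k : ℕ) : (nth ((0, 0), 0, 0) gamSlp k).1.1 = gCode k := rfl

attribute [local irreducible] checkChain PermIso.slpOK sift bCode gCode packP

/-- the group of products of two of the seven maps -/
noncomputable def gam : Subgroup (Equiv.Perm (Fin 126)) :=
  (permSound 7 126 two_pow_126).grp gamChain

theorem card_gam : Nat.card gam = 3265920 := by
  rw [gam, (checkChain_sound _ gam_chain_ok).card, gam_order]

theorem gCode_spec (k : Fin 6) : PermOK 7 126 (gCode k.1) ∧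
    permDen 7 126 (gCode k.1) = bPerm k.castSucc * bPerm 6 ∧
    sift (permOps 7 126) gamChain (gCode k.1) = true := by
  have h := (allN_iff _ _).1 gam_gens k.1 k.2
  rw [Bool.and_eq_true, Nat.beq_eq] at h
  obtain ⟨o1, d1⟩ := bCode_spec k.castSucc
  obtain ⟨o2, d2⟩ := bCode_spec 6
  have e6 : ((6 : Fin 7) : ℕ) = 6 := rfl
  rw [e6] at o2 d2
  refine ⟨?_, ?_, h.2⟩
  · rw [h.1]
    exact (permSound 7 126 two_pow_126).ok_mul o1 o2
  · rw [h.1]
    exact ((permSound 7 126 two_pow_126).den_mul o1 o2).trans (congrArg₂ (· * ·) d1 d2)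

theorem gam_eq : gam = Subgroup.closure (Set.range fun k : Fin 6 => bPerm k.castSucc * bPerm 6) := by
  refine le_antisymm ((PermIso.grp_le two_pow_126 gam_slp_ok).trans ((Subgroup.closure_le _).2 ?_))
    ((Subgroup.closure_le _).2 ?_)
  · rintro _ ⟨k, hk, rfl⟩
    rw [gCode_def]
    exact Subgroup.subset_closure ⟨⟨k, hk⟩, (gCode_spec ⟨k, hk⟩).2.1.symm⟩
  · rintro _ ⟨k, rfl⟩
    obtain ⟨o, d, s⟩ := gCode_spec k
    show bPerm k.castSucc * bPerm 6 ∈ gam
    rw [← d]
    exact ((checkChain_sound _ gam_chain_ok).sift_iff _ o).1 s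

theorem bPerm_five_notMem : bPerm 5 ∉ gam := by
  obtain ⟨o, d⟩ := bCode_spec 5
  have e5 : ((5 : Fin 7) : ℕ) = 5 := rfl
  rw [e5] at o d
  intro h
  rw [← d] at h
  have := ((checkChain_sound (permSound 7 126 two_pow_126) gam_chain_ok).sift_iff _ o).2 h
  rw [gam_out] at this
  exact Bool.noConfusion this

theorem bPerm_pair_mem (l m : Fin 6) : bPerm l.castSucc * bPerm m.castSucc ∈ gam := by
  have h : ∀ k : Fin 6, bPerm k.castSucc * bPerm 6 ∈ gam := fun k => by
    rw [gam_eq]; exact Subgroup.subset_closure ⟨k, rfl⟩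
  have inv : ∀ l : Fin 7, (bPerm l)⁻¹ = bPerm l := fun l => inv_eq_of_mul_eq_one_left
    (Equiv.ext fun b => Fin.ext (bT_spec b l).2)
  have := mul_mem (h l) (inv_mem (h m))
  rwa [mul_inv_rev, inv, inv, mul_assoc, ← mul_assoc (bPerm 6), show bPerm 6 * bPerm 6 = 1 from
    mul_eq_one_iff_inv_eq.mpr (inv 6), one_mul] at this

end Cfsg.Agent.H49.Tetrad
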