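import Cfsg.Agent.H49.Tetrad.Basic

/-!
Groups of type M(24): a member outside the common neighbours of a far pair, commuting with one of
them, meets exactly 360 of those common neighbours; two tetrads have a common orthogonal tetrad.
-/

set_option autoImplicit false

namespace Cfsg.Agent.H49.Tetrad

open Cfsg.Agent.H93 Cfsg.Agent.H61.M24

variable {G : Type*} [Group G] {D : Set G} {z : G}

/-- the neighbours in the common set of a member outside it -/
theorem slice_out [Finite G] (h : Geo24 D) {a y t : G} (ha : a ∈ D) (hy : y ∈ D)
    (hn : ¬ Commute a y) (ht : t ∈ nb D y) (htn : t ∉ common D a y) :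
    (common D a y ∩ nb D t).ncard = 360 := by
  classical
  haveI := Fintype.ofFinite G
  let S := (nb D y).toFinset
  let P := (common D a y).toFinset
  let R : G → G → Prop := fun r f => f ∈ nb D r
  have toSet : ∀ (T : Set G) (p : G → Prop) [DecidablePred p],
      (T.toFinset.filter p).card = {x | x ∈ T ∧ p x}.ncard := fun T p _ => by
    rw [← Set.ncard_coe_finset]
    congr 1
    ext x
    simp
  have hPS : P ⊆ S := fun x hx => Set.mem_toFinset.mpr (Set.mem_toFinset.mp hx).2
  obtain ⟨m1, m2⟩ := moments (S := S) (P := P) (R := R) (K := 3510) (lam := 693) (μ := 351)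
    (t := 351) hPS
    (fun r q => q.2.1 rfl)
    (fun r hr f hf q => nb_symm (Set.mem_toFinset.mp hr).1 q)
    (fun r hr => by
      rw [toSet]
      exact h.data.card_nb_nb hy (Set.mem_toFinset.mp hr).2)
    (fun r hr => by
      rw [toSet]
      exact h.data.card_slice ha hy hn (Set.mem_toFinset.mp hr))
    (fun r hr r' hr' q => by
      rw [toSet]
      exact h.data.card_nb_three hy (Set.mem_toFinset.mp hr).2 ⟨(Set.mem_toFinset.mp hr').2, q⟩)
    (fun r hr r' hr' hne q => by
      rw [toSet]
      exact h.data.card_nb_far hy (Set.mem_toFinset.mp hr).2 (Set.mem_toFinset.mp hr').2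
        fun c => q ⟨(Set.mem_toFinset.mp hr').1.1, fun e => hne e.symm, c⟩)
  have hPk : P.card = 3240 := by
    rw [← h.common a ha y hy hn]; exact (Set.ncard_eq_toFinset_card' _).symm
  have hSk : S.card = 31671 := by
    rw [← h.data.card_nb hy]; exact (Set.ncard_eq_toFinset_card' _).symm
  have hout : (S \ P).card = 28431 := by
    have := Finset.card_sdiff_add_card_eq_card hPS
    omega
  rw [hPk] at m1 m2
  let x : G → ℤ := fun f => ((P.filter fun r => R r f).card : ℤ)
  have e1 : ∑ f ∈ S \ P, x f = 10235160 := by
    have e : ∑ f ∈ S \ P, (P.filter fun r => R r f).card = 10235160 := by omega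
    simp only [x]
    exact_mod_cast e
  have e2 : ∑ f ∈ S \ P, x f ^ 2 = 3684657600 := by
    have e : ∑ f ∈ S \ P, (P.filter fun r => R r f).card ^ 2 = 3684657600 := by norm_num at m2; omega
    simp only [x]
    exact_mod_cast e
  have e0 : ∑ f ∈ S \ P, (x f - 360) ^ 2 = 0 := by
    have : ∀ f, (x f - 360) ^ 2 = x f ^ 2 - 720 * x f + 129600 := fun f => by ring
    simp only [this, Finset.sum_add_distrib, Finset.sum_sub_distrib, ← Finset.mul_sum, e1, e2,
      Finset.sum_const, hout]
    norm_num
  have htS : t ∈ S \ P := Finset.mem_sdiff.mpr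
    ⟨Set.mem_toFinset.mpr ht, fun u => htn (Set.mem_toFinset.mp u)⟩
  have h0 := (Finset.sum_eq_zero_iff_of_nonneg fun f _ => sq_nonneg (x f - 360)).mp e0 t htS
  have h360 : (P.filter fun r => R r t).card = 360 := by
    have := eq_zero_of_pow_eq_zero h0
    simp only [x] at this
    omega
  rw [toSet] at h360
  rw [← h360]
  congr 1
  ext w
  exact ⟨fun q => ⟨q.1, nb_symm ht.1 q.2⟩, fun q => ⟨q.1, nb_symm q.1.1.1 q.2⟩⟩

/-- a member moved by three commuting ones to a commuting member commutes with one of them -/
theorem commute_one_of_moved (htt : TT D) {y b c d : G} (hy : y ∈ D) (hb : b ∈ D) (hc : c ∈ D)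
    (hd : d ∈ D) (cbc : Commute b c) (cbd : Commute b d) (ccd : Commute c d)
    (nb' : ¬ Commute y b) (nc : ¬ Commute y c) (nd : ¬ Commute y d) :
    ¬ Commute y (b * (c * (d * y * d) * c) * b) := by
  intro hh
  set v := c * (d * y * d) * c with hv
  have hcdc : c * d * c = d := by rw [ccd.eq, mul_assoc, htt.sq c hc, mul_one]
  have e1 : v = c * y * d * y * c := by
    rw [hv, ← htt.braid hy hd nd]; group
  have e2 : y * v * y = v := by
    calc y * v * y = (y * c * y) * d * (y * c * y) := by rw [e1]; group
      _ = c * y * c * d * (c * y * c) := by rw [htt.braid hy hc nc]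
      _ = c * y * (c * d * c) * y * c := by group
      _ = v := by rw [hcdc, e1]
  have h1 : Commute (b * y * b) v := by
    have := (commute_conj (g := b)).mpr hh
    rw [htt.inv_eq hb, show b * (b * v * b) * b = (b * b) * v * (b * b) by group, htt.sq b hb,
      one_mul, mul_one] at this
    exact this
  rw [← htt.braid hy hb nb'] at h1
  have h2 : Commute b v := by
    have := (commute_conj (g := y)).mpr h1
    rw [htt.inv_eq hy, e2, show y * (y * b * y) * y = (y * y) * b * (y * y) by group, htt.sq y hy,
      one_mul, mul_one] at this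
    exact this
  have hfix : c * d * b * (c * d)⁻¹ = b := by
    rw [(cbc.mul_right cbd).symm.eq, mul_inv_cancel_right]
  have ev : c * d * y * (c * d)⁻¹ = v := by
    rw [mul_inv_rev, htt.inv_eq hc, htt.inv_eq hd, hv]; group
  rw [← hfix, ← ev, commute_conj] at h2
  exact nb' h2.symm

/-- the common neighbours of members of two tetrads contain one commuting with the product -/
theorem exists_fixed_common [Finite G] (h : Geo24 D) {a b c d : G} (q : Quad D z a b c d) {e : G}
    (he : e ∈ D) (hez : Commute e z) (hn : ¬ Commute a e) :
    ∃ y ∈ common D a e, Commute y z := by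
  classical
  have htt := h.data.core.tt
  by_contra hno
  simp only [not_exists, not_and] at hno
  have ha := q.mem a (by simp)
  have hb := q.mem b (by simp)
  have hc := q.mem c (by simp)
  have hd := q.mem d (by simp)
  have hz2 := q.sq htt
  have hzi : z⁻¹ = z := inv_eq_of_mul_eq_one_left hz2
  have haz : Commute a z := q.commute_mem (by simp [qset])
  have hnd := q.nd
  simp only [List.nodup_cons, List.mem_cons, List.not_mem_nil, or_false, not_or] at hnd
  have cbc := q.com b (by simp) c (by simp)
  have cbd := q.com b (by simp) d (by simp)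
  have ccd := q.com c (by simp) d (by simp)
  have hfar : ∀ t ∈ [b, c, d], (common D a e ∩ nb D t).ncard = 360 := by
    intro t ht
    have htn : ¬ Commute t e := fun k => hn (q.tetrad.commute_all htt he hez
      (List.mem_cons_of_mem _ ht) k.symm (by simp [qset])).symm
    have hta : t ∈ nb D a := by
      refine ⟨q.mem t (List.mem_cons_of_mem _ ht), fun k => ?_, q.com a (by simp) t
        (List.mem_cons_of_mem _ ht)⟩
      exact (List.nodup_cons.mp q.nd).1 (k ▸ ht)
    have := slice_out h he ha (fun k => hn k.symm) hta fun k => htn k.1.2.2.symm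
    rwa [common, Set.inter_comm (nb D e)] at this
  have hcover : common D a e ⊆
      common D a e ∩ nb D b ∪ common D a e ∩ nb D c ∪ common D a e ∩ nb D d := by
    intro y hy
    have hyD := hy.1.1
    have hne : ∀ t ∈ [b, c, d], y ≠ t := fun t ht k => hno y hy
      (k ▸ q.commute_mem (List.mem_cons_of_mem _ ht))
    by_contra hall
    simp only [Set.mem_union, Set.mem_inter_iff, hy, true_and, not_or] at hall
    have mk : ∀ t, t ∈ [b, c, d] → t ∈ D → y ∉ nb D t → ¬ Commute y t := fun t ht _ hnt k =>
      hnt ⟨hyD, hne t ht, k.symm⟩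
    have n1 := mk b (by simp) hb hall.1.1
    have n2 := mk c (by simp) hc hall.1.2
    have n3 := mk d (by simp) hd hall.2
    have eimg : z * y * z = b * (c * (d * y * d) * c) * b := by
      have hz : z = a * (b * c * d) := by
        rw [← q.prod]; simp [mul_assoc]
      have hya : Commute a y := hy.1.2.2
      calc z * y * z = z * y * z⁻¹ := by rw [hzi]
        _ = a * ((b * c * d) * y * (b * c * d)⁻¹) * a⁻¹ := by rw [hz]; group
        _ = (b * c * d) * y * (b * c * d)⁻¹ := by
          refine mul_inv_eq_iff_eq_mul.mpr (Commute.eq ?_)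
          have cac : Commute a (b * c * d) := ((q.com a (by simp) b (by simp)).mul_right
            (q.com a (by simp) c (by simp))).mul_right (q.com a (by simp) d (by simp))
          exact (cac.mul_right hya).mul_right cac.inv_right
        _ = _ := by
          rw [mul_inv_rev, mul_inv_rev, htt.inv_eq hb, htt.inv_eq hc, htt.inv_eq hd]; group
    have hnc : ¬ Commute y (z * y * z) := eimg ▸ commute_one_of_moved htt hyD hb hc hd cbc cbd ccd n1 n2 n3
    have hy' : z * y * z ∈ common D a e := by
      have := htt.common_conj z hy
      rwa [hzi, haz.symm.eq, mul_assoc, hz2, mul_one, hez.symm.eq, mul_assoc, hz2, mul_one] at this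
    have hw : y * (z * y * z) * y ∈ common D a e := by
      have := htt.common_conj y hy'
      rwa [htt.inv_eq hyD, hy.1.2.2.symm.eq, mul_assoc a y y, htt.sq y hyD, mul_one,
        hy.2.2.2.symm.eq, mul_assoc e y y, htt.sq y hyD, mul_one] at this
    refine hno _ hw ?_
    have hb' := htt.braid hyD hy'.1.1 hnc
    calc y * (z * y * z) * y * z = y * z * y * z * y * z := by group
      _ = z * ((z * y * z) * y * (z * y * z)) := by
        rw [show z * ((z * y * z) * y * (z * y * z)) = (z * z) * (y * z * y * z * y * z) by group, hz2,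
          one_mul]
      _ = z * (y * (z * y * z) * y) := by rw [← hb']
  have hle := (Set.ncard_le_ncard hcover).trans ((Set.ncard_union_le _ _).trans
    (Nat.add_le_add_right (Set.ncard_union_le _ _) _))
  rw [h.common a ha e he hn, hfar b (by simp), hfar c (by simp), hfar d (by simp)] at hle
  omega

end Cfsg.Agent.H49.Tetrad
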