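import Cfsg.Agent.H49.Tetrad.Act

/-!
Enumerated tetrads: on a tetrad moved by another, the pairs act as translations, so an element fixing
both induces permutations of the same parity, and translations on both or on neither.
-/

set_option autoImplicit false

namespace Cfsg.Agent.H49.Tetrad

open Cfsg.Agent.H93

/-- index addition -/
def xo (i j : Fin 4) : Fin 4 := ⟨(i.1 ^^^ j.1) % 4, Nat.mod_lt _ (by norm_num)⟩

theorem xo_invol : ∀ c i, xo c (xo c i) = i := by decide
theorem xo_assoc : ∀ i j k, xo (xo i j) k = xo i (xo j k) := by decide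
theorem xo_comm : ∀ i j, xo i j = xo j i := by decide
theorem xo_zero : ∀ i, xo i 0 = i := by decide
theorem xo_self : ∀ i, xo i i = 0 := by decide

/-- a translation -/
def tl (c : Fin 4) : Equiv.Perm (Fin 4) := ⟨xo c, xo c, xo_invol c, xo_invol c⟩

/-- a translation, as a property -/
def IsTl (σ : Equiv.Perm (Fin 4)) : Prop := ∃ c, σ = tl c

theorem sign_tl : ∀ c, Equiv.Perm.sign (tl c) = 1 := by decide

theorem isTl_iff' : ∀ σ : Equiv.Perm (Fin 4),
    (∃ c, σ = tl c) ↔ (Equiv.Perm.sign σ = 1 ∧ σ * σ = 1) := by decide +kernel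

theorem isTl_iff (σ : Equiv.Perm (Fin 4)) : IsTl σ ↔ (Equiv.Perm.sign σ = 1 ∧ σ * σ = 1) :=
  isTl_iff' σ

theorem tl_mul (a b : Fin 4) : tl a * tl b = tl (xo a b) := Equiv.ext fun i => (xo_assoc a b i).symm

theorem isTl_mul {σ τ : Equiv.Perm (Fin 4)} (h : IsTl σ) (k : IsTl τ) : IsTl (σ * τ) := by
  obtain ⟨a, rfl⟩ := h
  obtain ⟨b, rfl⟩ := k
  exact ⟨_, tl_mul a b⟩

theorem isTl_conj {π σ : Equiv.Perm (Fin 4)} (h : IsTl σ) : IsTl (π * σ * π⁻¹) := by
  rw [isTl_iff] at h ⊢
  refine ⟨by simp [h.1], ?_⟩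
  rw [show π * σ * π⁻¹ * (π * σ * π⁻¹) = π * (σ * σ) * π⁻¹ by group, h.2]
  group

theorem isTl_inv {σ : Equiv.Perm (Fin 4)} (h : IsTl σ) : IsTl σ⁻¹ := by
  obtain ⟨a, rfl⟩ := h
  exact ⟨a, rfl⟩

variable {G : Type*} [Group G] {D : Set G} {z : G}

/-- four indexed members -/
structure Enum (T : Tet D z) (u : Fin 4 → G) : Prop where
  inj : Function.Injective u
  mem : ∀ i, u i ∈ T.1
  cover : ∀ y ∈ T.1, ∃ i, u i = y

/-- the induced permutation -/
def Ind (k : G) (u : Fin 4 → G) (σ : Equiv.Perm (Fin 4)) : Prop :=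
  ∀ i, k * u i * k⁻¹ = u (σ i)

theorem Ind.mul {k l : G} {u : Fin 4 → G} {σ τ : Equiv.Perm (Fin 4)} (h : Ind k u σ) (h' : Ind l u τ) :
    Ind (k * l) u (σ * τ) := fun i => by
  rw [Equiv.Perm.mul_apply, ← h, ← h']; group

theorem Ind.inv {k : G} {u : Fin 4 → G} {σ : Equiv.Perm (Fin 4)} (h : Ind k u σ) :
    Ind k⁻¹ u σ⁻¹ := fun i => by
  have := h (σ⁻¹ i)
  rw [show σ (σ⁻¹ i) = i by simp] at this
  rw [← this]; group

theorem Ind.one (u : Fin 4 → G) : Ind 1 u 1 := fun i => by simp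

namespace Enum

variable {T : Tet D z} {u u' : Fin 4 → G}

theorem of_inj (hinj : Function.Injective u) (hmem : ∀ i, u i ∈ T.1) : Enum T u := by
  refine ⟨hinj, hmem, fun y hy => ?_⟩
  have h4 := T.2.ncard
  have hfin : (T.1).Finite := Set.finite_of_ncard_ne_zero (by rw [h4]; norm_num)
  have hsub : Set.range u ⊆ T.1 := Set.range_subset_iff.mpr hmem
  have heq := Set.eq_of_subset_of_ncard_le hsub (by
    rw [h4, ← Nat.card_coe_set_eq, Nat.card_range_of_injective hinj, Nat.card_fin]) hfin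
  exact (heq ▸ hy :)

theorem ind_unique (hu : Enum T u) {k : G} {σ τ : Equiv.Perm (Fin 4)} (h : Ind k u σ)
    (h' : Ind k u τ) : σ = τ :=
  Equiv.ext fun i => hu.inj ((h i).symm.trans (h' i))

theorem exists_ind (hu : Enum T u) {k : G} (hk : ∀ y ∈ T.1, k * y * k⁻¹ ∈ T.1) :
    ∃ σ, Ind k u σ := by
  choose f hf using fun i => hu.cover _ (hk _ (hu.mem i))
  have finj : Function.Injective f := fun i j e => hu.inj (by
    have := (hf i).symm.trans ((congrArg u e).trans (hf j))
    exact mul_left_cancel (mul_right_cancel this))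
  exact ⟨Equiv.ofBijective f (Finite.injective_iff_bijective.mp finj), fun i => (hf i).symm⟩

/-- change of enumeration -/
theorem change (hu : Enum T u) (hu' : Enum T u') {k : G} {σ σ' : Equiv.Perm (Fin 4)}
    (h : Ind k u σ) (h' : Ind k u' σ') : ∃ π : Equiv.Perm (Fin 4), σ' = π * σ * π⁻¹ := by
  choose f hf using fun i => hu'.cover _ (hu.mem i)
  have finj : Function.Injective f := fun i j e => hu.inj (by rw [← hf i, ← hf j, e])
  refine ⟨Equiv.ofBijective f (Finite.injective_iff_bijective.mp finj), ?_⟩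
  set π := Equiv.ofBijective f (Finite.injective_iff_bijective.mp finj)
  have key : ∀ i, σ' (π i) = π (σ i) := fun i => hu'.inj (by
    show u' (σ' (f i)) = u' (f (σ i))
    rw [← h', hf, hf, h])
  ext i
  have := key (π⁻¹ i)
  rw [show π (π⁻¹ i) = i by simp] at this
  rw [this]; rfl

theorem quad (hu : Enum T u) : Quad D z (u 0) (u 1) (u 2) (u 3) := by
  obtain ⟨a, b, c, d, q, hT⟩ := T.2
  refine (q.of_perm ((List.perm_ext_iff_of_nodup ?_ q.nd).mpr fun y => ?_)).1
  · exact (List.nodup_ofFn (f := u)).mpr hu.inj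
  · rw [show (y ∈ [a, b, c, d]) = (y ∈ T.1) by rw [hT]; rfl]
    constructor
    · intro hy
      simp only [List.mem_cons, List.not_mem_nil, or_false] at hy
      rcases hy with rfl | rfl | rfl | rfl <;> exact hu.mem _
    · intro hy
      obtain ⟨i, rfl⟩ := hu.cover y hy
      fin_cases i <;> simp

end Enum

theorem exists_enum (T : Tet D z) {d : G} (hd : d ∈ T.1) : ∃ u : Fin 4 → G, Enum T u ∧ u 0 = d := by
  obtain ⟨b, c, e, q, hT⟩ := T.2.at_mem hd
  refine ⟨![d, b, c, e], Enum.of_inj ?_ fun i => ?_, rfl⟩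
  · intro i j hij
    have hn := q.nd
    simp only [List.nodup_cons, List.mem_cons, List.not_mem_nil, or_false, not_or] at hn
    fin_cases i <;> fin_cases j <;> simp_all [eq_comm]
  · rw [← hT]; fin_cases i <;> simp [qset]

/-- the transporting elements -/
def pr (u : Fin 4 → G) : Fin 4 → G := ![1, u 0 * u 1, u 0 * u 2, u 0 * u 1 * (u 0 * u 2)]

section Far

variable (htt : TT D) (hind : Indep D 7) {T U : Tet D z}

include htt in
/-- pairs act as the transporting elements on members commuting with the product -/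
theorem pair_conj {u : Fin 4 → G} (hu : Enum T u) {y : G} (hy : Commute y z) (i l : Fin 4) :
    u i * u l * y * (u i * u l)⁻¹ = pr u (xo i l) * y * (pr u (xo i l))⁻¹ := by
  have q := hu.quad
  have sq : ∀ i, u i * u i = 1 := fun i => htt.sq _ (T.2.mem (hu.mem i))
  have cm : ∀ i j, Commute (u i) (u j) := fun i j => T.2.com (hu.mem i) (hu.mem j)
  set x := u 0 * u 1 with hx
  set w := u 0 * u 2 with hw
  have cxw : Commute x w := ((cm 0 0).mul_right (cm 0 2)).mul_left ((cm 1 0).mul_right (cm 1 2))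
  have pc : ∀ i, (fun y => u 0 * u i * y * (u 0 * u i)⁻¹) y =
      pr u i * y * (pr u i)⁻¹ := by
    intro i
    fin_cases i
    · show u 0 * u 0 * y * (u 0 * u 0)⁻¹ = (1 : G) * y * (1 : G)⁻¹
      rw [sq]
    · rfl
    · rfl
    · show u 0 * u 3 * y * (u 0 * u 3)⁻¹ = x * w * y * (x * w)⁻¹
      have h3 : u 0 * u 3 = x * w * z := by
        have hz : z = u 0 * u 1 * u 2 * u 3 := by rw [← q.prod]; simp [mul_assoc]
        rw [hz, hx, hw, show u 0 * u 1 * (u 0 * u 2) = u 0 * (u 1 * u 0) * u 2 by group,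
          (cm 1 0).eq, show u 0 * (u 0 * u 1) * u 2 * (u 0 * u 1 * u 2 * u 3) =
            (u 0 * u 0) * u 1 * (u 2 * (u 0 * u 1)) * u 2 * u 3 by group,
          ((cm 2 0).mul_right (cm 2 1)).eq, sq, one_mul,
          show u 1 * (u 0 * u 1 * u 2) * u 2 * u 3 = (u 1 * u 0) * u 1 * (u 2 * u 2) * u 3 by group,
          sq, mul_one, (cm 1 0).eq, mul_assoc (u 0), sq, mul_one]
      rw [h3, show x * w * z * y * (x * w * z)⁻¹ = x * w * (z * y * z⁻¹) * (x * w)⁻¹ by group,
        hy.symm.eq, mul_inv_cancel_right]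
  have sx : x * x = 1 := by
    rw [hx, show u 0 * u 1 * (u 0 * u 1) = u 0 * (u 1 * u 0) * u 1 by group, (cm 1 0).eq, ← mul_assoc,
      sq, one_mul, sq]
  have sw : w * w = 1 := by
    rw [hw, show u 0 * u 2 * (u 0 * u 2) = u 0 * (u 2 * u 0) * u 2 by group, (cm 2 0).eq, ← mul_assoc,
      sq, one_mul, sq]
  have sx' : ∀ r, x * (x * r) = r := fun r => by rw [← mul_assoc, sx, one_mul]
  have sw' : ∀ r, w * (w * r) = r := fun r => by rw [← mul_assoc, sw, one_mul]
  have wx : w * x = x * w := cxw.symm.eq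
  have wx' : ∀ r, w * (x * r) = x * (w * r) := fun r => by rw [← mul_assoc, wx, mul_assoc]
  have table : ∀ i l, pr u i * pr u l = pr u (xo i l) := by
    intro i l
    show ![1, x, w, x * w] i * ![1, x, w, x * w] l = ![1, x, w, x * w] (xo i l)
    fin_cases i <;> fin_cases l <;>
      simp [xo, mul_assoc, sx, sw, sx', sw', wx, wx']
  have pmem : ∀ l, Commute (pr u l) z := by
    have cz : ∀ i, Commute (u i) z := fun i => T.2.commute_prod (hu.mem i)
    intro l
    fin_cases l
    exacts [Commute.one_left z, (cz 0).mul_left (cz 1), (cz 0).mul_left (cz 2),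
      ((cz 0).mul_left (cz 1)).mul_left ((cz 0).mul_left (cz 2))]
  have pcl := pc l
  simp only at pcl
  have hprod : u i * u l = (u 0 * u i) * (u 0 * u l) := by
    rw [show u 0 * u i * (u 0 * u l) = u 0 * (u i * u 0) * u l by group, (cm i 0).eq, ← mul_assoc, sq,
      one_mul]
  rw [hprod, show u 0 * u i * (u 0 * u l) * y * (u 0 * u i * (u 0 * u l))⁻¹ =
    u 0 * u i * (u 0 * u l * y * (u 0 * u l)⁻¹) * (u 0 * u i)⁻¹ by group, pcl]
  -- move the left factor past
  set x0 := pr u l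
  have hfac : u 0 * u i * (x0 * y * x0⁻¹) * (u 0 * u i)⁻¹ =
      pr u i * (x0 * y * x0⁻¹) * (pr u i)⁻¹ := by
    fin_cases i
    · show u 0 * u 0 * _ * (u 0 * u 0)⁻¹ = (1 : G) * _ * (1 : G)⁻¹
      rw [sq]
    · rfl
    · rfl
    · show u 0 * u 3 * _ * (u 0 * u 3)⁻¹ = x * w * _ * (x * w)⁻¹
      have hc : Commute (x0 * y * x0⁻¹) z :=
        ((pmem l).mul_left hy).mul_left (pmem l).inv_left
      have h3 : u 0 * u 3 = x * w * z := by
        have hz : z = u 0 * u 1 * u 2 * u 3 := by rw [← q.prod]; simp [mul_assoc]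
        rw [hz, hx, hw, show u 0 * u 1 * (u 0 * u 2) = u 0 * (u 1 * u 0) * u 2 by group,
          (cm 1 0).eq, show u 0 * (u 0 * u 1) * u 2 * (u 0 * u 1 * u 2 * u 3) =
            (u 0 * u 0) * u 1 * (u 2 * (u 0 * u 1)) * u 2 * u 3 by group,
          ((cm 2 0).mul_right (cm 2 1)).eq, sq, one_mul,
          show u 1 * (u 0 * u 1 * u 2) * u 2 * u 3 = (u 1 * u 0) * u 1 * (u 2 * u 2) * u 3 by group,
          sq, mul_one, (cm 1 0).eq, mul_assoc (u 0), sq, mul_one]
      rw [h3, show x * w * z * (x0 * y * x0⁻¹) * (x * w * z)⁻¹ =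
        x * w * (z * (x0 * y * x0⁻¹) * z⁻¹) * (x * w)⁻¹ by group, hc.symm.eq, mul_inv_cancel_right]
  rw [hfac, ← table i l, show pr u l = x0 from rfl]
  group

include htt in
theorem pr_mem {u : Fin 4 → G} (hu : Enum T u) (j : Fin 4) :
    ∃ i l, ∀ y, Commute y z → pr u j * y * (pr u j)⁻¹ = u i * u l * y * (u i * u l)⁻¹ := by
  refine ⟨j, 0, fun y hy => ?_⟩
  rw [pair_conj htt hu hy, xo_zero]

include htt hind in
/-- the transporting elements sweep a far tetrad -/
theorem sweep {u : Fin 4 → G} (hu : Enum T u) (hne : T ≠ U) (hn : ¬ TAdj T U) {e : G} (he : e ∈ U.1) :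
    Enum U (fun j => pr u j * e * (pr u j)⁻¹) := by
  have hez := U.2.commute_prod he
  have stable : ∀ i l, u i * u l * e * (u i * u l)⁻¹ ∈ U.1 := by
    intro i l
    have h1 := tetR_mem htt hind T U (hu.mem l) he
    have h2 := tetR_mem htt hind T (tetR htt T U) (hu.mem i) h1
    rw [tetR_invol htt hind] at h2
    rw [mul_inv_rev, htt.inv_eq (T.2.mem (hu.mem i)), htt.inv_eq (T.2.mem (hu.mem l))]
    simpa [mul_assoc] using h2
  refine Enum.of_inj (fun i j eij => ?_) fun j => ?_
  · have h := pair_conj htt hu hez i j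
    have hz : pr u (xo i j) * e * (pr u (xo i j))⁻¹ = e := by
      rw [← h, ← mul_inv_cancel_right e (pr u j)]
      have e1 := pair_conj htt hu hez i 0
      have e2 := pair_conj htt hu hez j 0
      rw [xo_zero] at e1 e2
      rw [← e1, ← e2] at eij
      rw [mul_inv_cancel_right]
      have cm : ∀ i j, Commute (u i) (u j) := fun i j => T.2.com (hu.mem i) (hu.mem j)
      have sq : ∀ i, u i * u i = 1 := fun i => htt.sq _ (T.2.mem (hu.mem i))
      calc u i * u j * e * (u i * u j)⁻¹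
          = (u i * u 0) * (u j * u 0) * e * ((u i * u 0) * (u j * u 0))⁻¹ := by
            rw [show u i * u 0 * (u j * u 0) = u i * (u 0 * u j) * u 0 by group, (cm 0 j).eq,
              show u i * (u j * u 0) * u 0 = u i * u j * (u 0 * u 0) by group, sq, mul_one]
        _ = u i * u 0 * (u j * u 0 * e * (u j * u 0)⁻¹) * (u i * u 0)⁻¹ := by group
        _ = (u i * u 0) * (u i * u 0) * e * ((u i * u 0) * (u i * u 0))⁻¹ := by rw [← eij]; group
        _ = e := by
            rw [show u i * u 0 * (u i * u 0) = u i * (u 0 * u i) * u 0 by group, (cm 0 i).eq,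
              ← mul_assoc, sq, one_mul, sq]
            simp
    by_contra hij
    have hm : xo i j ≠ 0 := by
      intro h0
      exact hij (by rw [← xo_zero i, ← xo_self j, ← xo_assoc, h0, xo_comm, xo_zero])
    have h2 := pair_conj htt hu hez 0 (xo i j)
    rw [show xo 0 (xo i j) = xo i j by rw [xo_comm, xo_zero], hz] at h2
    set m := xo i j
    have h0D := T.2.mem (hu.mem 0)
    have hmD := T.2.mem (hu.mem m)
    have far : ∀ l, ¬ Commute (u l) e := fun l c =>
      hn ⟨hne, fun x hx y hy => T.2.commute_cross htt U.2 (hu.mem l) he c hx hy⟩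
    have h3 : u m * e * u m = u 0 * e * u 0 := by
      rw [mul_inv_rev, htt.inv_eq h0D, htt.inv_eq hmD] at h2
      calc u m * e * u m = (u 0 * u 0) * u m * e * u m * (u 0 * u 0) := by rw [htt.sq _ h0D]; simp
        _ = u 0 * (u 0 * u m * e * (u m * u 0)) * u 0 := by group
        _ = u 0 * e * u 0 := by rw [h2]
    rw [htt.braid hmD (U.2.mem he) (far m), htt.braid h0D (U.2.mem he) (far 0)] at h3
    exact hm (hu.inj (mul_left_cancel (mul_right_cancel h3)))
  · obtain ⟨i, l, h⟩ := pr_mem htt hu j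
    show pr u j * e * (pr u j)⁻¹ ∈ U.1
    rw [h e hez]
    exact stable i l

include htt hind in
/-- the permutations on two far tetrads differ by a translation -/
theorem ind_far {u : Fin 4 → G} (hu : Enum T u) (hne : T ≠ U) (hn : ¬ TAdj T U) {e : G} (he : e ∈ U.1)
    {k : G} {σ σ' : Equiv.Perm (Fin 4)} (h : Ind k u σ)
    (h' : Ind k (fun j => pr u j * e * (pr u j)⁻¹) σ') : ∃ c, σ' = tl c * σ := by
  set v := fun j => pr u j * e * (pr u j)⁻¹ with hv
  have hve := sweep htt hind hu hne hn he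
  have hez := U.2.commute_prod he
  refine ⟨xo (σ' 0) (σ 0), Equiv.ext fun m => hve.inj ?_⟩
  have hvm : ∀ i l j, u i * u l * v j * (u i * u l)⁻¹ = v (xo (xo i l) j) := by
    intro i l j
    have cm : ∀ a b, Commute (u a) (u b) := fun a b => T.2.com (hu.mem a) (hu.mem b)
    have sq : ∀ a, u a * u a = 1 := fun a => htt.sq _ (T.2.mem (hu.mem a))
    have hj := pair_conj htt hu hez j 0
    rw [xo_zero] at hj
    have hvj : v j = u j * u 0 * e * (u j * u 0)⁻¹ := hj.symm
    have hvz : Commute (v j) z := U.2.commute_prod (hve.mem j)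
    rw [pair_conj htt hu hvz i l]
    set n := xo i l
    have hn' := pair_conj htt hu hvz n 0
    rw [xo_zero] at hn'
    rw [← hn', hvj]
    show _ = pr u (xo n j) * e * (pr u (xo n j))⁻¹
    rw [← pair_conj htt hu hez n j]
    calc u n * u 0 * (u j * u 0 * e * (u j * u 0)⁻¹) * (u n * u 0)⁻¹
        = (u n * u 0 * (u j * u 0)) * e * (u n * u 0 * (u j * u 0))⁻¹ := by group
      _ = _ := by
        rw [show u n * u 0 * (u j * u 0) = u n * (u 0 * u j) * u 0 by group, (cm 0 j).eq,
          show u n * (u j * u 0) * u 0 = u n * u j * (u 0 * u 0) by group, sq, mul_one]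
  have key : k * (u m * u 0 * v 0 * (u m * u 0)⁻¹) * k⁻¹ =
      u (σ m) * u (σ 0) * v (σ' 0) * (u (σ m) * u (σ 0))⁻¹ := by
    rw [← h, ← h, ← h']; group
  rw [hvm, hvm, h', xo_zero, xo_zero] at key
  show v (σ' m) = v _
  rw [key, Equiv.Perm.mul_apply]
  congr 1
  show _ = xo (xo (σ' 0) (σ 0)) (σ m)
  rw [xo_comm _ (σ m), xo_assoc (σ m), xo_comm (σ 0) (σ' 0)]

end Far

end Cfsg.Agent.H49.Tetrad
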