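import Cfsg.Agent.H49.Tetrad.Enum

/-!
An element fixing every tetrad and a member of one acts on the tetrads orthogonal to that one as an
affine map of the field of four elements, so it is even there.
-/

set_option autoImplicit false

namespace Cfsg.Agent.H49.Tetrad

open Cfsg.Agent.H93 Cfsg.Agent.H64.M24Triple

variable {G : Type*} [Group G] {D : Set G} {z : G}
variable {K : Type*} [Field K] [Fintype K] {hK : Fintype.card K = 4}

include hK in
/-- affine maps of four elements are even -/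
theorem sign_affine (κ : Fin 4 ≃ K) (σ : Equiv.Perm (Fin 4)) (m c : K) (hm : m ≠ 0)
    (h : ∀ i, κ (σ i) = m * κ i + c) : Equiv.Perm.sign σ = 1 := by
  classical
  obtain ⟨w, hw0, hw1, hw⟩ := exists_omega hK
  let M : ∀ r : K, r ≠ 0 → Equiv.Perm K := fun r hr => Equiv.mulLeft₀ r hr
  let T : K → Equiv.Perm K := fun r => Equiv.addRight r
  have hσ : κ.permCongr σ = T c * M m hm := Equiv.ext fun x => by
    show κ (σ (κ.symm x)) = m * x + c
    rw [h, κ.apply_symm_apply]
  rw [← Equiv.Perm.sign_permCongr κ, hσ, map_mul]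
  have hM : ∀ r hr, Equiv.Perm.sign (M r hr) = 1 := by
    intro r hr
    have h3 : M r hr ^ 3 = 1 := Equiv.ext fun x => by
      show r * (r * (r * x)) = x
      rw [← mul_assoc, ← mul_assoc, show r * r * r = r ^ 3 by ring, pow_three hK hr, one_mul]
    have := congrArg Equiv.Perm.sign h3
    rw [map_pow, map_one] at this
    rcases Int.units_eq_one_or (Equiv.Perm.sign (M r hr)) with e | e
    · exact e
    · rw [e] at this; exact absurd this (by decide)
  have hconj : ∀ r (hr : r ≠ 0), Equiv.Perm.sign (T r) = Equiv.Perm.sign (T 1) := by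
    intro r hr
    have e : T r * M r hr = M r hr * T 1 := Equiv.ext fun x => by
      show r * x + r = r * (x + 1)
      ring
    have := congrArg Equiv.Perm.sign e
    rwa [map_mul, map_mul, hM, mul_one, one_mul] at this
  have hT1 : Equiv.Perm.sign (T 1) = 1 := by
    have e : T 1 = T (w ^ 2) * T w := Equiv.ext fun x => by
      show x + 1 = x + w + w ^ 2
      have := two_zero hK
      linear_combination -hw + (1 : K) * this
    have := congrArg Equiv.Perm.sign e
    rw [map_mul, hconj w hw0, hconj _ (pow_ne_zero 2 hw0)] at this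
    rcases Int.units_eq_one_or (Equiv.Perm.sign (T 1)) with u | u
    · exact u
    · rw [u] at this; exact absurd this (by decide)
  rw [hM, mul_one]
  by_cases hc : c = 0
  · rw [show T c = 1 from Equiv.ext fun x => by show x + c = x; rw [hc, add_zero]]
    exact map_one _
  · rw [hconj c hc, hT1]

/-- a pencil -/
structure Pencil {a b c : G} (tri : Tri D a b c K hK) (Z v : Vec K) (U : Tet D z) : Prop where
  pt : ∀ s : K, IsPt (v + s • Z)
  mem : ∀ s : K, tri.sp.pt (v + s • Z) ∈ U.1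
  cover : ∀ y ∈ U.1, ∃ s : K, tri.sp.pt (v + s • Z) = y
  inj : ∀ s t : K, tri.sp.pt (v + s • Z) = tri.sp.pt (v + t • Z) → s = t

theorem exists_pencil (htt : TT D) (hind : Indep D 7) {a b c d : G} (q : Quad D z a b c d)
    (tri : Tri D a b c K hK) {Z v : Vec K} (hZ : IsPt Z) (hv : IsPt v) (hvZ : hb v Z = 0)
    (hs : ¬ SamePt v Z) (eZ : tri.sp.pt Z = d) : ∃ U : Tet D z, Pencil tri Z v U := by
  obtain ⟨w, hw0, hw1, hw⟩ := exists_omega hK
  have hp := fun t => isPt_line hK hv hZ hvZ hs t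
  refine ⟨⟨_, (line_quad htt hind q tri hZ hv hvZ hs eZ hw).tetrad⟩, hp, fun s => ?_, fun y hy => ?_,
    fun s t e => ?_⟩
  · show _ ∈ [_, _, _, _]
    by_cases ht0 : s = 0
    · simp [ht0]
    · have := nonzero_cases hK hw ht0
      simp only [List.mem_cons, List.not_mem_nil, or_false] at this
      rcases this with rfl | rfl | rfl <;> simp
  · change y ∈ [_, _, _, _] at hy
    simp only [List.mem_cons, List.not_mem_nil, or_false] at hy
    rcases hy with rfl | rfl | rfl | rfl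
    exacts [⟨0, by simp⟩, ⟨1, by simp⟩, ⟨w, rfl⟩, ⟨_, rfl⟩]
  · obtain ⟨r, hr⟩ := (tri.sp.same (hp s) (hp t)).mp e
    rw [smul_add, smul_smul] at hr
    have := (indep_pair hv.1 hs).eq_of_pair (s := (1 : K)) (t := t) (s' := r) (t' := r * s)
      (by rwa [one_smul])
    rw [← this.1, one_mul] at this
    exact this.2.symm

variable [Finite G]

/-- an element fixing all tetrads and a member is even on some orthogonal tetrad -/
theorem fix_even (h : H61.M24.Geo24 D) {k : G} (hkz : Commute k z)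
    (hfix : ∀ U : Tet D z, ∀ y ∈ U.1, k * y * k⁻¹ ∈ U.1) (T : Tet D z) {d : G} (hd : d ∈ T.1)
    (hkd : Commute k d) :
    ∃ U : Tet D z, TAdj T U ∧ ∃ u σ, Enum U u ∧ Ind k u σ ∧ Equiv.Perm.sign σ = 1 := by
  classical
  have htt := h.data.core.tt
  have hind := h.data.ind
  obtain ⟨b', c', e', q', hT'⟩ := T.2.at_mem hd
  obtain ⟨q, hT⟩ := q'.of_perm (a' := b') (b' := c') (c' := e') (d' := d)
    (List.perm_append_comm (l₁ := [b', c', e']) (l₂ := [d]))
  rw [hT'] at hT
  revert q hT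
  generalize b' = a, c' = b, e' = c
  intro q hT
  have hnd := q.nd
  simp only [List.nodup_cons, List.mem_cons, List.not_mem_nil, or_false, not_or] at hnd
  have mk : ∀ {x y : G}, x ∈ [a, b, c, d] → y ∈ [a, b, c, d] → x ≠ y → y ∈ nb D x :=
    fun hx hy hne => ⟨q.mem _ hy, hne.symm, q.com _ hx _ hy⟩
  have ht : IsTriple D a b c := ⟨q.mem a (by simp), mk (by simp) (by simp) hnd.1.1,
    mk (by simp) (by simp) hnd.1.2.1, mk (by simp) (by simp) hnd.2.1.1⟩
  have hd3 : d ∈ T3 D a b c := ⟨⟨mk (by simp) (by simp) hnd.1.2.2, mk (by simp) (by simp) hnd.2.1.2⟩,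
    mk (by simp) (by simp) hnd.2.2.1⟩
  obtain ⟨K, iK, iKF, hK, ⟨tri⟩⟩ := (hyp h).exists_tri ht
  obtain ⟨Z, hZ, eZ⟩ := tri.sp.surj d hd3
  obtain ⟨w, hw0, hw1, hw⟩ := exists_omega hK
  -- two adjacent orthogonal tetrads
  obtain ⟨e, he⟩ := loc_of h T
  obtain ⟨j, hj⟩ := Finset.card_pos.mp (show 0 < (Finset.univ.filter fun m => qA 0 m = true).card by
    rw [qA_deg]; norm_num)
  have hij : TAdj (e 0) (e j) := (he.iff 0 j).mpr (Finset.mem_filter.mp hj).2
  have reading : ∀ U : Tet D z, TAdj T U → ∀ x ∈ U.1, ∃ v, IsPt v ∧ tri.sp.pt v = x ∧ hb v Z = 0 ∧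
      ¬ SamePt v Z := by
    intro U hU x hx
    have hxT : ∀ y ∈ [a, b, c, d], x ∈ nb D y := by
      intro y hy
      have hyT : y ∈ T.1 := hT ▸ hy
      refine ⟨U.2.mem hx, fun u => ?_, hU.2 y hyT x hx⟩
      exact hU.1 (Subtype.ext (T.2.eq_of_mem htt hind U.2 hyT (u ▸ hx)))
    obtain ⟨v, hv, ev⟩ := tri.sp.surj x ⟨⟨hxT a (by simp), hxT b (by simp)⟩, hxT c (by simp)⟩
    refine ⟨v, hv, ev, (tri.sp.comm hv hZ).mp (ev ▸ eZ ▸ (hxT d (by simp)).2.2.symm), fun hs => ?_⟩
    exact (hxT d (by simp)).2.1 (ev.symm.trans (((tri.sp.same hv hZ).mpr hs).trans eZ))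
  obtain ⟨f, hf⟩ := (e 0).2.nonempty
  obtain ⟨g, hg⟩ := (e j).2.nonempty
  obtain ⟨u, hu, eu, huZ, hus⟩ := reading _ (he.mem 0) f hf
  obtain ⟨v, hv, ev, hvZ, hvs⟩ := reading _ (he.mem j) g hg
  obtain ⟨U, PU⟩ := exists_pencil htt hind q tri hZ hu huZ hus eZ
  obtain ⟨V, PV⟩ := exists_pencil htt hind q tri hZ hv hvZ hvs eZ
  have eU : U = e 0 := Subtype.ext (U.2.eq_of_mem htt hind (e 0).2 (x := f)
    (by rw [← eu]; simpa using PU.mem 0) hf)
  have eV : V = e j := Subtype.ext (V.2.eq_of_mem htt hind (e j).2 (x := g)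
    (by rw [← ev]; simpa using PV.mem 0) hg)
  have hUV : TAdj U V := eU ▸ eV ▸ hij
  have huv : hb u v = 0 := (tri.sp.comm hu hv).mp (by
    rw [eu, ev]; exact hij.2 f hf g hg)
  -- independence
  have li3 : ∀ α β γ : K, α • u + β • v + γ • Z = 0 → α = 0 ∧ β = 0 ∧ γ = 0 := by
    intro α β γ h0
    by_cases hβ : β = 0
    · rw [hβ, zero_smul, add_zero] at h0
      obtain ⟨h1, h2⟩ := LinearIndependent.pair_iff.mp (indep_pair hu.1 hus) α γ h0
      exact ⟨h1, hβ, h2⟩
    exfalso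
    have hv' : v = (β⁻¹ * α) • u + (β⁻¹ * γ) • Z := by
      have h1 : β • v = α • u + γ • Z := by
        refine vec_eq_of_add hK ?_
        rw [← h0]; abel
      calc v = β⁻¹ • (β • v) := by rw [smul_smul, inv_mul_cancel₀ hβ, one_smul]
        _ = _ := by rw [h1, smul_add, smul_smul, smul_smul]
    by_cases hα : β⁻¹ * α = 0
    · rw [hα, zero_smul, zero_add] at hv'
      have hγ : β⁻¹ * γ ≠ 0 := fun e0 => hv.1 (by rw [hv', e0, zero_smul])
      exact hvs ⟨(β⁻¹ * γ)⁻¹, by rw [hv', smul_smul, inv_mul_cancel₀ hγ, one_smul]⟩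
    · have hs0 : SamePt (u + ((β⁻¹ * α)⁻¹ * (β⁻¹ * γ)) • Z) v :=
        ⟨β⁻¹ * α, by rw [smul_add, smul_smul, ← mul_assoc, mul_inv_cancel₀ hα, one_mul]; exact hv'⟩
      have e1 := (tri.sp.same (PU.pt _) hv).mpr hs0
      refine hUV.1 (Subtype.ext (U.2.eq_of_mem htt hind V.2
        (PU.mem ((β⁻¹ * α)⁻¹ * (β⁻¹ * γ))) ?_))
      rw [e1]; simpa using PV.mem 0
  -- the pencils on the line
  have rewU : ∀ x : K, hb (u + x • v) Z = 0 := fun x => by
    rw [hb_add_left, hb_smul_left, huZ, hvZ, mul_zero, add_zero]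
  have hsuv : ¬ SamePt u v := fun ⟨r, hr⟩ => by
    have := (li3 r 1 0 (by rw [one_smul, zero_smul, add_zero, ← hr, vec_add_self hK])).2.1
    exact one_ne_zero this
  have hxs : ∀ x : K, ¬ SamePt (u + x • v) Z := fun x ⟨r, hr⟩ => by
    have := (li3 r (r * x) 1 (by
      rw [one_smul]; nth_rewrite 1 [hr]
      rw [smul_add, smul_smul, vec_add_self hK])).2.2
    exact one_ne_zero this
  choose W PW using fun x : K =>
    exists_pencil htt hind q tri hZ (isPt_line hK hu hv huv hsuv x) (rewU x) (hxs x) eZ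
  have Winj : ∀ x y, W x = W y → x = y := by
    intro x y hxy
    have hm : tri.sp.pt (u + y • v + (0 : K) • Z) ∈ (W x).1 := hxy ▸ (PW y).mem 0
    obtain ⟨s, hs⟩ := (PW x).cover _ hm
    obtain ⟨r, hr⟩ := (tri.sp.same ((PW x).pt s) ((PW y).pt 0)).mp hs
    obtain ⟨h1, h2, -⟩ := li3 (1 + r) (y + r * x) (r * s) (by
      have h0 := vec_add_self hK (r • (u + x • v + s • Z))
      nth_rewrite 1 [← hr] at h0
      rw [← h0]; module)
    have r1 : r = 1 := (add_eq_zero_iff_eq' hK).mp (by rw [add_comm]; exact h1)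
    rw [r1, one_mul] at h2
    exact ((add_eq_zero_iff_eq' hK).mp h2).symm
  -- the permutations
  have perm : ∀ {p : Vec K} {X : Tet D z}, Pencil tri Z p X →
      ∃ σ : K → K, ∀ s, k * tri.sp.pt (p + s • Z) * k⁻¹ = tri.sp.pt (p + σ s • Z) := by
    intro p X P
    choose σ hσ using fun s => P.cover _ (hfix X _ (P.mem s))
    exact ⟨σ, fun s => (hσ s).symm⟩
  obtain ⟨σu, hσu⟩ := perm PU
  obtain ⟨σv, hσv⟩ := perm PV
  choose σ hσ using fun x => perm (PW x)
  have habc : k * (a * b * c) * k⁻¹ = a * b * c := by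
    have hz : a * b * c = z * d := by
      rw [← q.prod]; simp [mul_assoc, htt.sq d (q.mem d (by simp))]
    rw [hz]
    exact mul_inv_eq_iff_eq_mul.mpr (hkz.mul_right hkd).eq
  have hw2 : w ^ 2 ≠ 0 := pow_ne_zero 2 hw0
  have hwsq1 : w ^ 2 ≠ 1 := fun e => hw1 (sq_eq_one hK e)
  have hwsqw : w ≠ w ^ 2 := fun e => hw1 (mul_left_cancel₀ hw0 (by rw [mul_one]; linear_combination -e))
  let g3 : K → K → K → G := fun s t x => tri.sp.pt (u + x • v + (s + x * t) • Z)
  have line : ∀ s t : K, tri.sp.pt (u + s • Z) * tri.sp.pt (v + t • Z) * g3 s t 1 * g3 s t w *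
      g3 s t (w ^ 2) = a * b * c := by
    intro s t
    set A := u + s • Z
    set B := v + t • Z
    have hA : IsPt A := PU.pt s
    have hB : IsPt B := PV.pt t
    have hAB : hb A B = 0 := (tri.sp.comm hA hB).mp (hUV.2 _ (PU.mem s) _ (PV.mem t))
    have hns : ¬ SamePt A B := fun hs => hUV.1 (Subtype.ext (U.2.eq_of_mem htt hind V.2 (PU.mem s)
      ((tri.sp.same hA hB).mpr hs ▸ PV.mem t)))
    have ex : ∀ x : K, A + x • B = u + x • v + (s + x * t) • Z := fun x => by
      simp only [A, B]; module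
    have p1 : IsPt (A + B) := by simpa using isPt_line hK hA hB hAB hns 1
    have p2 := isPt_line hK hA hB hAB hns w
    have p3 := isPt_line hK hA hB hAB hns (w ^ 2)
    have hnd5 := line_nodup (hK := hK) tri hA hB hAB hns hw0 hw1 hw
    have orth : ∀ s t s' t' : K, hb (s • A + t • B) (s' • A + t' • B) = 0 := fun s t s' t' => by
      simp [hb_add_left, hb_add_right hK, hb_smul_left, hb_smul_right, hA.2, hB.2, hAB,
        (hb_eq_zero_comm hK).mp hAB]
    have sp5 : ∀ y ∈ [tri.sp.pt A, tri.sp.pt B, tri.sp.pt (A + B), tri.sp.pt (A + w • B),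
        tri.sp.pt (A + w ^ 2 • B)],
        ∃ x, IsPt x ∧ tri.sp.pt x = y ∧ ∃ s t : K, x = s • A + t • B := by
      intro y hy
      simp only [List.mem_cons, List.not_mem_nil, or_false] at hy
      rcases hy with rfl | rfl | rfl | rfl | rfl
      exacts [⟨A, hA, rfl, 1, 0, by simp⟩, ⟨B, hB, rfl, 0, 1, by simp⟩,
        ⟨_, p1, rfl, 1, 1, by simp⟩, ⟨_, p2, rfl, 1, w, by simp⟩, ⟨_, p3, rfl, 1, w ^ 2, by simp⟩]
    have hk5 := five_abc htt hind q tri (l := [tri.sp.pt A, tri.sp.pt B, tri.sp.pt (A + B),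
      tri.sp.pt (A + w • B), tri.sp.pt (A + w ^ 2 • B)]) rfl hnd5
      (fun y hy => by obtain ⟨x, hx, rfl, -⟩ := sp5 y hy; exact tri.sp.mem hx)
      (fun x hx y hy => by
        obtain ⟨x', hx', rfl, s1, t1, rfl⟩ := sp5 x hx
        obtain ⟨y', hy', rfl, s2, t2, rfl⟩ := sp5 y hy
        exact (tri.sp.comm hx' hy').mpr (orth _ _ _ _))
      (by
        have := (tri.ker (⟨_, T3_mem_C3 (tri.sp.mem hA)⟩ * ⟨_, T3_mem_C3 (tri.sp.mem hB)⟩ *
          ⟨_, T3_mem_C3 (tri.sp.mem p1)⟩ * ⟨_, T3_mem_C3 (tri.sp.mem p2)⟩ *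
          ⟨_, T3_mem_C3 (tri.sp.mem p3)⟩)).mp ?_
        · simpa [mul_assoc] using this
        rw [map_mul, map_mul, map_mul, map_mul, tri.eq hA, tri.eq hB, tri.eq p1, tri.eq p2, tri.eq p3]
        exact ptv_line hK hA.2 hB.2 hAB hw)
    have e1 : A + B = A + (1 : K) • B := by rw [one_smul]
    rw [← hk5]
    simp only [g3, ← ex, ← e1, List.prod_cons, List.prod_nil, mul_one, mul_assoc]
  -- members of the three
  have key : ∀ s t x, x ∈ [(1 : K), w, w ^ 2] → σ x (s + x * t) = σu s + x * σv t := by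
    intro s t x hx
    have hmem : ∀ s t : K, ∀ y ∈ [g3 s t 1, g3 s t w, g3 s t (w ^ 2)],
        ∃ x, y = g3 s t x := by
      intro s t y hy
      simp only [List.mem_cons, List.not_mem_nil, or_false] at hy
      rcases hy with rfl | rfl | rfl <;> exact ⟨_, rfl⟩
    have hmw : ∀ s t x, g3 s t x ∈ (W x).1 := fun s t x => (PW x).mem _
    have disj : ∀ {x y : K} {g : G}, g ∈ (W x).1 → g ∈ (W y).1 → x = y := fun h1 h2 =>
      Winj _ _ (Subtype.ext ((W _).2.eq_of_mem htt hind (W _).2 h1 h2))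
    have triple : ∀ s t, [g3 s t 1, g3 s t w, g3 s t (w ^ 2)].Nodup ∧
        (∀ y ∈ [g3 s t 1, g3 s t w, g3 s t (w ^ 2)], y ∈ D) ∧
        ∀ y ∈ [g3 s t 1, g3 s t w, g3 s t (w ^ 2)], ∀ y' ∈ [g3 s t 1, g3 s t w, g3 s t (w ^ 2)],
          Commute y y' := by
      intro s t
      have ne : ∀ {x y : K}, x ≠ y → g3 s t x ≠ g3 s t y := fun hxy e =>
        hxy (disj (hmw s t _) (e ▸ hmw s t _))
      refine ⟨by simp [ne hw1.symm, ne hwsq1.symm, ne hwsqw], fun y hy => ?_, fun y hy y' hy' => ?_⟩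
      · obtain ⟨x, rfl⟩ := hmem s t y hy
        exact (W x).2.mem (hmw s t x)
      · obtain ⟨x1, rfl⟩ := hmem s t y hy
        obtain ⟨x2, rfl⟩ := hmem s t y' hy'
        refine (tri.sp.comm ((PW x1).pt _) ((PW x2).pt _)).mpr ?_
        simp [hb_add_left, hb_add_right hK, hb_smul_left, hb_smul_right, hu.2, hv.2, huv, huZ, hvZ,
          hZ.2, (hb_eq_zero_comm hK).mp huv, (hb_eq_zero_comm hK).mp huZ, (hb_eq_zero_comm hK).mp hvZ]
    obtain ⟨n1, n2, n3⟩ := triple s t
    obtain ⟨m1, m2, m3⟩ := triple (σu s) (σv t)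
    let cj := (MulAut.conj k).toMonoidHom
    have hprod : ([g3 s t 1, g3 s t w, g3 s t (w ^ 2)].map cj).prod =
        [g3 (σu s) (σv t) 1, g3 (σu s) (σv t) w, g3 (σu s) (σv t) (w ^ 2)].prod := by
      have l1 := congrArg cj (line s t)
      rw [map_mul, map_mul, map_mul, map_mul,
        show cj (a * b * c) = a * b * c from habc, ← line (σu s) (σv t),
        show cj (tri.sp.pt (u + s • Z)) = tri.sp.pt (u + σu s • Z) from hσu s,
        show cj (tri.sp.pt (v + t • Z)) = tri.sp.pt (v + σv t • Z) from hσv t] at l1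
      simp only [mul_assoc] at l1
      have := mul_left_cancel (mul_left_cancel l1)
      simpa [mul_assoc] using this
    have hu3 := unique_factor htt (hind.mono (by norm_num)) 3 le_rfl _
      ([g3 s t 1, g3 s t w, g3 s t (w ^ 2)].map cj)
      [g3 (σu s) (σv t) 1, g3 (σu s) (σv t) w, g3 (σu s) (σv t) (w ^ 2)]
      ⟨n1.map (MulAut.conj k).injective, by simp, fun y hy => by
          obtain ⟨r, hr, rfl⟩ := List.mem_map.mp hy
          exact htt.conj_mem k r (n2 r hr), fun y hy y' hy' => by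
          obtain ⟨r, hr, rfl⟩ := List.mem_map.mp hy
          obtain ⟨r', hr', rfl⟩ := List.mem_map.mp hy'
          exact (n3 r hr r' hr').map cj, hprod⟩
      ⟨m1, rfl, m2, m3, rfl⟩ (cj (g3 s t x))
    have hin := hu3.mp (List.mem_map_of_mem (by simp at hx ⊢; rcases hx with rfl | rfl | rfl <;> simp))
    obtain ⟨y, hy⟩ := hmem _ _ _ hin
    have hcj : cj (g3 s t x) = tri.sp.pt (u + x • v + σ x (s + x * t) • Z) := hσ x _
    rw [hcj] at hy
    have hyx : x = y := disj ((PW x).mem _) (hy ▸ hmw _ _ y)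
    rw [← hyx] at hy
    exact (PW x).inj _ _ hy
  -- the affine shape
  have rel : ∀ s t x, x ∈ [(1 : K), w, w ^ 2] → σu (s + x * t) + x * σv 0 = σu s + x * σv t := by
    intro s t x hx
    rw [← key s t x hx, ← key (s + x * t) 0 x hx, mul_zero, add_zero]
  have hA : ∀ t, σu t + σu 0 = σv t + σv 0 := fun t => by
    have := rel 0 t 1 (by simp)
    rw [zero_add, one_mul, one_mul, one_mul] at this
    have h2 := two_zero hK
    linear_combination this + (σu 0 - σv 0) * h2
  have hlin : ∀ s, σu s = (σu 1 + σu 0) * s + σu 0 := by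
    intro s
    by_cases hs : s = 0
    · rw [hs, mul_zero, zero_add]
    have := rel 0 1 s (nonzero_cases hK hw hs)
    rw [zero_add, mul_one] at this
    have h2 := two_zero hK
    have h1 := hA 1
    linear_combination this - s * h1 - (s * σv 0) * h2
  have σinj : Function.Injective σu := fun s t e => PU.inj s t (by
    have := (hσu s).trans ((congrArg (fun r => tri.sp.pt (u + r • Z)) e).trans (hσu t).symm)
    exact mul_left_cancel (mul_right_cancel this))
  have hm : σu 1 + σu 0 ≠ 0 := fun e0 => by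
    have := σinj (a₁ := 1) (a₂ := 0) ((add_eq_zero_iff_eq' hK).mp e0)
    exact one_ne_zero this
  let κ : Fin 4 ≃ K := (Fintype.equivFinOfCardEq hK).symm
  let en : Fin 4 → G := fun i => tri.sp.pt (u + κ i • Z)
  have hen : Enum U en := Enum.of_inj (fun i j e => κ.injective (PU.inj _ _ e)) fun i => PU.mem _
  obtain ⟨π, hπ⟩ := hen.exists_ind (k := k) (hfix U)
  refine ⟨U, eU ▸ he.mem 0, en, π, hen, hπ, sign_affine (hK := hK) κ π _ (σu 0) hm fun i => ?_⟩
  rw [← hlin]
  exact PU.inj _ _ ((hπ i).symm.trans (hσu (κ i)))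

end Cfsg.Agent.H49.Tetrad
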