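import Cfsg.Agent.H49.Tetrad.Centre
import Cfsg.Agent.H92.QuotLarge
import Cfsg.Agent.H64.M24Triple.Derived

/-!
The elements that are translations on every tetrad: an extraspecial normal subgroup of order `2^13`,
generated by the pairs of members of the tetrads, of index three in the kernel on the tetrads.
-/

set_option autoImplicit false

namespace Cfsg.Agent.H49.Tetrad

open Cfsg.Agent.H93

variable {G : Type*} [Group G] [Finite G] {D : Set G} {z : G}

/-- the translations, as a subgroup -/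
def tlGrp : Subgroup (Equiv.Perm (Fin 4)) where
  carrier := {σ | IsTl σ}
  one_mem' := ⟨0, Equiv.ext fun i => (show xo 0 i = i by rw [xo_comm, xo_zero]).symm⟩
  mul_mem' := isTl_mul
  inv_mem' := isTl_inv

theorem card_tlGrp : Nat.card tlGrp = 4 := by
  have e : (tlGrp : Set (Equiv.Perm (Fin 4))) = Set.range tl := Set.ext fun σ =>
    ⟨fun ⟨c, hc⟩ => ⟨c, hc.symm⟩, fun ⟨c, hc⟩ => ⟨c, hc.symm⟩⟩
  have hinj : Function.Injective tl := fun a b h => by
    have := DFunLike.congr_fun h 0
    change xo a 0 = xo b 0 at this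
    rwa [xo_zero, xo_zero] at this
  show Nat.card ↥(tlGrp : Set (Equiv.Perm (Fin 4))) = 4
  rw [e, Nat.card_range_of_injective hinj, Nat.card_fin]

theorem tl_comm (a b : Fin 4) : tl a * tl b = tl b * tl a := by rw [tl_mul, tl_mul, xo_comm]

theorem tlGrp_le : tlGrp ≤ alternatingGroup (Fin 4) := fun _ hσ =>
  Equiv.Perm.mem_alternatingGroup.mpr ((isTl_iff _).mp hσ).1

theorem card_alt : Nat.card (alternatingGroup (Fin 4)) = 12 := by
  rw [nat_card_alternatingGroup, Nat.card_fin]; rfl

variable (h : H61.M24.Geo24 D)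

omit [Finite G] in
/-- elements fixing all tetrads that are translations on each -/
def qt : Subgroup ↥(Subgroup.centralizer ({z} : Set G)) where
  carrier := {k | k ∈ (act h.data.core.tt (D := D)).ker ∧ ∀ T : Tet D z, Tr (k : G) T}
  one_mem' := ⟨one_mem _, fun T => by
    obtain ⟨u, hu⟩ := exists_enum' T
    exact ⟨u, 1, hu, Ind.one u, tlGrp.one_mem⟩⟩
  mul_mem' := by
    rintro k l ⟨hk, hk'⟩ ⟨hl, hl'⟩
    refine ⟨mul_mem hk hl, fun T => ?_⟩
    obtain ⟨u, σ, hu, hσ, hσ'⟩ := hk' T
    obtain ⟨u', τ', hu', hτ', hτ''⟩ := hl' T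
    obtain ⟨τ, hτ⟩ := hu.exists_ind (k := (l : G)) fun y hy => by
      have := act_mem (g := l) h.data.core.tt hy
      rwa [MonoidHom.mem_ker.mp hl] at this
    exact ⟨u, σ * τ, hu, hσ.mul hτ, isTl_mul hσ' ((hl' T).isTl hu hτ)⟩
  inv_mem' := by
    rintro k ⟨hk, hk'⟩
    refine ⟨inv_mem hk, fun T => ?_⟩
    obtain ⟨u, σ, hu, hσ, hσ'⟩ := hk' T
    exact ⟨u, σ⁻¹, hu, hσ.inv, isTl_inv hσ'⟩

omit [Finite G] in
theorem mem_qt {k : ↥(Subgroup.centralizer ({z} : Set G))} :
    k ∈ qt h ↔ k ∈ (act h.data.core.tt (D := D)).ker ∧ ∀ T : Tet D z, Tr (k : G) T := Iff.rfl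

omit [Finite G] in
theorem qt_normal : (qt h (z := z)).Normal := by
  refine ⟨fun k hk g => ?_⟩
  obtain ⟨hk1, hk2⟩ := hk
  refine ⟨(MonoidHom.normal_ker _).conj_mem k hk1 g, fun T => ?_⟩
  obtain ⟨u, σ, hu, hσ, hσ'⟩ := hk2 (act h.data.core.tt g⁻¹ T)
  refine ⟨fun i => (g : G) * u i * (g : G)⁻¹, σ, Enum.of_inj (fun i j e => hu.inj ?_) (fun i => ?_),
    fun i => ?_, hσ'⟩
  · exact mul_left_cancel (mul_right_cancel e)
  · have := act_mem (g := g) h.data.core.tt (hu.mem i)
    rwa [← Equiv.Perm.mul_apply, ← map_mul, mul_inv_cancel, map_one] at this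
  · show ((g * k * g⁻¹ : ↥(Subgroup.centralizer ({z} : Set G))) : G) * _ * _ = _
    simp only [Subgroup.coe_mul, Subgroup.coe_inv]
    rw [← hσ i]
    group

theorem pair_mem_qt (U : Tet D z) {x y : G} (hx : x ∈ U.1) (hy : y ∈ U.1) :
    memC U hx * memC U hy ∈ qt h :=
  ⟨pair_mem_ker h U hx hy, pair_tr h U hx hy⟩

/-- the pairs -/
def pairC (D : Set G) (z : G) : Set ↥(Subgroup.centralizer ({z} : Set G)) :=
  {p | ∃ (U : Tet D z) (x y : G) (hx : x ∈ U.1) (hy : y ∈ U.1), p = memC U hx * memC U hy}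

/-- the product as an element of its centraliser -/
def zC (z : G) : ↥(Subgroup.centralizer ({z} : Set G)) :=
  ⟨z, Subgroup.mem_centralizer_singleton_iff.mpr rfl⟩

section Base

variable {a b c d : G} (q : Quad D z a b c d)

include h q

theorem zC_mem_qt : zC z ∈ qt h := by
  have ha : a ∈ (⟨qset a b c d, q.tetrad⟩ : Tet D z).1 := by simp [qset]
  have hb' : b ∈ (⟨qset a b c d, q.tetrad⟩ : Tet D z).1 := by simp [qset]
  have hc : c ∈ (⟨qset a b c d, q.tetrad⟩ : Tet D z).1 := by simp [qset]
  have hd : d ∈ (⟨qset a b c d, q.tetrad⟩ : Tet D z).1 := by simp [qset]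
  have e : zC z = memC _ ha * memC _ hb' * (memC _ hc * memC _ hd) := Subtype.ext (by
    show z = a * b * (c * d)
    rw [← q.prod]; simp [mul_assoc])
  rw [e]
  exact mul_mem (pair_mem_qt h _ ha hb') (pair_mem_qt h _ hc hd)

/-- elements of the centraliser fixing each member commuting with the product -/
theorem eq_one_or_zC {k : ↥(Subgroup.centralizer ({z} : Set G))}
    (hk : ∀ (U : Tet D z), ∀ x ∈ U.1, Commute (k : G) x) : k = 1 ∨ k = zC z := by
  rcases eq_one_or_prod h q (x := (k : G)) fun e he hez => by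
      obtain ⟨U, hU, heU⟩ := exists_tetrad h q he hez.symm
      exact hk ⟨U, hU⟩ e heU with e | e
  · exact Or.inl (Subtype.ext e)
  · exact Or.inr (Subtype.ext e)

theorem zC_ne_one : zC z ≠ 1 := fun e => by
  obtain ⟨ht, hd⟩ := q.triple
  refine h.data.ind [a, b, c, d] q.nd (by simp) (by simp) q.mem q.com ?_
  rw [q.prod]
  exact congrArg Subtype.val e

omit h q [Finite G] in
theorem fix_of_ind {k : G} {U : Tet D z} {u : Fin 4 → G} (hu : Enum U u) (h1 : Ind k u 1) :
    ∀ x ∈ U.1, Commute k x := by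
  intro x hx
  obtain ⟨i, rfl⟩ := hu.cover x hx
  exact mul_inv_eq_iff_eq_mul.mp (h1 i)

/-- squares and commutators -/
theorem qt_sq_comm {k l : ↥(Subgroup.centralizer ({z} : Set G))} (hk : k ∈ qt h) (hl : l ∈ qt h) :
    (k * k = 1 ∨ k * k = zC z) ∧
      (k * l * k⁻¹ * l⁻¹ = 1 ∨ k * l * k⁻¹ * l⁻¹ = zC z) := by
  have ind : ∀ U : Tet D z, ∃ u σ τ, Enum U u ∧ Ind (k : G) u σ ∧ Ind (l : G) u τ ∧ IsTl σ ∧ IsTl τ := by
    intro U
    obtain ⟨u, σ, hu, hσ, hσ'⟩ := hk.2 U
    obtain ⟨τ, hτ⟩ := hu.exists_ind (k := (l : G)) fun y hy => mem_ker h hl.1 U hy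
    exact ⟨u, σ, τ, hu, hσ, hτ, hσ', (hl.2 U).isTl hu hτ⟩
  constructor
  · refine eq_one_or_zC h q fun U => ?_
    obtain ⟨u, σ, τ, hu, hσ, -, hσ', -⟩ := ind U
    exact fix_of_ind hu (((isTl_iff σ).mp hσ').2 ▸ hσ.mul hσ)
  · refine eq_one_or_zC h q fun U => ?_
    obtain ⟨u, σ, τ, hu, hσ, hτ, ⟨s, rfl⟩, ⟨t, rfl⟩⟩ := ind U
    have := ((hσ.mul hτ).mul hσ.inv).mul hτ.inv
    rw [tl_comm s t, mul_assoc (tl t), mul_inv_cancel, mul_one, mul_inv_cancel] at this
    exact fix_of_ind hu this

theorem conj_qt {k p : ↥(Subgroup.centralizer ({z} : Set G))} (hk : k ∈ qt h) (hp : p ∈ qt h) :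
    k * p = p * k ∨ k * p = zC z * (p * k) := by
  rcases (qt_sq_comm h q hk hp).2 with e | e
  · left
    rw [mul_inv_eq_one, mul_inv_eq_iff_eq_mul] at e
    exact e
  · right
    rw [mul_inv_eq_iff_eq_mul, mul_inv_eq_iff_eq_mul, mul_assoc] at e
    exact e

omit q [Finite G] in
/-- centralising all pairs forces fixing each member -/
theorem fix_of_pairs {k : ↥(Subgroup.centralizer ({z} : Set G))} (hk : k ∈ qt h)
    (hc : ∀ p ∈ pairC D z, Commute k p) : ∀ (U : Tet D z), ∀ x ∈ U.1, Commute (k : G) x := by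
  intro U
  obtain ⟨u, σ, hu, hσ, ⟨s, rfl⟩⟩ := hk.2 U
  have htt := h.data.core.tt
  have key : ∀ i j : Fin 4, i ≠ j → tl s i = i ∨ tl s i = j := by
    intro i j hij
    have hkp : Commute (k : G) (u i * u j) :=
      congrArg Subtype.val (hc _ ⟨U, u i, u j, hu.mem i, hu.mem j, rfl⟩).eq
    have e : u (tl s i) * u (tl s j) = u i * u j := by
      rw [← hσ, ← hσ]
      calc (k : G) * u i * (k : G)⁻¹ * ((k : G) * u j * (k : G)⁻¹) = k * (u i * u j) * (k : G)⁻¹ := by
            group
        _ = _ := mul_inv_eq_iff_eq_mul.mpr hkp.eq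
    have mk : ∀ i j, i ≠ j → [u i, u j].Nodup ∧ [u i, u j].length = 2 ∧
        (∀ a ∈ [u i, u j], a ∈ D) ∧ ∀ a ∈ [u i, u j], ∀ b ∈ [u i, u j], Commute a b := by
      intro i j hij
      have hm : ∀ a ∈ [u i, u j], a ∈ U.1 := by
        intro a ha
        simp only [List.mem_cons, List.not_mem_nil, or_false] at ha
        rcases ha with rfl | rfl <;> exact hu.mem _
      exact ⟨by simpa using hu.inj.ne hij, rfl, fun a ha => U.2.mem (hm a ha),
        fun a ha b hb => U.2.com (hm a ha) (hm b hb)⟩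
    obtain ⟨a1, a2, a3, a4⟩ := mk _ _ ((tl s).injective.ne hij)
    obtain ⟨b1, b2, b3, b4⟩ := mk _ _ hij
    have := (unique_factor htt (h.data.ind.mono (by norm_num)) 2 (by norm_num) (u i * u j)
      [u (tl s i), u (tl s j)] [u i, u j] ⟨a1, a2, a3, a4, by simpa using e⟩
      ⟨b1, b2, b3, b4, by simp⟩ (u (tl s i))).mp (by simp)
    simp only [List.mem_cons, List.not_mem_nil, or_false] at this
    exact this.imp (fun e => hu.inj e) (fun e => hu.inj e)
  have hs : s = 0 := by
    have h1 := key 0 1 (by decide)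
    have h2 := key 0 2 (by decide)
    change xo s 0 = 0 ∨ xo s 0 = 1 at h1
    change xo s 0 = 0 ∨ xo s 0 = 2 at h2
    rw [xo_zero] at h1 h2
    rcases h1 with e | e
    · exact e
    · rcases h2 with e' | e'
      · exact e'
      · rw [e] at e'; exact absurd e' (by decide)
  subst hs
  refine fix_of_ind hu ?_
  rwa [show tl (0 : Fin 4) = 1 from Equiv.ext fun i => by
    show xo 0 i = i; rw [xo_comm, xo_zero]] at hσ

/-- the orders -/
theorem card_qt {φ : Fin 126 ≃ Tet D z} (fr : Frame h a b c d φ) :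
    Nat.card (qt h (z := z)) = 8192 ∧ Nat.card (act h.data.core.tt (D := D) (z := z)).ker = 24576 := by
  classical
  obtain ⟨-, -, hK, hA4⟩ := orders h q fr
  rw [Frame.tab_ker φ] at hK hA4
  refine ⟨?_, hK⟩
  set K := (act h.data.core.tt (D := D) (z := z)).ker
  have hu := exists_base_enum q
  set u := ![a, b, c, d]
  choose σ hσ using fun k : K => hu.exists_ind (k := ((k : _) : G)) fun y hy => mem_ker h k.2 _ hy
  let ρ : K →* Equiv.Perm (Fin 4) := MonoidHom.mk' σ fun k l =>
    hu.ind_unique (hσ (k * l)) ((hσ k).mul (hσ l))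
  have hr : ρ.range = alternatingGroup (Fin 4) := by
    refine le_antisymm ?_ fun π hπ => ?_
    · rintro _ ⟨k, rfl⟩
      exact Equiv.Perm.mem_alternatingGroup.mpr ((even_all h k.2 _).sign hu (hσ k))
    · obtain ⟨k, hk, hk'⟩ := hA4 π (Equiv.Perm.mem_alternatingGroup.mp hπ)
      exact ⟨⟨k, hk⟩, hu.ind_unique (hσ ⟨k, hk⟩) hk'⟩
  have e1 := ρ.ker.card_mul_index
  rw [Subgroup.index_ker, hr, card_alt, hK] at e1
  have hker : Nat.card ρ.ker = 2048 := by omega
  have hQ : (qt h (z := z)).subgroupOf K = tlGrp.comap ρ := by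
    ext k
    rw [Subgroup.mem_subgroupOf, Subgroup.mem_comap]
    constructor
    · exact fun hk => (hk.2 _).isTl hu (hσ k)
    · exact fun hk => ⟨k.2, fun T => ((uniform h (fun V y hy => mem_ker h k.2 V hy) _ T).2).mp
        ⟨u, _, hu, hσ k, hk⟩⟩
  have hle : qt h (z := z) ≤ K := fun k hk => hk.1
  rw [← Nat.card_congr (Subgroup.subgroupOfEquivOfLe hle).toEquiv, hQ]
  let τ := ρ.comp (tlGrp.comap ρ).subtype
  have hτr : τ.range = tlGrp := by
    rw [MonoidHom.range_comp, Subgroup.range_subtype, Subgroup.map_comap_eq, hr,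
      inf_eq_right.mpr tlGrp_le]
  have hτk : Nat.card τ.ker = Nat.card ρ.ker := by
    have hle' : ρ.ker ≤ tlGrp.comap ρ := fun k hk => by
      rw [Subgroup.mem_comap, MonoidHom.mem_ker.mp hk]; exact one_mem _
    exact Nat.card_congr (Subgroup.subgroupOfEquivOfLe hle').toEquiv
  rw [← τ.ker.card_mul_index, Subgroup.index_ker, hτr, hτk, hker, card_tlGrp]

/-- the pairs and the product generate -/
theorem qt_eq_closure {φ : Fin 126 ≃ Tet D z} (fr : Frame h a b c d φ) :
    qt h = Subgroup.closure (insert (zC z) (pairC D z)) := by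
  classical
  obtain ⟨hcard, -⟩ := card_qt h q fr
  set Q := qt h (z := z)
  have hz : zC z ∈ Q := zC_mem_qt h q
  have hzc : ∀ g : ↥(Subgroup.centralizer ({z} : Set G)), g * zC z = zC z * g := fun g =>
    Subtype.ext (commute_cz g).eq
  have hsub : ∀ p ∈ pairC D z, p ∈ Q := by
    rintro _ ⟨U, x, y, hx, hy, rfl⟩
    exact pair_mem_qt h U hx hy
  have key : ∀ s : Finset ↥(Subgroup.centralizer ({z} : Set G)), ↑s ⊆ pairC D z →
      Nat.card Q * 2 ≤ Nat.card ↥(Q ⊓ Subgroup.centralizer (s : Set _)) *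
        Nat.card ↥(Subgroup.closure (insert (zC z) (s : Set _))) := by
    intro s
    induction s using Finset.induction_on with
    | empty =>
      intro _
      rw [Finset.coe_empty, Subgroup.centralizer_eq_top_iff_subset.mpr (Set.empty_subset _), inf_top_eq,
        LawfulSingleton.insert_empty_eq, ← Subgroup.zpowers_eq_closure, Nat.card_zpowers,
        orderOf_eq_prime (p := 2) (x := zC z) (by rw [pow_two]; exact Subtype.ext (q.sq h.data.core.tt))
          (zC_ne_one h q)]
    | insert p s hps ih =>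
      intro hs
      rw [Finset.coe_insert, Set.insert_subset_iff] at hs
      have hp := hsub p hs.1
      have ih' := ih hs.2
      set P := Subgroup.closure (insert (zC z) (s : Set _))
      set P' := Subgroup.closure (insert (zC z) (↑(insert p s) : Set _))
      set Cs := Q ⊓ Subgroup.centralizer (s : Set ↥(Subgroup.centralizer ({z} : Set G)))
      set Cs' := Q ⊓ Subgroup.centralizer (↑(insert p s) : Set ↥(Subgroup.centralizer ({z} : Set G)))
      have hPP : P ≤ P' := Subgroup.closure_mono (by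
        rw [Finset.coe_insert]; exact Set.insert_subset_insert (Set.subset_insert _ _))
      by_cases hpP : p ∈ P
      · have hC : Cs' = Cs := by
          refine le_antisymm (inf_le_inf_left _ (Subgroup.centralizer_le (by simp))) ?_
          rintro g ⟨hg1, hg2⟩
          refine ⟨hg1, ?_⟩
          have hle : P ≤ Subgroup.centralizer {g} := (Subgroup.closure_le _).mpr (by
            rintro y (rfl | hy)
            · exact Subgroup.mem_centralizer_singleton_iff.mpr (hzc g).symm
            · exact Subgroup.mem_centralizer_singleton_iff.mpr (hg2 y hy))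
          rw [Finset.coe_insert]
          rintro y (rfl | hy)
          · exact Subgroup.mem_centralizer_singleton_iff.mp (hle hpP)
          · exact hg2 y hy
        rw [hC]
        exact ih'.trans (Nat.mul_le_mul_left _ (Nat.card_mono (Set.toFinite _) hPP))
      · have hpP' : p ∈ P' := Subgroup.subset_closure (by simp)
        have h2 : 2 * Nat.card P ≤ Nat.card P' := by
          have e := (P.subgroupOf P').card_mul_index
          rw [Nat.card_congr (Subgroup.subgroupOfEquivOfLe hPP).toEquiv] at e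
          have hne : (P.subgroupOf P').index ≠ 1 := fun e1 =>
            hpP (Subgroup.mem_subgroupOf.mp (Subgroup.index_eq_one.mp e1 ▸ Subgroup.mem_top
              (⟨p, hpP'⟩ : P')))
          have h0 := Subgroup.index_ne_zero_of_finite (H := P.subgroupOf P')
          rw [← e, mul_comm 2]
          exact Nat.mul_le_mul_left _ (by omega)
        have h3 : Nat.card Cs ≤ 2 * Nat.card Cs' := by
          by_cases hex : ∀ g ∈ Cs, g ∈ Cs'
          · exact (Nat.card_mono (Set.toFinite _) hex).trans (Nat.le_mul_of_pos_left _ two_pos)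
          simp only [not_forall] at hex
          obtain ⟨g0, hg0, hg0'⟩ := hex
          have mem' : ∀ g ∈ Cs, (g * p = p * g) → g ∈ Cs' := fun g hg e => ⟨hg.1, by
            rw [Finset.coe_insert]
            rintro y (rfl | hy)
            · exact e.symm
            · exact hg.2 y hy⟩
          have hflip : ∀ g ∈ Cs, g ∉ Cs' → g * p = zC z * (p * g) := fun g hg hn =>
            (conj_qt h q hg.1 hp).resolve_left fun e => hn (mem' g hg e)
          have e0 : g0⁻¹ * p = zC z * (p * g0⁻¹) := by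
            have e := hflip g0 hg0 hg0'
            have zz : zC z * zC z = 1 := Subtype.ext (q.sq h.data.core.tt)
            calc g0⁻¹ * p = (g0⁻¹ * (zC z * zC z)) * (p * g0) * g0⁻¹ := by rw [zz]; group
              _ = g0⁻¹ * zC z * (g0 * p) * g0⁻¹ := by rw [e]; group
              _ = _ := by rw [hzc g0⁻¹]; group
          have hrep : ∀ g : Cs, ∃ j : Bool, (cond j g0⁻¹ 1) * g.1 ∈ Cs' := by
            intro g
            by_cases hg : g.1 ∈ Cs'
            · exact ⟨false, by simpa using hg⟩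
            · refine ⟨true, mem' _ (mul_mem (inv_mem hg0) g.2) ?_⟩
              show g0⁻¹ * g.1 * p = p * (g0⁻¹ * g.1)
              have zz : zC z * zC z = 1 := Subtype.ext (q.sq h.data.core.tt)
              calc g0⁻¹ * g.1 * p = g0⁻¹ * (g.1 * p) := mul_assoc _ _ _
                _ = g0⁻¹ * (zC z * (p * g.1)) := by rw [hflip g.1 g.2 hg]
                _ = zC z * (g0⁻¹ * p) * g.1 := by rw [← mul_assoc g0⁻¹, hzc g0⁻¹]; group
                _ = (zC z * zC z) * (p * (g0⁻¹ * g.1)) := by rw [e0]; group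
                _ = _ := by rw [zz, one_mul]
          choose j hj using hrep
          refine le_trans (Nat.card_le_card_of_injective (β := Bool × Cs') (fun g => (j g, ⟨_, hj g⟩))
            fun g g' e => ?_) ?_
          · have e1 : j g = j g' := congrArg Prod.fst e
            have e2 : cond (j g) g0⁻¹ 1 * g.1 = cond (j g') g0⁻¹ 1 * g'.1 :=
              congrArg (fun x => x.2.1) e
            rw [e1] at e2
            exact Subtype.ext (mul_left_cancel e2)
          · rw [Nat.card_prod, Nat.card_eq_fintype_card, Fintype.card_bool]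
        calc Nat.card Q * 2 ≤ Nat.card Cs * Nat.card P := ih'
          _ ≤ 2 * Nat.card Cs' * Nat.card P := Nat.mul_le_mul_right _ h3
          _ = Nat.card Cs' * (2 * Nat.card P) := by ring
          _ ≤ _ := Nat.mul_le_mul_left _ h2
  have hfin := key (Set.toFinite (pairC D z)).toFinset (by simp)
  rw [Set.Finite.coe_toFinset] at hfin
  have hC2 : Nat.card ↥(Q ⊓ Subgroup.centralizer (pairC D z)) ≤ 2 := by
    have hsub2 : ((Q ⊓ Subgroup.centralizer (pairC D z) : Subgroup _) : Set _) ⊆ {1, zC z} := by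
      rintro g ⟨hg1, hg2⟩
      exact eq_one_or_zC h q (fix_of_pairs h hg1 fun p hp => (hg2 p hp).symm)
    calc _ = ((Q ⊓ Subgroup.centralizer (pairC D z) : Subgroup _) : Set _).ncard :=
          (Nat.card_coe_set_eq _)
      _ ≤ ({1, zC z} : Set _).ncard := Set.ncard_le_ncard hsub2
      _ = 2 := Set.ncard_pair (zC_ne_one h q).symm
  refine (Subgroup.eq_of_le_of_card_ge ((Subgroup.closure_le _).mpr ?_) ?_).symm
  · rintro p (rfl | hp)
    exacts [hz, hsub p hp]
  · have := hfin.trans (Nat.mul_le_mul_right _ hC2)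
    omega

/-- the subgroup is extraspecial -/
theorem qt_extraspecial {φ : Fin 126 ≃ Tet D z} (fr : Frame h a b c d φ) :
    Cfsg.IsExtraspecial 2 ↥(qt h (z := z)) := by
  obtain ⟨hcard, -⟩ := card_qt h q fr
  refine H92.isExtraspecial_of_center_two (IsPGroup.of_card (n := 13) (by rw [hcard]; norm_num))
    (ζ := ⟨zC z, zC_mem_qt h q⟩) (fun e => zC_ne_one h q (congrArg Subtype.val e :))
    (fun y => Subtype.ext (Subtype.ext (commute_cz y.1).eq)) (fun x hx => ?_)
    (fun x y => (qt_sq_comm h q x.2 y.2).2.imp (fun e => Subtype.ext e) (fun e => Subtype.ext e))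
    (fun x => (qt_sq_comm h q x.2 x.2).1.imp (fun e => Subtype.ext e) (fun e => Subtype.ext e))
    (by rw [hcard]; norm_num)
  refine (eq_one_or_zC h q (fix_of_pairs h x.2 fun p hp => ?_)).imp (fun e => Subtype.ext e)
    (fun e => Subtype.ext e)
  have hpQ : p ∈ qt h := by
    rw [qt_eq_closure h q fr]; exact Subgroup.subset_closure (Set.mem_insert_of_mem _ hp)
  exact (congrArg Subtype.val (hx ⟨p, hpQ⟩) :).symm

/-- the kernel on the tetrads lies in the derived group -/
theorem ker_le_derived {φ : Fin 126 ≃ Tet D z} (fr : Frame h a b c d φ)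
    (hidx : (commutator G).index = 2) :
    ∀ k ∈ (act h.data.core.tt (D := D) (z := z)).ker, (k : G) ∈ commutator G := by
  classical
  intro k hk
  obtain ⟨hcard, hK⟩ := card_qt h q fr
  have hsq : ∀ g : G, g * g ∈ commutator G := fun g => Subgroup.mul_self_mem_of_index_two hidx g
  have hQL : ∀ p ∈ qt h, ((p : ↥(Subgroup.centralizer ({z} : Set G))) : G) ∈ commutator G := by
    intro p hp
    rw [qt_eq_closure h q fr] at hp
    have hle : Subgroup.closure (insert (zC z) (pairC D z)) ≤
        (commutator G).comap (Subgroup.centralizer ({z} : Set G)).subtype := by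
      refine (Subgroup.closure_le _).mpr ?_
      have pl : ∀ (U : Tet D z) {x y : G}, x ∈ U.1 → y ∈ U.1 → x * y ∈ commutator G := fun U x y hx hy =>
        (hyp h).mul_mem_commutator (U.2.mem hy) (U.2.mem hx)
      rintro _ (rfl | ⟨U, x, y, hx, hy, rfl⟩)
      · show z ∈ commutator G
        rw [← q.prod, show [a, b, c, d].prod = a * b * (c * d) by simp [mul_assoc]]
        exact mul_mem (pl ⟨_, q.tetrad⟩ (by simp [qset]) (by simp [qset]))
          (pl ⟨_, q.tetrad⟩ (by simp [qset]) (by simp [qset]))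
      · exact pl U hx hy
    exact hle hp
  have hle : qt h (z := z) ≤ (act h.data.core.tt (D := D)).ker := fun p hp => hp.1
  have h3 : ((qt h (z := z)).subgroupOf (act h.data.core.tt (D := D)).ker).index = 3 := by
    have e := ((qt h (z := z)).subgroupOf (act h.data.core.tt (D := D)).ker).card_mul_index
    rw [Nat.card_congr (Subgroup.subgroupOfEquivOfLe hle).toEquiv, hcard, hK] at e
    omega
  haveI := (qt_normal h (z := z)).subgroupOf (act h.data.core.tt (D := D)).ker
  have hc := Subgroup.pow_index_mem ((qt h (z := z)).subgroupOf (act h.data.core.tt (D := D)).ker)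
    (⟨k, hk⟩ : (act h.data.core.tt (D := D)).ker)
  rw [h3, Subgroup.mem_subgroupOf] at hc
  have hc' := hQL _ hc
  simp only [SubmonoidClass.coe_pow] at hc'
  have : (k : G) = (k : G) ^ 3 * ((k : G) * (k : G))⁻¹ := by group
  rw [this]
  exact mul_mem hc' (inv_mem (hsq _))

end Base

end Cfsg.Agent.H49.Tetrad
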