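import Cfsg.Agent.H93.U4Points
import Cfsg.Agent.H49.Tetrad.Tables45

/-!
The orthogonality graph of the forty five points: third points, transitivity on points and on far
pairs, and the eighteen point sets that can be the common neighbours of a far pair of tetrads.
-/

set_option autoImplicit false
set_option maxRecDepth 20000
set_option synthInstance.maxSize 2000

namespace Cfsg.Agent.H49.Tetrad

open Cfsg.Agent.H93

/-- adjacency, tabulated -/
def qA (i j : Fin 45) : Bool := (qMasks.getD i.1 0).testBit j.1

/-- the third point, tabulated -/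
def qT (i j : Fin 45) : Fin 45 :=
  ⟨((qThirds.getD i.1 0) >>> (6 * j.1) &&& 63) % 45, Nat.mod_lt _ (by decide)⟩

/-- the action of a word of third-point maps, the last letter first -/
def qWord : List (Fin 45) → Fin 45 → Fin 45
  | [], j => j
  | i :: l, j => qT i (qWord l j)

theorem qA_eq : ∀ i j, qAdj i j = qA i j := by decide +kernel

theorem qA_symm : ∀ i j, qA i j = qA j i := by decide +kernel

theorem qA_irrefl : ∀ i, qA i i = false := by decide +kernel

theorem qT_fix : ∀ i j, i = j ∨ qA i j = true → qT i j = j := by decide +kernel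

theorem qT_unique : ∀ i j k, i ≠ j → qA i j = false → k ≠ i → k ≠ j →
    ((qMasks.getD i.1 0 &&& qMasks.getD j.1 0) &&& qMasks.getD k.1 0 =
      qMasks.getD i.1 0 &&& qMasks.getD j.1 0) → k = qT i j := by decide +kernel

theorem qT_spec : ∀ i j, i ≠ j → qA i j = false →
    qT i j ≠ i ∧ qT i j ≠ j ∧
      (qMasks.getD i.1 0 &&& qMasks.getD j.1 0) &&& qMasks.getD (qT i j).1 0 =
        qMasks.getD i.1 0 &&& qMasks.getD j.1 0 := by decide +kernel

theorem qT_invol : ∀ i j, qT i (qT i j) = j := by decide +kernel

theorem qT_aut : ∀ i a b, qA (qT i a) (qT i b) = qA a b := by decide +kernel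

theorem qToZero_spec : ∀ i : Fin 45, qWord (qToZero.getD i.1 []) i = 0 := by decide +kernel

theorem qToPair_spec : ∀ j : Fin 45, j ≠ 0 → qA 0 j = false →
    qWord (qToPair.getD j.1 []) 0 = 0 ∧ qWord (qToPair.getD j.1 []) j = qFar := by decide +kernel

theorem qFar_spec : qFar ≠ 0 ∧ qA 0 qFar = false := by decide +kernel

theorem qA_common : ∀ i j, qA i j = true →
    (Finset.univ.filter fun k => qA i k = true ∧ qA j k = true).card = 3 := by
  intro i j h
  simp only [← qA_eq] at h ⊢
  exact qAdj_common i j h

theorem qA_deg (i : Fin 45) : (Finset.univ.filter fun k => qA i k = true).card = 12 := by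
  simp only [← qA_eq]
  exact qAdj_deg i

/-- far points of a point -/
theorem qA_far : ∀ i : Fin 45, (Finset.univ.filter fun k => k ≠ i ∧ qA i k = false).card = 32 := by
  decide +kernel

/-! ### eighteen point sets -/

/-- two rounds of closing under third points -/
def qCl2 (S : List (Fin 45)) : List (Fin 45) :=
  let S1 := (S.flatMap fun a => S.map (qT a)).eraseDups
  (S1.flatMap fun a => S1.map (qT a)).eraseDups

/-- what is allowed beside a closed component -/
def qRest (C : List (Fin 45)) : List (Fin 45) :=
  (List.finRange 45).filter fun p => C.contains p || C.all fun q => !qA p q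

/-- the mask of a list of points -/
def qMask (l : List (Fin 45)) : ℕ := l.foldl (fun m p => m ||| (1 <<< p.1)) 0

/-- the check for a component through the first point -/
def qCase (x1 x2 u : Fin 45) : Bool :=
  let C := qCl2 [0, x1, x2, u]
  let R := qRest C
  (C.all fun q => (C.countP fun p => qA q p) == 3) &&
    (Nat.blt R.length 18 || (R.length == 18 && qXs.any fun e => e.1 == qMask R))

theorem qCase_all : ∀ x1 x2 : Fin 45, qA 0 x1 = true → qA 0 x2 = true → x1 ≠ x2 →
    qA x1 x2 = false → ∀ u : Fin 45, qA x1 u = true → u ≠ 0 → qA 0 u = false →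
      qCase x1 x2 u = true := by
  decide +kernel

theorem qXs_spec : (qXs.all fun e =>
    qMask (((List.finRange 45).filter fun p => e.1.testBit p.1).map (qWord e.2)) == qX0 &&
      Nat.blt e.1 (2 ^ 45)) = true := by
  decide +kernel

end Cfsg.Agent.H49.Tetrad
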