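import Cfsg.Agent.H49.Tetrad.ChainCheck
import Cfsg.Agent.H49.Tetrad.StabData

/-!
The six maps fixing a tetrad generate a group of order at least 51840.
-/

set_option autoImplicit false
set_option maxRecDepth 100000
set_option Elab.async false

namespace Cfsg.Agent.H49.Tetrad

open Cfsg.Agent.Compute Cfsg.Agent.H95

theorem stb_chain_ok : checkChain (permOps 7 126) stbChain = true := by decide +kernel

theorem stb_order : order stbChain = 51840 := by decide +kernel

theorem stb_slp_ok : PermIso.slpOK 7 126 6 (nextGens stbChain) stbSlp = true := by decide +kernel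

/-- the code of an entry of the program -/
noncomputable def sCode (k : ℕ) : ℕ := (nth ((0, 0), 0, 0) stbSlp k).1.1

theorem stb_gens : allN 6 (fun k => Nat.beq (sCode k) (bCode k)) = true := by decide +kernel

theorem sCode_def (k : ℕ) : (nth ((0, 0), 0, 0) stbSlp k).1.1 = sCode k := rfl

/-- the group of the six maps fixing a tetrad -/
def stb : Subgroup (Equiv.Perm (Fin 126)) :=
  Subgroup.closure (Set.range fun k : Fin 6 => bPerm k.castSucc)

attribute [local irreducible] checkChain PermIso.slpOK bCode sCode packP

theorem card_stb : 51840 ≤ Nat.card stb := by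
  rw [← stb_order, ← (checkChain_sound (permSound 7 126 two_pow_126) stb_chain_ok).card]
  refine Nat.card_mono (Set.toFinite _) ((PermIso.grp_le two_pow_126 stb_slp_ok).trans
    ((Subgroup.closure_le _).2 ?_))
  rintro _ ⟨k, hk, rfl⟩
  have h := (allN_iff _ _).1 stb_gens k hk
  rw [Nat.beq_eq] at h
  rw [sCode_def, h]
  exact Subgroup.subset_closure ⟨⟨k, hk⟩, ((bCode_spec (Fin.castSucc ⟨k, hk⟩)).2).symm⟩

end Cfsg.Agent.H49.Tetrad
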