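import Cfsg.Agent.H49.Tetrad.Parity
import Cfsg.Agent.H49.Tetrad.StabChk
import Cfsg.Agent.H64.M24Triple.Count
import Cfsg.Agent.H61.M24.Three
import Cfsg.Agent.H93.U6NonSplit
import Cfsg.Agent.H93.Invol24

/-!
The centraliser of a product of four commuting members: the image on the tetrads, the kernel and their
orders.
-/

set_option autoImplicit false

namespace Cfsg.Agent.H49.Tetrad

open Cfsg.Agent.H93 Cfsg.Agent.H64.M24Triple

variable {G : Type*} [Group G] [Finite G] {D : Set G} {z : G}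

/-- the centraliser of four members -/
abbrev C4 (a b c d : G) : Subgroup G := C3 a b c ⊓ Subgroup.centralizer ({d} : Set G)

omit [Finite G] in
theorem mem_C4_iff {a b c d g : G} :
    g ∈ C4 a b c d ↔ ∀ x ∈ [a, b, c, d], Commute g x := by
  rw [Subgroup.mem_inf, mem_C3_iff, Subgroup.mem_centralizer_singleton_iff]
  constructor
  · rintro ⟨⟨h1, h2, h3⟩, h4⟩ x hx
    simp only [List.mem_cons, List.not_mem_nil, or_false] at hx
    rcases hx with rfl | rfl | rfl | rfl
    exacts [h1, h2, h3, h4]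
  · exact fun h => ⟨⟨h a (by simp), h b (by simp), h c (by simp)⟩, (h d (by simp)).eq⟩

namespace Quad

variable {a b c d : G} (q : Quad D z a b c d)

include q

omit [Finite G] in
theorem triple : IsTriple D a b c ∧ d ∈ T3 D a b c := by
  have hnd := q.nd
  simp only [List.nodup_cons, List.mem_cons, List.not_mem_nil, or_false, not_or] at hnd
  have mk : ∀ {x y : G}, x ∈ [a, b, c, d] → y ∈ [a, b, c, d] → x ≠ y → y ∈ nb D x :=
    fun hx hy hne => ⟨q.mem _ hy, hne.symm, q.com _ hx _ hy⟩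
  exact ⟨⟨q.mem a (by simp), mk (by simp) (by simp) hnd.1.1, mk (by simp) (by simp) hnd.1.2.1,
    mk (by simp) (by simp) hnd.2.1.1⟩, ⟨mk (by simp) (by simp) hnd.1.2.2,
      mk (by simp) (by simp) hnd.2.1.2⟩, mk (by simp) (by simp) hnd.2.2.1⟩

omit [Finite G] in
theorem C4_le : C4 a b c d ≤ Subgroup.centralizer ({z} : Set G) := fun g hg => by
  refine Subgroup.mem_centralizer_singleton_iff.mpr ?_
  rw [← q.prod]
  exact (Commute.list_prod_right _ _ fun x hx => mem_C4_iff.mp hg x hx).eq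

/-- the order of the centraliser of four members -/
theorem card_C4 (h : H61.M24.Geo24 D) : Nat.card (C4 a b c d) = 106168320 := by
  classical
  obtain ⟨ht, hd⟩ := q.triple
  obtain ⟨K, iK, iKF, hK, ⟨tri⟩⟩ := (hyp h).exists_tri ht
  have htt := h.data.core.tt
  have hker : Nat.card tri.ψ.ker = 8 := by
    rw [← (H61.M24.closure_three htt (h.data.ind.mono (by norm_num)) ht.ha ht.hb
      ⟨ht.hca, ht.hcb⟩).2]
    rw [← Subgroup.card_map_of_injective (f := (C3 a b c).subtype) Subtype.val_injective]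
    congr 1
    refine congrArg (fun S : Subgroup G => (S : Type _)) (Subgroup.ext fun x => ?_)
    constructor
    · rintro ⟨y, hy, rfl⟩
      exact (tri.ker y).mp hy
    · exact fun hx => ⟨⟨x, ht.closure_le hx⟩, (tri.ker _).mpr hx, rfl⟩
  have hC3 : Nat.card (C3 a b c) = 8 * (2 ^ 15 * 280665) := by
    rw [← tri.ψ.ker.card_mul_index, Subgroup.index_ker, MonoidHom.range_eq_top.mpr tri.surj,
      Subgroup.card_top, hker, card_psu_six hK]
  set H := C3 a b c
  set S := (C4 a b c d).subgroupOf H with hS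
  have hinv : ∀ g k : H, (g⁻¹ * k : H) ∈ S ↔
      (g : G) * d * (g : G)⁻¹ = (k : G) * d * (k : G)⁻¹ := by
    intro g k
    have : (g⁻¹ * k : H) ∈ S ↔ ((g : G)⁻¹ * k) * d = d * ((g : G)⁻¹ * k) := by
      rw [hS, Subgroup.mem_subgroupOf, Subgroup.mem_inf]
      simp only [Subgroup.mem_centralizer_singleton_iff, Subgroup.coe_mul, Subgroup.coe_inv]
      exact and_iff_right (mul_mem (inv_mem g.2) k.2)
    rw [this]
    constructor
    · intro e
      calc (g : G) * d * (g : G)⁻¹ = (g : G) * (d * ((g : G)⁻¹ * k)) * (k : G)⁻¹ := by group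
        _ = _ := by rw [← e]; group
    · intro e
      calc (g : G)⁻¹ * k * d = (g : G)⁻¹ * ((k : G) * d * (k : G)⁻¹) * k := by group
        _ = _ := by rw [← e]; group
  have hidx : S.index = 693 := by
    rw [← tri.card_T3, ← Nat.card_coe_set_eq]
    have mem : ∀ g : H, (g : G) * d * (g : G)⁻¹ ∈ T3 D a b c := by
      intro g
      obtain ⟨g1, g2, g3⟩ := mem_C3_iff.mp g.2
      have fix : ∀ {x : G}, Commute (g : G) x → (g : G) * x * (g : G)⁻¹ = x := fun h =>
        mul_inv_eq_iff_eq_mul.mpr h.eq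
      have m : ∀ {x : G}, Commute (g : G) x → d ∈ nb D x → (g : G) * d * (g : G)⁻¹ ∈ nb D x :=
        fun h1 h2 => by
          have := htt.nb_conj (g : G) h2
          rwa [fix h1] at this
      exact ⟨⟨m g1 hd.1.1, m g2 hd.1.2⟩, m g3 hd.2⟩
    refine Nat.card_congr (Equiv.ofBijective (Quotient.lift (fun g : H => (⟨_, mem g⟩ : T3 D a b c))
      fun g k hgk => Subtype.ext ((hinv g k).mp (QuotientGroup.leftRel_apply.mp hgk))) ⟨?_, ?_⟩)
    · intro x y
      induction x using Quotient.inductionOn with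
      | _ g =>
        induction y using Quotient.inductionOn with
        | _ k =>
          intro e
          exact Quotient.sound (QuotientGroup.leftRel_apply.mpr ((hinv g k).mpr (congrArg Subtype.val e :)))
    · rintro ⟨y, hy⟩
      obtain ⟨g, e1, e2, e3, e4⟩ := Upper24.trans4 h.data.core
        (fun x hx => ⟨(h.data.res x hx).2, (h.data.res x hx).1⟩) ht.ha ht.hb ⟨ht.hca, ht.hcb⟩
        (show d ∈ nb D a ∩ nb D b ∩ nb D c from hd) ht.ha ht.hb ⟨ht.hca, ht.hcb⟩
        (show y ∈ nb D a ∩ nb D b ∩ nb D c from hy)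
      exact ⟨Quotient.mk _ ⟨g, mem_C3_iff.mpr ⟨mul_inv_eq_iff_eq_mul.mp e1,
        mul_inv_eq_iff_eq_mul.mp e2, mul_inv_eq_iff_eq_mul.mp e3⟩⟩, Subtype.ext e4⟩
  have := S.card_mul_index
  rw [hidx, hC3, Nat.card_congr (Subgroup.subgroupOfEquivOfLe
    (show C4 a b c d ≤ H from inf_le_left)).toEquiv] at this
  omega

/-- the centraliser of the product is large -/
theorem card_cz_le (h : H61.M24.Geo24 D) :
    321052999680 ≤ Nat.card (Subgroup.centralizer ({z} : Set G)) := by
  classical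
  have htt := h.data.core.tt
  have hind := h.data.ind
  obtain ⟨ht, hd⟩ := q.triple
  let T0 : Tet D z := ⟨qset a b c d, q.tetrad⟩
  choose en hen using fun T : Tet D z => exists_enum' T
  have henp : ∀ (T : Tet D z) (π : Equiv.Perm (Fin 4)), Enum T (en T ∘ π) := fun T π =>
    Enum.of_inj ((hen T).inj.comp π.injective) fun i => (hen T).mem _
  have mv : ∀ (T : Tet D z) (π : Equiv.Perm (Fin 4)), ∃ g : G, Commute g z ∧
      ∀ i, g * ![a, b, c, d] i * g⁻¹ = en T (π i) := by
    intro T π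
    have q' := (henp T π).quad
    obtain ⟨ht', hd'⟩ := q'.triple
    obtain ⟨g, e1, e2, e3, e4⟩ := Upper24.trans4 h.data.core
      (fun x hx => ⟨(h.data.res x hx).2, (h.data.res x hx).1⟩) ht.ha ht.hb ⟨ht.hca, ht.hcb⟩
      (show d ∈ nb D a ∩ nb D b ∩ nb D c from hd) ht'.ha ht'.hb ⟨ht'.hca, ht'.hcb⟩ hd'
    refine ⟨g, mul_inv_eq_iff_eq_mul.mp ?_, fun i => ?_⟩
    · rw [← q.prod]
      conv_rhs => rw [q.prod, ← q'.prod]
      simp only [List.prod_cons, List.prod_nil, mul_one]
      rw [← e1, ← e2, ← e3, ← e4]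
      group
    · fin_cases i
      exacts [e1, e2, e3, e4]
  choose g hgz hg using mv
  let F : Tet D z × Equiv.Perm (Fin 4) × C4 a b c d → Subgroup.centralizer ({z} : Set G) :=
    fun p => ⟨g p.1 p.2.1 * p.2.2, mul_mem (Subgroup.mem_centralizer_singleton_iff.mpr (hgz _ _).eq)
      (q.C4_le p.2.2.2)⟩
  have Finj : Function.Injective F := by
    rintro ⟨T, π, k⟩ ⟨T', π', k'⟩ e
    have e' : g T π * (k : G) = g T' π' * (k' : G) := congrArg Subtype.val e
    have hi : ∀ i, en T (π i) = en T' (π' i) := by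
      intro i
      have hx : ![a, b, c, d] i ∈ [a, b, c, d] := by fin_cases i <;> simp
      have fix : ∀ {k : G}, k ∈ C4 a b c d → k * ![a, b, c, d] i * k⁻¹ = ![a, b, c, d] i := fun hk =>
        mul_inv_eq_iff_eq_mul.mpr (mem_C4_iff.mp hk _ hx).eq
      calc en T (π i) = g T π * ((k : G) * ![a, b, c, d] i * (k : G)⁻¹) * (g T π)⁻¹ := by
            rw [fix k.2, hg]
        _ = (g T π * k) * ![a, b, c, d] i * (g T π * k)⁻¹ := by group
        _ = g T' π' * ((k' : G) * ![a, b, c, d] i * (k' : G)⁻¹) * (g T' π')⁻¹ := by rw [e']; group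
        _ = en T' (π' i) := by rw [fix k'.2, hg]
    have hT : T = T' := Subtype.ext (T.2.eq_of_mem htt hind T'.2 ((hen T).mem _)
      (hi 0 ▸ (hen T').mem _))
    subst hT
    have hπ : π = π' := Equiv.ext fun i => (hen T).inj (hi i)
    subst hπ
    exact Prod.ext rfl (Prod.ext rfl (Subtype.ext (mul_left_cancel e')))
  have := Nat.card_le_card_of_injective F Finj
  rw [Nat.card_prod, Nat.card_prod, card_tet h T0, Nat.card_perm, Nat.card_fin, q.card_C4 h] at this
  norm_num [Nat.factorial] at this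
  exact this

end Quad

/-- numbering the tetrads as the table -/
structure Frame (h : H61.M24.Geo24 D) (a b c d : G) (φ : Fin 126 ≃ Tet D z) : Prop where
  base : (φ 0).1 = qset a b c d
  col : ∀ l : Fin 7, ∃ m : ↥(Subgroup.centralizer ({z} : Set G)), (m : G) ∈ D ∧
    (l.1 < 6 → (m : G) ∈ C4 a b c d) ∧ ∀ i, φ (bPerm l i) = act h.data.core.tt m (φ i)

/-- the action on the table -/
def tab (h : H61.M24.Geo24 D) (φ : Fin 126 ≃ Tet D z) :
    ↥(Subgroup.centralizer ({z} : Set G)) →* Equiv.Perm (Fin 126) :=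
  φ.symm.permCongrHom.toMonoidHom.comp (act h.data.core.tt)

omit [Finite G] in
theorem phi_tab (h : H61.M24.Geo24 D) (φ : Fin 126 ≃ Tet D z)
    (g : ↥(Subgroup.centralizer ({z} : Set G))) (i : Fin 126) :
    φ (tab h φ g i) = act h.data.core.tt g (φ i) := by
  simp [tab, Equiv.permCongrHom, Equiv.permCongr_apply]

theorem exists_frame (h : H61.M24.Geo24 D) {a b c d : G} (q : Quad D z a b c d) :
    ∃ φ : Fin 126 ≃ Tet D z, Frame h a b c d φ := by
  classical
  have htt := h.data.core.tt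
  have hind := h.data.ind
  let T0 : Tet D z := ⟨qset a b c d, q.tetrad⟩
  let M := tspace (z := z) h
  obtain ⟨y, hne, hv⟩ := M.exists_far T0
  obtain ⟨e, he, hX⟩ := M.exists_coords hne hv
  obtain ⟨φ, φ0, -, -, hφ⟩ := M.exists_model he hne hv hX
  refine ⟨φ, by rw [φ0], fun l => ?_⟩
  have mk : ∀ T : Tet D z, M.gen T0 y e l.1 = tetR htt T → ∀ {x : G} (hx : x ∈ T.1),
      ∀ i, φ (bPerm l i) = act htt (memC T hx) (φ i) := fun T hT x hx i => by
    rw [hφ, hT, act_member htt hind]
  by_cases h5 : l.1 < 5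
  · obtain ⟨x, hx⟩ := (e (tabS l.1)).2.nonempty
    exact ⟨memC _ hx, (e _).2.mem hx, fun _ => mem_C4_iff.mpr fun u hu =>
      ((he.mem (tabS l.1)).2 u hu x hx).symm, mk _ (by simp [TSpace.gen, h5, M, tspace]) hx⟩
  by_cases h6 : l.1 = 5
  · have hd : d ∈ T0.1 := by simp [T0, qset]
    exact ⟨memC _ hd, T0.2.mem hd, fun _ => mem_C4_iff.mpr fun u hu => q.com d (by simp) u hu,
      mk _ (by simp [TSpace.gen, h6, M, tspace]) hd⟩
  · obtain ⟨x, hx⟩ := y.2.nonempty
    have hl : l.1 = 6 := by omega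
    exact ⟨memC _ hx, y.2.mem hx, fun k => absurd k (by omega),
      mk _ (by simp [TSpace.gen, hl, M, tspace]) hx⟩

namespace Frame

variable {h : H61.M24.Geo24 D} {a b c d : G} {φ : Fin 126 ≃ Tet D z}

omit [Finite G] in
theorem exists_col (fr : Frame h a b c d φ) (l : Fin 7) :
    ∃ m : ↥(Subgroup.centralizer ({z} : Set G)), (m : G) ∈ D ∧
      (l.1 < 6 → (m : G) ∈ C4 a b c d) ∧ tab h φ m = bPerm l := by
  obtain ⟨m, h1, h2, h3⟩ := fr.col l
  exact ⟨m, h1, h2, Equiv.ext fun i => φ.injective (by rw [phi_tab, h3])⟩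

theorem tab_range_le (φ : Fin 126 ≃ Tet D z) : Nat.card (tab h φ).range ≤ 13063680 := by
  have htt := h.data.core.tt
  have h1 : (act htt (D := D) (z := z)).range ≤ (tspace h).autGrp := by
    rintro _ ⟨g, rfl⟩
    refine ⟨act_adj htt g, fun T => ?_⟩
    obtain ⟨x, hx⟩ := T.2.nonempty
    show tetR htt (act htt g T) = act htt g * tetR htt T * (act htt g)⁻¹
    rw [← act_member htt h.data.ind _ (act_mem htt hx), ← act_member htt h.data.ind T hx,
      ← map_inv, ← map_mul, ← map_mul]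
    rfl
  have h2 : (tab h φ).range = (act htt (D := D) (z := z)).range.map φ.symm.permCongrHom.toMonoidHom :=
    MonoidHom.range_comp _ _
  rw [h2, Subgroup.card_map_of_injective φ.symm.permCongrHom.injective]
  exact (Nat.card_mono (Set.toFinite _) h1).trans ((tspace h).card_autGrp_le (φ 0))

theorem tab_ker (φ : Fin 126 ≃ Tet D z) : (tab h φ).ker = (act h.data.core.tt (D := D)).ker := by
  ext g
  rw [MonoidHom.mem_ker, MonoidHom.mem_ker]
  exact ⟨fun e => φ.symm.permCongrHom.injective (e.trans (map_one _).symm),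
    fun e => by show φ.symm.permCongrHom _ = 1; rw [e, map_one]⟩

end Frame

omit [Finite G] in
theorem exists_base_enum {a b c d : G} (q : Quad D z a b c d) :
    Enum (⟨qset a b c d, q.tetrad⟩ : Tet D z) ![a, b, c, d] := by
  refine Enum.of_inj ?_ fun i => ?_
  · intro i j hij
    have hn := q.nd
    simp only [List.nodup_cons, List.mem_cons, List.not_mem_nil, or_false, not_or] at hn
    fin_cases i <;> fin_cases j <;> simp_all [eq_comm]
  · fin_cases i <;> simp [qset]

/-- all orders, and every even permutation is induced by the kernel -/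
theorem orders (h : H61.M24.Geo24 D) {a b c d : G} (q : Quad D z a b c d) {φ : Fin 126 ≃ Tet D z}
    (fr : Frame h a b c d φ) :
    Nat.card (Subgroup.centralizer ({z} : Set G)) = 321052999680 ∧
      Nat.card (tab h φ).range = 13063680 ∧ Nat.card (tab h φ).ker = 24576 ∧
      ∀ σ : Equiv.Perm (Fin 4), Equiv.Perm.sign σ = 1 →
        ∃ k ∈ (tab h φ).ker, Ind (k : G) ![a, b, c, d] σ := by
  classical
  have htt := h.data.core.tt
  set Cz := Subgroup.centralizer ({z} : Set G)
  set ψ := tab h φ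
  have hker : ψ.ker = (act htt (D := D)).ker := Frame.tab_ker φ
  have hu := exists_base_enum q
  set u := ![a, b, c, d]
  have ex : ∀ k : ψ.ker, ∃ σ, Ind ((k : Cz) : G) u σ := fun k =>
    hu.exists_ind fun y hy => mem_ker h (hker ▸ k.2) _ hy
  choose σ hσ using ex
  let ρ : ψ.ker →* Equiv.Perm (Fin 4) := MonoidHom.mk' σ fun k l =>
    hu.ind_unique (hσ (k * l)) ((hσ k).mul (hσ l))
  have hρ : ρ.range ≤ alternatingGroup (Fin 4) := by
    rintro _ ⟨k, rfl⟩
    exact Equiv.Perm.mem_alternatingGroup.mpr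
      ((even_all h (hker ▸ k.2 : (k : Cz) ∈ (act htt (D := D)).ker) _).sign hu (hσ k))
  have hA : Nat.card (alternatingGroup (Fin 4)) = 12 := by
    rw [nat_card_alternatingGroup, Nat.card_fin]
    rfl
  have hρle : Nat.card ρ.range ≤ 12 := hA ▸ Nat.card_mono (Set.toFinite _) hρ
  set S := (C4 a b c d).subgroupOf Cz
  have hS : Nat.card S = 106168320 := by
    rw [Nat.card_congr (Subgroup.subgroupOfEquivOfLe q.C4_le).toEquiv, q.card_C4 h]
  let ψ' : S →* Equiv.Perm (Fin 126) := ψ.comp S.subtype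
  have hstb : stb ≤ ψ'.range := by
    refine (Subgroup.closure_le _).mpr ?_
    rintro _ ⟨l, rfl⟩
    obtain ⟨m, -, m2, m3⟩ := fr.exists_col l.castSucc
    exact ⟨⟨m, m2 (by simp)⟩, m3⟩
  have h2048 : Nat.card ψ'.ker ≤ 2048 := by
    have h1 := ψ'.ker.card_mul_index
    rw [Subgroup.index_ker, hS] at h1
    have h2 : 51840 ≤ Nat.card ψ'.range := card_stb.trans (Nat.card_mono (Set.toFinite _) hstb)
    nlinarith
  have hρker : Nat.card ρ.ker ≤ Nat.card ψ'.ker := by
    have inS : ∀ k : ρ.ker, ((k : ψ.ker) : Cz) ∈ S := fun k => mem_C4_iff.mpr fun x hx => by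
      obtain ⟨i, rfl⟩ := hu.cover x hx
      have h1 := hσ k.1 i
      rw [show σ k.1 = 1 from k.2, Equiv.Perm.one_apply] at h1
      exact mul_inv_eq_iff_eq_mul.mp h1
    refine Nat.card_le_card_of_injective (fun k => ⟨⟨_, inS k⟩, k.1.2⟩) fun k l e => ?_
    exact Subtype.ext (Subtype.ext (congrArg (fun x : ψ'.ker => (x : S).1) e :))
  have h1 := ρ.ker.card_mul_index
  rw [Subgroup.index_ker] at h1
  have h2 := ψ.ker.card_mul_index
  rw [Subgroup.index_ker] at h2
  have h3 := q.card_cz_le h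
  have h4 : Nat.card ψ.range ≤ 13063680 := Frame.tab_range_le (h := h) φ
  have hk : Nat.card ψ.ker ≤ 24576 := by
    rw [← h1]; exact (Nat.mul_le_mul (hρker.trans h2048) hρle).trans (by norm_num)
  have hk' : 24576 ≤ Nat.card ψ.ker := by
    have := Nat.mul_le_mul_left (Nat.card ψ.ker) h4
    rw [h2] at this
    omega
  have hkk : Nat.card ψ.ker = 24576 := le_antisymm hk hk'
  have hrr : Nat.card ψ.range = 13063680 := by
    rw [hkk] at h2
    omega
  refine ⟨by rw [← h2, hkk, hrr], hrr, hkk, fun π hπ => ?_⟩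
  have h12 : 12 ≤ Nat.card ρ.range := by
    by_contra hlt
    have := Nat.mul_le_mul (hρker.trans h2048) (show Nat.card ρ.range ≤ 11 by omega)
    rw [h1, hkk] at this
    omega
  have heq : ρ.range = alternatingGroup (Fin 4) := Subgroup.eq_of_le_of_card_ge hρ (hA.le.trans h12)
  obtain ⟨k, rfl⟩ : π ∈ ρ.range := by rw [heq]; exact Equiv.Perm.mem_alternatingGroup.mpr hπ
  exact ⟨k, k.2, hσ k⟩

end Cfsg.Agent.H49.Tetrad
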