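import Cfsg.Agent.H49.Tetrad.FixEven
import Cfsg.Agent.H49.Tetrad.Bound

/-!
The elements fixing every tetrad are even on each, and they are translations on one tetrad only if
they are translations on all.
-/

set_option autoImplicit false

namespace Cfsg.Agent.H49.Tetrad

open Cfsg.Agent.H93

variable {G : Type*} [Group G] {D : Set G} {z : G}

/-- evenness on a tetrad -/
def Ev (k : G) (T : Tet D z) : Prop :=
  ∃ u σ, Enum T u ∧ Ind k u σ ∧ Equiv.Perm.sign σ = 1

/-- translations on a tetrad -/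
def Tr (k : G) (T : Tet D z) : Prop := ∃ u σ, Enum T u ∧ Ind k u σ ∧ IsTl σ

theorem Tr.ev {k : G} {T : Tet D z} : Tr k T → Ev k T := fun ⟨u, σ, h1, h2, h3⟩ =>
  ⟨u, σ, h1, h2, ((isTl_iff σ).mp h3).1⟩

theorem Ev.sign {k : G} {T : Tet D z} {u : Fin 4 → G} {σ : Equiv.Perm (Fin 4)} (h : Ev k T)
    (hu : Enum T u) (hσ : Ind k u σ) : Equiv.Perm.sign σ = 1 := by
  obtain ⟨u', σ', h1, h2, h3⟩ := h
  obtain ⟨π, rfl⟩ := h1.change hu h2 hσ
  simp [h3]

theorem Tr.isTl {k : G} {T : Tet D z} {u : Fin 4 → G} {σ : Equiv.Perm (Fin 4)} (h : Tr k T)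
    (hu : Enum T u) (hσ : Ind k u σ) : IsTl σ := by
  obtain ⟨u', σ', h1, h2, h3⟩ := h
  obtain ⟨π, rfl⟩ := h1.change hu h2 hσ
  exact isTl_conj h3

theorem exists_enum' (T : Tet D z) : ∃ u : Fin 4 → G, Enum T u := by
  obtain ⟨d, hd⟩ := T.2.nonempty
  obtain ⟨u, hu, -⟩ := exists_enum T hd
  exact ⟨u, hu⟩

variable [Finite G] (h : H61.M24.Geo24 D)

include h

theorem far_transfer {k : G} (hk : ∀ U : Tet D z, ∀ y ∈ U.1, k * y * k⁻¹ ∈ U.1) {T U : Tet D z}
    (hne : T ≠ U) (hn : ¬ TAdj T U) : (Ev k T ↔ Ev k U) ∧ (Tr k T ↔ Tr k U) := by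
  have htt := h.data.core.tt
  obtain ⟨u, hu⟩ := exists_enum' T
  obtain ⟨e, he⟩ := U.2.nonempty
  have hv := sweep htt h.data.ind hu hne hn he
  obtain ⟨σ, hσ⟩ := hu.exists_ind (hk T)
  obtain ⟨σ', hσ'⟩ := hv.exists_ind (hk U)
  obtain ⟨c, rfl⟩ := ind_far htt h.data.ind hu hne hn he hσ hσ'
  refine ⟨⟨fun q => ⟨_, _, hv, hσ', ?_⟩, fun q => ⟨_, _, hu, hσ, ?_⟩⟩,
    ⟨fun q => ⟨_, _, hv, hσ', ?_⟩, fun q => ⟨_, _, hu, hσ, ?_⟩⟩⟩
  · rw [map_mul, sign_tl, one_mul, q.sign hu hσ]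
  · have := q.sign hv hσ'
    rwa [map_mul, sign_tl, one_mul] at this
  · exact isTl_mul ⟨c, rfl⟩ (q.isTl hu hσ)
  · have := isTl_mul ⟨c, rfl⟩ (q.isTl hv hσ')
    rwa [← mul_assoc, tl_mul, xo_self, show tl (0 : Fin 4) = 1 from Equiv.ext fun i => by
      show xo 0 i = i; rw [xo_comm, xo_zero], one_mul] at this

theorem uniform {k : G} (hk : ∀ U : Tet D z, ∀ y ∈ U.1, k * y * k⁻¹ ∈ U.1) (T U : Tet D z) :
    (Ev k T ↔ Ev k U) ∧ (Tr k T ↔ Tr k U) := by
  by_cases hne : T = U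
  · subst hne; exact ⟨Iff.rfl, Iff.rfl⟩
  by_cases hn : TAdj T U
  · obtain ⟨e, he⟩ := (tspace h).loc T
    obtain ⟨i, hi⟩ := he.cover U hn
    obtain ⟨j, hj⟩ := Finset.card_pos.mp (show 0 < (Finset.univ.filter fun m => qA i m = true).card by
      rw [qA_deg]; norm_num)
    have hij : TAdj (e i) (e j) := (he.iff i j).mpr (Finset.mem_filter.mp hj).2
    obtain ⟨e', he'⟩ := (tspace h).loc (e j)
    obtain ⟨p1, hp1⟩ := he'.cover T ((tspace h).symm _ _ (he.mem j))
    obtain ⟨p2, hp2⟩ := he'.cover U (hi ▸ hij.symm)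
    obtain ⟨m, m1, m2, n1, n2⟩ := qA_apart p1 p2
    have a1 := far_transfer h hk (T := T) (U := e' m) (fun q => m1 (he'.inj (q.symm.trans hp1.symm)))
      (fun q => by
        rw [← hp1] at q
        rw [(he'.iff p1 m).mp q] at n1
        exact Bool.noConfusion n1)
    have a2 := far_transfer h hk (T := U) (U := e' m) (fun q => m2 (he'.inj (q.symm.trans hp2.symm)))
      (fun q => by
        rw [← hp2] at q
        rw [(he'.iff p2 m).mp q] at n2
        exact Bool.noConfusion n2)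
    exact ⟨a1.1.trans a2.1.symm, a1.2.trans a2.2.symm⟩
  · exact far_transfer h hk hne hn

theorem mem_ker {k : ↥(Subgroup.centralizer ({z} : Set G))} (hk : k ∈ (act h.data.core.tt (D := D)).ker)
    (U : Tet D z) {y : G} (hy : y ∈ U.1) : (k : G) * y * (k : G)⁻¹ ∈ U.1 := by
  have := act_mem (g := k) h.data.core.tt hy
  rwa [MonoidHom.mem_ker.mp hk] at this

/-- two members of one tetrad together fix every tetrad -/
theorem pair_mem_ker (U : Tet D z) {x y : G} (hx : x ∈ U.1) (hy : y ∈ U.1) :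
    memC U hx * memC U hy ∈ (act h.data.core.tt (D := D)).ker := by
  have htt := h.data.core.tt
  have hind := h.data.ind
  rw [MonoidHom.mem_ker, map_mul, act_member htt hind U hy, ← act_member htt hind U hx, ← map_mul,
    show memC U hx * memC U hx = 1 from Subtype.ext (htt.sq x (U.2.mem hx)), map_one]

/-- two members of one tetrad together are translations on every tetrad -/
theorem pair_tr (U : Tet D z) {x y : G} (hx : x ∈ U.1) (hy : y ∈ U.1) (T : Tet D z) :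
    Tr (x * y) T := by
  have hk := pair_mem_ker h U hx hy
  refine ((uniform h (k := x * y) (fun V w hw => mem_ker h hk V hw) T U).2).mpr ?_
  obtain ⟨u, hu⟩ := exists_enum' U
  refine ⟨u, 1, hu, fun i => ?_, ⟨0, Equiv.ext fun i => ?_⟩⟩
  · have hc : Commute (x * y) (u i) := (U.2.com hx (hu.mem i)).mul_left (U.2.com hy (hu.mem i))
    rw [hc.eq, mul_inv_cancel_right]
    rfl
  · show i = xo 0 i
    rw [xo_comm, xo_zero]

/-- every element fixing all tetrads is even on each -/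
theorem even_all {k : ↥(Subgroup.centralizer ({z} : Set G))}
    (hk : k ∈ (act h.data.core.tt (D := D)).ker) (T : Tet D z) : Ev (k : G) T := by
  have htt := h.data.core.tt
  have hkU := fun U y (hy : y ∈ (U : Tet D z).1) => mem_ker h hk U hy
  obtain ⟨d, hd⟩ := T.2.nonempty
  obtain ⟨u, hu, hu0⟩ := exists_enum T hd
  obtain ⟨σ, hσ⟩ := hu.exists_ind (hkU T)
  obtain ⟨U, hne, hn⟩ := (tspace h).exists_far T
  obtain ⟨v, hv⟩ := exists_enum' U
  have hsweep := sweep htt h.data.ind hv hne.symm (fun q => hn q.symm) (hu.mem (σ 0))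
  obtain ⟨j, hj⟩ := hsweep.cover d hd
  obtain ⟨i, l, hil⟩ := pr_mem htt hv j
  rw [hil _ (T.2.commute_prod (hu.mem _))] at hj
  have hgk := mul_mem (pair_mem_ker h U (hv.mem i) (hv.mem l)) hk
  set g := v i * v l with hg
  have hgkU : ∀ V : Tet D z, ∀ y ∈ V.1, g * k * y * (g * k)⁻¹ ∈ V.1 := fun V y hy =>
    mem_ker h hgk V hy
  have hd' : Commute (g * k) d := by
    refine mul_inv_eq_iff_eq_mul.mp ?_
    calc g * k * d * (g * k)⁻¹ = g * ((k : G) * u 0 * (k : G)⁻¹) * g⁻¹ := by rw [hu0]; group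
      _ = d := by rw [hσ]; exact hj
  have hz : Commute (g * k) z :=
    ((U.2.commute_prod (hv.mem i)).mul_left (U.2.commute_prod (hv.mem l))).mul_left (commute_cz k)
  obtain ⟨V, -, hV⟩ := fix_even h hz hgkU T hd hd'
  have hT : Ev (g * k) T := ((uniform h hgkU T V).1).mpr hV
  obtain ⟨τ, hτ⟩ := hu.exists_ind (k := g) fun y hy => mem_ker h (pair_mem_ker h U (hv.mem i) (hv.mem l)) T hy
  have h1 := (pair_tr h U (hv.mem i) (hv.mem l) T).ev.sign hu hτ
  have h2 := hT.sign hu (hτ.mul hσ)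
  rw [map_mul, h1, one_mul] at h2
  exact ⟨u, σ, hu, hσ, h2⟩

end Cfsg.Agent.H49.Tetrad
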