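import Cfsg.Agent.H49.Tetrad.Diam
import Cfsg.Agent.H33.M22Free.Count

/-!
Groups of type M(24): a member commuting with two members, outside the common neighbours of a far pair,
meets exactly 72 of those meeting one of them; so exactly 72 common neighbours commute with a product
of four.
-/

set_option autoImplicit false

namespace Cfsg.Agent.H49.Tetrad

open Cfsg.Agent.H93 Cfsg.Agent.H61.M24

/-- equality in the two moments makes the number of related points constant -/
theorem flat {G : Type*} [Group G] [Finite G] {D : Set G} {S P : Set G} {K lam μ t n s x : ℕ}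
    (hPS : P ⊆ S) (hSD : S ⊆ D) (hs : S.ncard = s) (hn : P.ncard = n)
    (hK : ∀ r ∈ P, (S ∩ nb D r).ncard = K) (ht : ∀ r ∈ P, (P ∩ nb D r).ncard = t)
    (hlam : ∀ r ∈ P, ∀ r' ∈ P, r' ∈ nb D r → (S ∩ (nb D r ∩ nb D r')).ncard = lam)
    (hμ : ∀ r ∈ P, ∀ r' ∈ P, ¬ Commute r r' → (S ∩ (nb D r ∩ nb D r')).ncard = μ)
    (num1 : (s - n) * x + n * t = n * K)
    (num2 : (s - n) * x ^ 2 + n * t ^ 2 = n * (K + (t * lam + (n - 1 - t) * μ)))
    {f : G} (hf : f ∈ S) (hfP : f ∉ P) : (P ∩ nb D f).ncard = x := by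
  classical
  haveI := Fintype.ofFinite G
  let R : G → G → Prop := fun r g => g ∈ nb D r
  have toSet : ∀ (T : Set G) (p : G → Prop) [DecidablePred p],
      (T.toFinset.filter p).card = {u | u ∈ T ∧ p u}.ncard := fun T p _ => by
    rw [← Set.ncard_coe_finset]
    congr 1
    ext u
    simp
  obtain ⟨m1, m2⟩ := moments (S := S.toFinset) (P := P.toFinset) (R := R) (K := K) (lam := lam) (μ := μ)
    (t := t) (Set.toFinset_subset_toFinset.mpr hPS) (fun r q => q.2.1 rfl)
    (fun r hr g _ q => nb_symm (hSD (Set.mem_toFinset.mp hr)) q)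
    (fun r hr => by rw [toSet]; exact hK r (Set.mem_toFinset.mp hr))
    (fun r hr => by rw [toSet]; exact ht r (Set.mem_toFinset.mp hr))
    (fun r hr r' hr' q => by
      rw [toSet]; exact hlam r (Set.mem_toFinset.mp hr) r' (Set.mem_toFinset.mp hr') q)
    (fun r hr r' hr' hne q => by
      rw [toSet]
      exact hμ r (Set.mem_toFinset.mp hr) r' (Set.mem_toFinset.mp hr')
        fun c => q ⟨hSD (hPS (Set.mem_toFinset.mp hr')), hne.symm, c⟩)
  have hPk : P.toFinset.card = n := by rw [← hn]; exact (Set.ncard_eq_toFinset_card' _).symm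
  have hout : (S.toFinset \ P.toFinset).card = s - n := by
    rw [Finset.card_sdiff_of_subset (Set.toFinset_subset_toFinset.mpr hPS), hPk, ← hs,
      Set.ncard_eq_toFinset_card']
  rw [hPk] at m1 m2
  let v : G → ℤ := fun g => ((P.toFinset.filter fun r => R r g).card : ℤ)
  have e1 : ∑ g ∈ S.toFinset \ P.toFinset, v g = ((s - n : ℕ) : ℤ) * x := by
    simp only [v]; exact_mod_cast (show _ = (s - n) * x by omega)
  have e2 : ∑ g ∈ S.toFinset \ P.toFinset, v g ^ 2 = ((s - n : ℕ) : ℤ) * x ^ 2 := by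
    simp only [v]
    exact_mod_cast (Nat.add_right_cancel (m2.trans num2.symm))
  have e0 : ∑ g ∈ S.toFinset \ P.toFinset, (v g - x) ^ 2 = 0 := by
    have : ∀ g, (v g - x) ^ 2 = v g ^ 2 - 2 * (x : ℤ) * v g + (x : ℤ) ^ 2 := fun g => by ring
    simp only [this, Finset.sum_add_distrib, Finset.sum_sub_distrib, ← Finset.mul_sum, e1, e2,
      Finset.sum_const, hout, nsmul_eq_mul]
    ring
  have hfs : f ∈ S.toFinset \ P.toFinset := Finset.mem_sdiff.mpr
    ⟨Set.mem_toFinset.mpr hf, fun u => hfP (Set.mem_toFinset.mp u)⟩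
  have h0 := eq_zero_of_pow_eq_zero
    ((Finset.sum_eq_zero_iff_of_nonneg fun g _ => sq_nonneg (v g - x)).mp e0 f hfs)
  have h' : (P.toFinset.filter fun r => R r f).card = x := by
    simp only [v] at h0
    omega
  rw [toSet] at h'
  rw [← h']
  congr 1
  ext w
  exact ⟨fun q => ⟨q.1, nb_symm (hSD hf) q.2⟩, fun q => ⟨q.1, nb_symm (hSD (hPS q.1)) q.2⟩⟩

/-- three neighbourhoods inside a fourth, read in the residue -/
theorem card_res_three {G : Type*} [Group G] {D : Set G} (h : Core D) {z p q s : G} (hz : z ∈ D)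
    (hp : p ∈ nb D z) (hq : q ∈ nb D z) (hs : s ∈ nb D z) :
    (nb D z ∩ ((nb D p ∩ nb D q) ∩ nb D s)).ncard =
      (common (resSet D z) (rimg D z p) (rimg D z q) ∩ nb (resSet D z) (rimg D z s)).ncard := by
  have key : ∀ {p x}, p ∈ nb D z → x ∈ nb D z →
      (rimg D z x ∈ nb (resSet D z) (rimg D z p) ↔ x ∈ nb D p) := by
    intro p x hp hx
    exact ⟨fun e => ⟨hx.1, fun u => e.2.1 (by rw [u]), (h.rimg_comm hp hx).mp e.2.2⟩,
      fun e => h.rimg_nb hz hp ⟨hx, e⟩⟩
  refine Set.BijOn.ncard_eq (f := rimg D z) ⟨?_, ?_, ?_⟩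
  · intro x hx
    exact ⟨⟨(key hp hx.1).mpr hx.2.1.1, (key hq hx.1).mpr hx.2.1.2⟩, (key hs hx.1).mpr hx.2.2⟩
  · intro x hx y hy e
    exact (h.rimg_inj hz hx.1 hy.1).mp e
  · intro e he
    obtain ⟨x, hx, rfl⟩ := rimg_surj he.1.1.1
    exact ⟨x, ⟨hx, ⟨(key hp hx).mp he.1.1, (key hq hx).mp he.1.2⟩, (key hs hx).mp he.2⟩, rfl⟩

/-- the count of common neighbours three deep in a group of type M(23) -/
theorem slice23 {G : Type*} [Group G] [Finite G] {D : Set G} (h : Geo23 D) {a d t : G} (ha : a ∈ D)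
    (hd : d ∈ D) (hn : ¬ Commute a d) (ht : t ∈ nb D d) (htn : t ∉ common D a d) :
    (common D a d ∩ nb D t).ncard = 63 := by
  obtain ⟨K, iK, iKF, h22⟩ := h.res d hd
  refine flat (K := 693) (lam := 180) (μ := 126) (t := 126) (n := 351) (s := 3510) (S := nb D d)
    (P := common D a d) (fun y hy => hy.2) (fun y hy => hy.1) (h.card_nb hd)
    (h.card_common ha hd hn) (fun r hr => Geo23.card_nb_nb h hd hr.2) (fun r hr => h.card_slice ha hd hn hr)
    (fun r hr r' hr' q => ?_) (fun r hr r' hr' q => ?_) (by norm_num) (by norm_num) ht htn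
  · rw [card_res_common h.core hd hr.2 hr'.2]
    exact H33.M22Free.card_two_nb h22 (rimg_mem hr.2) (h.core.rimg_nb hd hr.2 ⟨hr'.2, q⟩)
  · rw [card_res_common h.core hd hr.2 hr'.2]
    exact h22.card_common (rimg_mem hr.2) (rimg_mem hr'.2) fun u => q ((h.core.rimg_comm hr.2 hr'.2).mp u)

variable {G : Type*} [Group G] [Finite G] {D : Set G} {z : G}

/-- 72 common neighbours meet two given outside members -/
theorem slice_two (h : Geo24 D) {a b c e : G} (ha : a ∈ D) (he : e ∈ D) (hn : ¬ Commute a e)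
    (hb : b ∈ nb D a) (hbe : ¬ Commute b e) (hc : c ∈ nb D a ∩ nb D b) (hce : ¬ Commute c e) :
    (common D a e ∩ nb D b ∩ nb D c).ncard = 72 := by
  have hcore := h.data.core
  have hga := (h.data.res a ha).1
  have hP : (common D a e ∩ nb D b).ncard = 360 := by
    have := slice_out h he ha (fun k => hn k.symm) hb fun k => hbe k.1.2.2.symm
    rwa [common, Set.inter_comm (nb D e)] at this
  refine flat (K := 693) (lam := 180) (μ := 126) (t := 63) (n := 360) (s := 3510)
    (S := nb D a ∩ nb D b) (P := common D a e ∩ nb D b) (fun y hy => ⟨hy.1.1, hy.2⟩)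
    (fun y hy => hy.1.1) (h.data.card_nb_nb ha hb) hP (fun r hr => ?_) (fun r hr => ?_)
    (fun r hr r' hr' q => ?_) (fun r hr r' hr' q => ?_) (by norm_num) (by norm_num) hc
    (fun k => hce k.1.2.2.2.symm)
  · rw [Set.inter_assoc]
    exact h.data.card_nb_three ha hb ⟨hr.1.1, hr.2⟩
  · have hgr := (h.data.res r hr.1.1.1).1
    have ar := nb_symm ha hr.1.1
    have er := nb_symm he hr.1.2
    have br := nb_symm hb.1 hr.2
    rw [show common D a e ∩ nb D b ∩ nb D r = nb D r ∩ ((nb D e ∩ nb D a) ∩ nb D b) by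
      ext y; simp only [common, Set.mem_inter_iff]; tauto,
      card_res_three hcore hr.1.1.1 er ar br]
    refine slice23 hgr (rimg_mem er) (rimg_mem ar) (fun u => hn ((hcore.rimg_comm er ar).mp u).symm)
      (hcore.rimg_nb hr.1.1.1 ar ⟨br, hb⟩) fun u => hbe ?_
    exact ((hcore.rimg_comm er br).mp u.1.2.2).symm
  · rw [show nb D a ∩ nb D b ∩ (nb D r ∩ nb D r') = nb D a ∩ ((nb D b ∩ nb D r) ∩ nb D r') by
      ext y; simp only [Set.mem_inter_iff]; tauto, card_res_three hcore ha hb hr.1.1 hr'.1.1]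
    have mb : rimg D a b ∈ resSet D a := rimg_mem hb
    have m1 := hcore.rimg_nb ha hb ⟨hr.1.1, hr.2⟩
    have m2 := hcore.rimg_nb ha hb ⟨hr'.1.1, hr'.2⟩
    obtain ⟨K, iK, iKF, h22⟩ := hga.res _ mb
    rw [common, Set.inter_assoc, card_res_common hga.core mb m1 m2]
    exact H33.M22Free.card_two_nb h22 (rimg_mem m1)
      (hga.core.rimg_nb mb m1 ⟨m2, hcore.rimg_nb ha hr.1.1 ⟨hr'.1.1, q⟩⟩)
  · rw [show nb D a ∩ nb D b ∩ (nb D r ∩ nb D r') = nb D a ∩ ((nb D r ∩ nb D r') ∩ nb D b) by
      ext y; simp only [Set.mem_inter_iff]; tauto, card_res_three hcore ha hr.1.1 hr'.1.1 hb]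
    exact hga.card_slice (rimg_mem hr.1.1) (rimg_mem hr'.1.1)
      (fun u => q ((hcore.rimg_comm hr.1.1 hr'.1.1).mp u))
      ⟨hcore.rimg_nb ha hr.1.1 ⟨hb, nb_symm hb.1 hr.2⟩, hcore.rimg_nb ha hr'.1.1 ⟨hb, nb_symm hb.1 hr'.2⟩⟩

/-- the common neighbours commuting with the product -/
theorem card_fixed_common (h : Geo24 D) {a b c d : G} (q : Quad D z a b c d) {e : G}
    (he : e ∈ D) (hez : Commute e z) (hn : ¬ Commute a e) :
    {y | y ∈ common D a e ∧ Commute y z}.ncard = 72 := by
  have htt := h.data.core.tt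
  have ha := q.mem a (by simp)
  have hnd := q.nd
  simp only [List.nodup_cons, List.mem_cons, List.not_mem_nil, or_false, not_or] at hnd
  have mk : ∀ {x y : G}, x ∈ [a, b, c, d] → y ∈ [a, b, c, d] → x ≠ y → y ∈ nb D x :=
    fun hx hy hne => ⟨q.mem _ hy, hne.symm, q.com _ hx _ hy⟩
  have far : ∀ t ∈ [b, c, d], ¬ Commute t e := fun t ht k => hn (q.tetrad.commute_all htt he hez
    (List.mem_cons_of_mem _ ht) k.symm (by simp [qset])).symm
  rw [← slice_two h ha he hn (mk (by simp) (by simp) hnd.1.1) (far b (by simp)) (c := c)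
    ⟨mk (by simp) (by simp) hnd.1.2.1, mk (by simp) (by simp) hnd.2.1.1⟩ (far c (by simp))]
  congr 1
  ext y
  constructor
  · rintro ⟨hy, hyz⟩
    have hya : Commute y a := hy.1.2.2.symm
    have hall : ∀ t ∈ [b, c, d], Commute y t ∧ y ≠ t := fun t ht =>
      ⟨q.tetrad.commute_all htt hy.1.1 hyz (by simp [qset]) hya (List.mem_cons_of_mem _ ht),
        fun k => far t ht (k ▸ hy.2.2.2.symm)⟩
    exact ⟨⟨hy, hy.1.1, (hall b (by simp)).2, (hall b (by simp)).1.symm⟩, hy.1.1,
      (hall c (by simp)).2, (hall c (by simp)).1.symm⟩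
  · rintro ⟨⟨hy, hyb⟩, hyc⟩
    have hd := q.mem d (by simp)
    have hyD := hy.1.1
    have hyd : Commute y d := by
      by_contra hnd'
      have hz : z = a * b * c * d := by rw [← q.prod]; simp [mul_assoc]
      have hzi : z⁻¹ = z := inv_eq_of_mul_eq_one_left (q.sq htt)
      have hg : a * b * c * d * y * (a * b * c * d)⁻¹ = d * y * d := by
        have cy : Commute (d * y * d) (a * b * c) := by
          have p1 : Commute (a * b * c) d := ((q.com a (by simp) d (by simp)).mul_left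
            (q.com b (by simp) d (by simp))).mul_left (q.com c (by simp) d (by simp))
          have p2 : Commute (a * b * c) y := (hy.1.2.2.mul_left hyb.2.2).mul_left hyc.2.2
          exact ((p1.mul_right p2).mul_right p1).symm
        calc a * b * c * d * y * (a * b * c * d)⁻¹ =
            (a * b * c) * (d * y * d⁻¹) * (a * b * c)⁻¹ := by group
          _ = d * y * d := by rw [htt.inv_eq hd, cy.symm.eq, mul_inv_cancel_right]
      have hconj := htt.common_conj z hy
      rw [mul_inv_eq_iff_eq_mul.mpr (q.commute_mem (x := a) (by simp [qset])).symm.eq,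
        mul_inv_eq_iff_eq_mul.mpr hez.symm.eq, show z * y * z⁻¹ = d * y * d by rw [hz]; exact hg] at hconj
      have := htt.common_conj y hconj
      rw [mul_inv_eq_iff_eq_mul.mpr hy.1.2.2.symm.eq, mul_inv_eq_iff_eq_mul.mpr hy.2.2.2.symm.eq,
        htt.inv_eq hyD, ← htt.braid hyD hd hnd', show y * (y * d * y) * y = (y * y) * d * (y * y) by group,
        htt.sq y hyD, one_mul, mul_one] at this
      exact far d (by simp) this.2.2.2.symm
    refine ⟨hy, ?_⟩
    rw [← q.prod]
    refine Commute.list_prod_right _ _ fun t ht => ?_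
    simp only [List.mem_cons, List.not_mem_nil, or_false] at ht
    rcases ht with rfl | rfl | rfl | rfl
    exacts [hy.1.2.2.symm, hyb.2.2.symm, hyc.2.2.symm, hyd]

end Cfsg.Agent.H49.Tetrad
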